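import Mathlib.LinearAlgebra.Matrix.ToLin
import Mathlib.LinearAlgebra.Matrix.Symmetric
import Mathlib.Algebra.Order.BigOperators.Ring.Finset
import Mathlib.Tactic.Linarith
import Mathlib.Tactic.Ring
import Mathlib.Tactic.LinearCombination

/-!
# Symmetric matrices with non-negative off-diagonal entries and a positive vector
-/

set_option autoImplicit false

open Finset Matrix

namespace Groth.Agent.Lib.NumType.Form

variable {ι R : Type*} [Fintype ι] [CommRing R]

lemma two_quadForm_identity (A : Matrix ι ι R) (hs : A.IsSymm) (y m : ι → R) :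
    2 * ((fun i => y i * m i) ⬝ᵥ A.mulVec (fun i => y i * m i)) =
      2 * ∑ i, y i ^ 2 * m i * A.mulVec m i -
        ∑ i, ∑ j, A i j * (m i * m j * (y i - y j) ^ 2) := by
  have h1 : ∑ i, ∑ j, A i j * (m i * m j * y j ^ 2) = ∑ i, y i ^ 2 * m i * A.mulVec m i := by
    rw [Finset.sum_comm]
    refine Finset.sum_congr rfl fun j _ => ?_
    simp only [Matrix.mulVec, dotProduct, Finset.mul_sum]
    refine Finset.sum_congr rfl fun i _ => ?_
    rw [hs.apply j i]; ring
  have h2 : ∑ i, ∑ j, A i j * (m i * m j * y i ^ 2) = ∑ i, y i ^ 2 * m i * A.mulVec m i := by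
    refine Finset.sum_congr rfl fun i _ => ?_
    simp only [Matrix.mulVec, dotProduct, Finset.mul_sum]
    exact Finset.sum_congr rfl fun j _ => by ring
  have h3 : ((fun i => y i * m i) ⬝ᵥ A.mulVec (fun i => y i * m i)) =
      ∑ i, ∑ j, A i j * (m i * m j * (y i * y j)) := by
    simp only [Matrix.mulVec, dotProduct, Finset.mul_sum]
    exact Finset.sum_congr rfl fun i _ => Finset.sum_congr rfl fun j _ => by ring
  have h4 : ∀ i j, A i j * (m i * m j * (y i - y j) ^ 2) =
      A i j * (m i * m j * y i ^ 2) + A i j * (m i * m j * y j ^ 2) -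
        2 * (A i j * (m i * m j * (y i * y j))) := fun i j => by ring
  simp only [h4, Finset.sum_sub_distrib, Finset.sum_add_distrib, ← Finset.mul_sum]
  rw [h1, h2, h3]; ring

variable [LinearOrder R] [IsStrictOrderedRing R]

omit [Fintype ι] in
lemma term_nonneg (A : Matrix ι ι R) (hA : ∀ i j, i ≠ j → 0 ≤ A i j) (m : ι → R)
    (hm : ∀ i, 0 < m i) (y : ι → R) (i j : ι) :
    0 ≤ A i j * (m i * m j * (y i - y j) ^ 2) := by
  rcases eq_or_ne i j with rfl | h
  · simp
  · exact mul_nonneg (hA i j h) (mul_nonneg (mul_pos (hm i) (hm j)).le (sq_nonneg _))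

/-- The quadratic form is semi-negative, with control of the null vectors. -/
lemma quadForm_nonpos (A : Matrix ι ι R) (hs : A.IsSymm) (hA : ∀ i j, i ≠ j → 0 ≤ A i j)
    (m : ι → R) (hm : ∀ i, 0 < m i) (hle : ∀ i, A.mulVec m i ≤ 0) (y : ι → R) :
    (fun i => y i * m i) ⬝ᵥ A.mulVec (fun i => y i * m i) ≤ 0 ∧
      ((fun i => y i * m i) ⬝ᵥ A.mulVec (fun i => y i * m i) = 0 →
        (∀ i, y i ≠ 0 → A.mulVec m i = 0) ∧ ∀ i j, A i j ≠ 0 → y i = y j) := by
  have hid := two_quadForm_identity A hs y m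
  have h1 : ∀ i, y i ^ 2 * m i * A.mulVec m i ≤ 0 := fun i =>
    mul_nonpos_of_nonneg_of_nonpos (mul_nonneg (sq_nonneg _) (hm i).le) (hle i)
  have h2 := term_nonneg A hA m hm y
  have H1 : ∑ i, y i ^ 2 * m i * A.mulVec m i ≤ 0 := Finset.sum_nonpos fun i _ => h1 i
  have H2 : 0 ≤ ∑ i, ∑ j, A i j * (m i * m j * (y i - y j) ^ 2) :=
    Finset.sum_nonneg fun i _ => Finset.sum_nonneg fun j _ => h2 i j
  refine ⟨by linarith, fun h0 => ?_⟩
  have e1 : ∑ i, y i ^ 2 * m i * A.mulVec m i = 0 := by linarith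
  have e2 : ∑ i, ∑ j, A i j * (m i * m j * (y i - y j) ^ 2) = 0 := by linarith
  constructor
  · intro i hy
    have := (Finset.sum_eq_zero_iff_of_nonpos fun i _ => h1 i).1 e1 i (mem_univ _)
    exact (mul_eq_zero.1 this).resolve_left (mul_ne_zero (pow_ne_zero _ hy) (hm i).ne')
  · intro i j hij
    have := (Finset.sum_eq_zero_iff_of_nonneg fun i _ => Finset.sum_nonneg fun j _ => h2 i j).1 e2 i
      (mem_univ _)
    have := (Finset.sum_eq_zero_iff_of_nonneg fun j _ => h2 i j).1 this j (mem_univ _)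
    have := (mul_eq_zero.1 this).resolve_left hij
    have := (mul_eq_zero.1 this).resolve_left (mul_ne_zero (hm i).ne' (hm j).ne')
    exact sub_eq_zero.1 (pow_eq_zero_iff (by norm_num) |>.1 this)


omit [LinearOrder R] [IsStrictOrderedRing R] in
lemma eq_of_connected {β : Type*} [DecidableEq ι] (A : Matrix ι ι R)
    (hconn : ∀ I : Finset ι, I.Nonempty → I ≠ univ → ∃ i ∈ I, ∃ j ∉ I, A i j ≠ 0)
    (f : ι → β) (h : ∀ i j, A i j ≠ 0 → f i = f j) (i j : ι) : f i = f j := by
  classical
  by_contra hne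
  obtain ⟨a, ha, b, hb, hab⟩ := hconn (univ.filter fun k => f k = f i) ⟨i, by simp⟩ fun he => by
    have hj : j ∈ (univ.filter fun k => f k = f i) := by rw [he]; exact mem_univ j
    exact hne (mem_filter.1 hj).2.symm
  exact hb (by simp [← h a b hab, (mem_filter.1 ha).2])

end Groth.Agent.Lib.NumType.Form
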