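import Groth.Prelude.Def_Models
import Groth.Agent.Lib.NumType.Form
import Mathlib.Algebra.Order.Field.Rat
import Mathlib.Algebra.Ring.Int.Parity
import Mathlib.Tactic.FieldSimp
import Mathlib.Tactic.Positivity

/-!
# Numerical types: elementary lemmas, maximum principle
-/

set_option autoImplicit false

open Finset Matrix Models

namespace Groth.Agent.Lib.NumType.Basic

variable {n : ℕ} (T : NumericalType n)

lemma sum_row (i : Fin n) : ∑ j, T.a i j * T.m j = 0 := congrFun T.mulVec_m i

lemma sum_off (i : Fin n) : ∑ j ∈ univ.erase i, T.a i j * T.m j = -(T.a i i * T.m i) := by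
  have h := sum_row T i
  rw [← Finset.add_sum_erase _ _ (mem_univ i)] at h
  linarith

lemma a_comm (i j : Fin n) : T.a i j = T.a j i := T.symm.apply j i

lemma off_nonneg {i j : Fin n} (h : j ∈ univ.erase i) : 0 ≤ T.a i j :=
  T.offDiag_nonneg i j (Ne.symm (ne_of_mem_erase h))

lemma pos_of_ne_zero {i j : Fin n} (hij : i ≠ j) (h : T.a i j ≠ 0) : 0 < T.a i j :=
  lt_of_le_of_ne (T.offDiag_nonneg i j hij) (Ne.symm h)

lemma exists_nbr (hn : 1 < n) (i : Fin n) : ∃ j, j ≠ i ∧ 0 < T.a i j := by
  obtain ⟨a, ha, b, hb, hab⟩ := T.connected {i} (singleton_nonempty i) fun h => by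
    have := congrArg Finset.card h
    simp at this; omega
  rw [mem_singleton] at ha hb
  subst ha
  exact ⟨b, hb, pos_of_ne_zero T (Ne.symm hb) hab⟩

lemma diag_neg (hn : 1 < n) (i : Fin n) : T.a i i < 0 := by
  obtain ⟨j, hj, hpos⟩ := exists_nbr T hn i
  have h1 : T.a i j * T.m j ≤ ∑ k ∈ univ.erase i, T.a i k * T.m k :=
    Finset.single_le_sum (f := fun k => T.a i k * T.m k)
      (fun k hk => mul_nonneg (off_nonneg T hk) (T.m_pos k).le) (by simp [hj])
  rw [sum_off] at h1
  by_contra h0
  nlinarith [mul_pos hpos (T.m_pos j), T.m_pos i, mul_nonneg (not_lt.1 h0) (T.m_pos i).le]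

lemma diag_zero_of_one (T : NumericalType 1) : T.a 0 0 = 0 := by
  have h := sum_row T 0
  simp only [Fin.sum_univ_one] at h
  exact (mul_eq_zero.1 h).resolve_right (T.m_pos 0).ne'

lemma diag_nonpos (i : Fin n) : T.a i i ≤ 0 := by
  rcases Nat.lt_or_ge 1 n with h | h
  · exact (diag_neg T h i).le
  · obtain rfl : n = 1 := by have := T.pos; omega
    obtain rfl : i = 0 := Subsingleton.elim _ _
    exact (diag_zero_of_one T).le

lemma off_mul_le {i j : Fin n} (hij : i ≠ j) : T.a i j * T.m i ≤ -(T.a j j * T.m j) := by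
  rw [← sum_off, a_comm]
  exact Finset.single_le_sum (f := fun k => T.a j k * T.m k)
    (fun k hk => mul_nonneg (off_nonneg T hk) (T.m_pos k).le) (by simp [hij])

lemma w_le {i j : Fin n} (h : 0 < T.a i j) : T.w i ≤ T.a i j ∧ T.w j ≤ T.a i j :=
  ⟨Int.le_of_dvd h (T.w_dvd i j), Int.le_of_dvd h (a_comm T i j ▸ T.w_dvd j i)⟩

lemma two_dvd_sum : (2 : ℤ) ∣ ∑ i, T.m i * T.a i i := by
  have h : (((∑ i, T.m i * T.a i i) : ℤ) : ZMod 2) = 0 := by
    push_cast
    have key : ∑ i, ∑ j, ((T.m i : ZMod 2) * T.a i j * T.m j) = 0 := by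
      have : ∀ i, ∑ j, T.m i * T.a i j * T.m j = 0 := fun i => by
        simp only [mul_assoc, ← Finset.mul_sum, sum_row, mul_zero]
      exact Finset.sum_eq_zero fun i _ => by
        have := congrArg (Int.cast : ℤ → ZMod 2) (this i); push_cast at this; exact this
    rw [← Fintype.sum_prod_type'
      (f := fun i j => (T.m i : ZMod 2) * T.a i j * T.m j)] at key
    rw [← Finset.sum_filter_add_sum_filter_not _ (fun p : Fin n × Fin n => p.1 = p.2)] at key
    have h0 : ∑ p ∈ univ.filter (fun p : Fin n × Fin n => ¬p.1 = p.2),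
        (T.m p.1 : ZMod 2) * T.a p.1 p.2 * T.m p.2 = 0 := by
      refine Finset.sum_involution (fun p _ => p.swap) (fun p _ => ?_) (fun p hp _ => ?_)
        (fun p hp => ?_) (fun p _ => Prod.swap_swap p)
      · simp only [Prod.fst_swap, Prod.snd_swap, a_comm T p.2 p.1]
        rw [show (T.m p.2 : ZMod 2) * T.a p.1 p.2 * T.m p.1 =
          T.m p.1 * T.a p.1 p.2 * T.m p.2 by ring]
        exact CharTwo.add_self_eq_zero _
      · simp only [mem_filter] at hp
        intro he
        exact hp.2 (congrArg Prod.snd he)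
      · simp only [mem_filter, mem_univ, true_and, Prod.fst_swap, Prod.snd_swap] at hp ⊢
        exact fun h => hp h.symm
    rw [h0, add_zero] at key
    have hd : ∑ p ∈ univ.filter (fun p : Fin n × Fin n => p.1 = p.2),
        (T.m p.1 : ZMod 2) * T.a p.1 p.2 * T.m p.2 = ∑ i, (T.m i : ZMod 2) * T.a i i := by
      refine Finset.sum_bij' (fun p _ => p.1) (fun i _ => (i, i)) ?_ ?_ ?_ ?_ ?_
      · simp
      · simp
      · intro p hp; simp only [mem_filter] at hp; exact Prod.ext rfl hp.2
      · simp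
      · intro p hp
        simp only [mem_filter] at hp
        rw [← hp.2]
        have : (T.m p.1 : ZMod 2) * T.m p.1 = T.m p.1 := by
          generalize (T.m p.1 : ZMod 2) = z; revert z; decide
        linear_combination (T.a p.1 p.1 : ZMod 2) * this
    rw [hd] at key
    exact key
  exact_mod_cast (ZMod.intCast_zmod_eq_zero_iff_dvd _ 2).1 h

/-- The maximum principle: a non-negative non-zero vector `x` with `(a x) i ≥ 0` on its support is
proportional to `m`. -/
lemma proportional (x : Fin n → ℤ) (hx : ∀ i, 0 ≤ x i) (hne : ∃ i, x i ≠ 0)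
    (h : ∀ i, x i ≠ 0 → 0 ≤ ∑ j, T.a i j * x j) (i j : Fin n) :
    x i * T.m j = x j * T.m i := by
  have : Nonempty (Fin n) := ⟨i⟩
  obtain ⟨i0, -, hmax⟩ := Finset.exists_max_image univ (fun k => (x k : ℚ) / (T.m k : ℚ)) univ_nonempty
  have hz : ∀ k, 0 ≤ x i0 * T.m k - x k * T.m i0 := fun k => by
    have := hmax k (mem_univ k)
    rw [div_le_div_iff₀ (by exact_mod_cast T.m_pos k) (by exact_mod_cast T.m_pos i0)] at this
    have : x k * T.m i0 ≤ x i0 * T.m k := by exact_mod_cast this
    linarith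
  have hx0 : 0 < x i0 := by
    obtain ⟨k, hk⟩ := hne
    have hk' := lt_of_le_of_ne (hx k) (Ne.symm hk)
    by_contra h0
    have := hz k
    nlinarith [mul_pos hk' (T.m_pos i0), T.m_pos k, hx i0]
  have closed : ∀ a b, T.a a b ≠ 0 → x i0 * T.m a - x a * T.m i0 = 0 →
      x i0 * T.m b - x b * T.m i0 = 0 := by
    intro a b hab ha
    rcases eq_or_ne a b with rfl | hne'
    · exact ha
    have hxa : x a ≠ 0 := by
      intro h0; rw [h0] at ha; nlinarith [mul_pos hx0 (T.m_pos a)]
    have hsum : ∑ k ∈ univ.erase a, T.a a k * (x i0 * T.m k - x k * T.m i0) ≤ 0 := by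
      have e : ∑ k, T.a a k * (x i0 * T.m k - x k * T.m i0) =
          -(T.m i0 * ∑ k, T.a a k * x k) := by
        have : ∀ k, T.a a k * (x i0 * T.m k - x k * T.m i0) =
            x i0 * (T.a a k * T.m k) - T.m i0 * (T.a a k * x k) := fun k => by ring
        simp only [this, Finset.sum_sub_distrib, ← Finset.mul_sum, sum_row, mul_zero, zero_sub]
      rw [← Finset.add_sum_erase _ _ (mem_univ a), ha, mul_zero, zero_add] at e
      have := h a hxa
      rw [e]; nlinarith [T.m_pos i0]
    have hnn : ∀ k ∈ univ.erase a, 0 ≤ T.a a k * (x i0 * T.m k - x k * T.m i0) :=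
      fun k hk => mul_nonneg (off_nonneg T hk) (hz k)
    have := (Finset.sum_eq_zero_iff_of_nonneg hnn).1 (le_antisymm hsum (Finset.sum_nonneg hnn)) b
      (by simp [Ne.symm hne'])
    exact (mul_eq_zero.1 this).resolve_left hab
  have hall : ∀ k, x i0 * T.m k - x k * T.m i0 = 0 := by
    intro k
    by_contra hk
    have := Form.eq_of_connected T.a T.connected (fun l => decide (x i0 * T.m l - x l * T.m i0 = 0))
      (fun a b hab => by
        simp only [decide_eq_decide]
        exact ⟨closed a b hab, closed b a (by rwa [a_comm] at hab)⟩) i0 k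
    simp [hk] at this
  have h1 := hall i
  have h2 := hall j
  have : T.m i0 * (x i * T.m j) = T.m i0 * (x j * T.m i) := by
    linear_combination T.m i * h2 - T.m j * h1
  exact mul_left_cancel₀ (T.m_pos i0).ne' this

/-- Restricted form of the maximum principle: the vector has full support and is in the kernel. -/
lemma full_support (x : Fin n → ℤ) (hx : ∀ i, 0 ≤ x i) (hne : ∃ i, x i ≠ 0)
    (h : ∀ i, x i ≠ 0 → 0 ≤ ∑ j, T.a i j * x j) :
    (∀ i, 0 < x i) ∧ ∀ i, ∑ j, T.a i j * x j = 0 := by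
  obtain ⟨k, hk⟩ := hne
  have hk' := lt_of_le_of_ne (hx k) (Ne.symm hk)
  have hp := proportional T x hx ⟨k, hk⟩ h
  refine ⟨fun i => ?_, fun i => ?_⟩
  · refine lt_of_le_of_ne (hx i) fun h0 => ?_
    have := hp k i
    rw [← h0] at this
    nlinarith [mul_pos hk' (T.m_pos i)]
  · have : T.m k * ∑ j, T.a i j * x j = 0 := by
      rw [Finset.mul_sum, ← mul_zero (x k), ← sum_row T i, Finset.mul_sum]
      exact Finset.sum_congr rfl fun j _ => by linear_combination T.a i j * hp j k
    exact (mul_eq_zero.1 this).resolve_left (T.m_pos k).ne'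

/-! ## Contributions to the genus -/

/-- Twice the contribution of the index `i` to `genus - 1`. -/
def contrib (i : Fin n) : ℤ := T.m i * (2 * T.w i * (T.g i - 1) - T.a i i)

lemma sum_contrib : ∑ i, contrib T i = 2 * T.genus - 2 := by
  obtain ⟨c, hc⟩ := two_dvd_sum T
  have e : ∀ i, contrib T i = 2 * (T.m i * T.w i * (T.g i - 1)) - T.m i * T.a i i :=
    fun i => by unfold contrib; ring
  simp only [e, Finset.sum_sub_distrib, ← Finset.mul_sum, NumericalType.genus, hc]
  rw [Int.mul_ediv_cancel_left _ two_ne_zero]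
  ring

lemma diag_eq (hn : 1 < n) (i : Fin n) : ∃ k : ℤ, 1 ≤ k ∧ T.a i i = -(k * T.w i) := by
  obtain ⟨c, hc⟩ := T.w_dvd i i
  refine ⟨-c, ?_, by rw [hc]; ring⟩
  have := diag_neg T hn i
  by_contra h
  nlinarith [T.w_pos i]

lemma isMinusOne_of_contrib_neg (hn : 1 < n) (i : Fin n) (h : contrib T i < 0) :
    T.IsMinusOne i := by
  obtain ⟨k, hk, he⟩ := diag_eq T hn i
  unfold contrib at h
  rw [he] at h
  have h2 : 2 * (T.g i - 1) + k < 0 := by
    by_contra h2
    nlinarith [mul_nonneg (mul_pos (T.m_pos i) (T.w_pos i)).le (not_lt.1 h2)]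
  have hg := T.g_nonneg i
  refine ⟨by omega, ?_⟩
  rw [he, show k = 1 by omega, one_mul]

lemma isMinusTwo_of_contrib_zero (hn : 1 < n) (i : Fin n) (h : contrib T i = 0) :
    T.IsMinusTwo i := by
  obtain ⟨k, hk, he⟩ := diag_eq T hn i
  unfold contrib at h
  rw [he] at h
  have h2 : 2 * (T.g i - 1) + k = 0 := by
    have : T.m i * T.w i * (2 * (T.g i - 1) + k) = 0 := by linarith
    exact (mul_eq_zero.1 this).resolve_left (mul_pos (T.m_pos i) (T.w_pos i)).ne'
  have hg := T.g_nonneg i
  refine ⟨by omega, ?_⟩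
  rw [he, show k = 2 by omega]; ring

lemma contrib_eq_zero_of_isMinusTwo (i : Fin n) (h : T.IsMinusTwo i) : contrib T i = 0 := by
  unfold contrib; rw [h.1, h.2]; ring

lemma contrib_nonneg (hmin : T.IsMinimal) (hn : 1 < n) (i : Fin n) : 0 ≤ contrib T i :=
  not_lt.1 fun h => hmin i (isMinusOne_of_contrib_neg T hn i h)

lemma one_le_genus (hmin : T.IsMinimal) (hn : 1 < n) : 1 ≤ T.genus := by
  have := sum_contrib T
  have : 0 ≤ ∑ i, contrib T i := Finset.sum_nonneg fun i _ => contrib_nonneg T hmin hn i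
  linarith

lemma isMinusTwo_of_genus_one (hmin : T.IsMinimal) (hn : 1 < n) (hg : T.genus = 1) (i : Fin n) :
    T.IsMinusTwo i := by
  have h : ∑ i, contrib T i = 0 := by rw [sum_contrib, hg]; ring
  exact isMinusTwo_of_contrib_zero T hn i
    ((Finset.sum_eq_zero_iff_of_nonneg fun i _ => contrib_nonneg T hmin hn i).1 h i (mem_univ _))

end Groth.Agent.Lib.NumType.Basic
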