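import Groth.Agent.Lib.NumType.Basic

/-!
# Counting edges of the dual graph of a numerical type
-/

set_option autoImplicit false

open Finset Models
open Groth.Agent.Lib.NumType.Basic

namespace Groth.Agent.Lib.NumType.Edges

variable {n : ℕ} (T : NumericalType n)

/-- The neighbours of `i` lying in `D`. -/
def nbrs (D : Finset (Fin n)) (i : Fin n) : Finset (Fin n) := D.filter fun j => j ≠ i ∧ 0 < T.a i j

/-- Twice (number of edges inside `D` minus the number of vertices of `D`). -/
def excess (D : Finset (Fin n)) : ℤ := ∑ i ∈ D, (((nbrs T D i).card : ℤ) - 2)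

lemma mem_nbrs {D : Finset (Fin n)} {i j : Fin n} :
    j ∈ nbrs T D i ↔ j ∈ D ∧ j ≠ i ∧ 0 < T.a i j := by simp [nbrs]

lemma excess_insert {D : Finset (Fin n)} {v : Fin n} (hv : v ∉ D) :
    excess T (insert v D) = excess T D + 2 * (nbrs T D v).card - 2 := by
  classical
  have h1 : nbrs T (insert v D) v = nbrs T D v := by
    ext j; simp only [mem_nbrs, mem_insert]; tauto
  have h2 : ∀ i ∈ D, ((nbrs T (insert v D) i).card : ℤ) =
      (nbrs T D i).card + (if i ∈ nbrs T D v then 1 else 0) := by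
    intro i hi
    by_cases h : i ∈ nbrs T D v
    · have : nbrs T (insert v D) i = insert v (nbrs T D i) := by
        ext j
        simp only [mem_nbrs, mem_insert]
        rw [mem_nbrs, a_comm] at h
        constructor
        · tauto
        · rintro (rfl | ⟨a, b, c⟩)
          · exact ⟨.inl rfl, Ne.symm h.2.1, h.2.2⟩
          · exact ⟨.inr a, b, c⟩
      rw [this, if_pos h, card_insert_of_notMem (fun hh => hv ((mem_nbrs T).1 hh).1)]
      push_cast; ring
    · have : nbrs T (insert v D) i = nbrs T D i := by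
        ext j
        simp only [mem_nbrs, mem_insert]
        constructor
        · rintro ⟨rfl | a, b, c⟩
          · exact absurd ((mem_nbrs T).2 ⟨hi, Ne.symm b, a_comm T i j ▸ c⟩) h
          · exact ⟨a, b, c⟩
        · tauto
      rw [this, if_neg h, add_zero]
  have h3 : ∑ i ∈ D, (if i ∈ nbrs T D v then (1 : ℤ) else 0) = (nbrs T D v).card := by
    rw [Finset.sum_boole, Nat.cast_inj]
    congr 1
    ext j; simp only [mem_filter, mem_nbrs]; tauto
  unfold excess
  rw [sum_insert hv, h1, Finset.sum_congr rfl (fun i hi => by rw [h2 i hi])]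
  simp only [Finset.sum_sub_distrib, Finset.sum_add_distrib, h3, Finset.sum_const, nsmul_eq_mul]
  ring

lemma sum_nbrs_card :
    ∑ i, (nbrs T univ i).card = 2 * T.edgeCount := by
  have h1 : ∑ i, (nbrs T univ i).card =
      (univ.filter fun p : Fin n × Fin n => p.2 ≠ p.1 ∧ 0 < T.a p.1 p.2).card := by
    rw [Finset.card_eq_sum_ones, Finset.sum_filter, Fintype.sum_prod_type]
    refine Finset.sum_congr rfl fun i _ => ?_
    rw [nbrs, Finset.card_eq_sum_ones, Finset.sum_filter]
  have h2 : (univ.filter fun p : Fin n × Fin n => p.2 ≠ p.1 ∧ 0 < T.a p.1 p.2) =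
      (univ.filter fun p : Fin n × Fin n => p.1 < p.2 ∧ 0 < T.a p.1 p.2) ∪
      (univ.filter fun p : Fin n × Fin n => p.2 < p.1 ∧ 0 < T.a p.1 p.2) := by
    ext p; simp only [mem_filter, mem_univ, true_and, mem_union]
    constructor
    · rintro ⟨a, b⟩
      rcases lt_or_gt_of_ne a with h | h
      · exact .inr ⟨h, b⟩
      · exact .inl ⟨h, b⟩
    · rintro (⟨a, b⟩ | ⟨a, b⟩)
      · exact ⟨ne_of_gt a, b⟩
      · exact ⟨ne_of_lt a, b⟩
  have h3 : (univ.filter fun p : Fin n × Fin n => p.2 < p.1 ∧ 0 < T.a p.1 p.2).card =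
      (univ.filter fun p : Fin n × Fin n => p.1 < p.2 ∧ 0 < T.a p.1 p.2).card := by
    refine Finset.card_bij' (fun p _ => p.swap) (fun p _ => p.swap) ?_ ?_ ?_ ?_ <;>
      intro p hp <;> simp_all [a_comm T p.1 p.2]
  rw [h1, h2, Finset.card_union_of_disjoint ?_, h3, NumericalType.edgeCount, two_mul]
  rw [Finset.disjoint_filter]
  intro p _ a b
  exact lt_asymm a.1 b.1

lemma excess_univ : excess T univ = -2 * (1 - T.topGenus) := by
  have := sum_nbrs_card T
  simp only [excess, Finset.sum_sub_distrib, Finset.sum_const, card_univ, Fintype.card_fin,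
    nsmul_eq_mul, ← Nat.cast_sum, this, NumericalType.topGenus]
  push_cast; ring

lemma topGenus_nonneg : 0 ≤ T.topGenus := by
  classical
  have : Nonempty (Fin n) := ⟨⟨0, T.pos⟩⟩
  suffices H : ∀ k, 1 ≤ k → k ≤ n → ∃ D : Finset (Fin n), D.card = k ∧ -2 ≤ excess T D by
    obtain ⟨D, hc, hD⟩ := H n T.pos le_rfl
    obtain rfl : D = univ := eq_univ_of_card D (by simpa using hc)
    rw [excess_univ] at hD; linarith
  intro k hk
  induction k, hk using Nat.le_induction with
  | base => exact fun _ => ⟨{⟨0, T.pos⟩}, by simp, by simp [excess, nbrs]⟩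
  | succ k hk ih =>
    intro hkn
    obtain ⟨D, hc, hD⟩ := ih (by omega)
    obtain ⟨i, hi, j, hj, hij⟩ := T.connected D (card_pos.1 (by omega)) (fun h => by
      rw [h, card_univ, Fintype.card_fin] at hc; omega)
    refine ⟨insert j D, by rw [card_insert_of_notMem hj, hc], ?_⟩
    have h1 : 1 ≤ (nbrs T D j).card := card_pos.2 ⟨i, (mem_nbrs T).2 ⟨hi, fun h => hj (h ▸ hi),
      a_comm T i j ▸ pos_of_ne_zero T (fun h => hj (h ▸ hi)) hij⟩⟩
    rw [excess_insert T hj]; omega

/-- Every set contains one of minimal valence two and at least the same excess. -/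
lemma exists_core (D : Finset (Fin n)) :
    ∃ D' ⊆ D, excess T D ≤ excess T D' ∧ ∀ i ∈ D', 2 ≤ (nbrs T D' i).card := by
  classical
  induction D using Finset.strongInduction with
  | H D ih =>
    by_cases h : ∀ i ∈ D, 2 ≤ (nbrs T D i).card
    · exact ⟨D, Finset.Subset.rfl, le_rfl, h⟩
    · obtain ⟨v, hv⟩ := not_forall.1 h
      obtain ⟨hv, hlt⟩ := Classical.not_imp.1 hv
      have he : nbrs T (D.erase v) v = nbrs T D v := by
        ext j; simp only [mem_nbrs, mem_erase]; tauto
      obtain ⟨D', hsub, hle, hD'⟩ := ih (D.erase v) (erase_ssubset hv)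
      refine ⟨D', hsub.trans (erase_subset _ _), le_trans ?_ hle, hD'⟩
      have := excess_insert T (notMem_erase v D)
      rw [insert_erase hv, he] at this
      omega

lemma topGenus_le_genus (hmin : T.IsMinimal) (hn : 1 < n) : T.topGenus ≤ T.genus := by
  classical
  obtain ⟨D, -, hle, hdeg⟩ := exists_core T univ
  suffices H : excess T D ≤ 2 * T.genus - 2 by
    rw [excess_univ] at hle; linarith
  rw [← sum_contrib]
  refine le_trans ?_ (Finset.sum_le_sum_of_subset_of_nonneg (subset_univ D)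
    fun i _ _ => contrib_nonneg T hmin hn i)
  have h1 : ∀ i ∈ D, ∑ j ∈ nbrs T D i, T.a i j * T.m j - 2 * (T.m i * T.w i) ≤ contrib T i := by
    intro i _
    have hs : ∑ j ∈ nbrs T D i, T.a i j * T.m j ≤ -(T.a i i * T.m i) := by
      rw [← sum_off]
      exact Finset.sum_le_sum_of_subset_of_nonneg
        (fun j hj => by simp [((mem_nbrs T).1 hj).2.1])
        (fun j hj _ => mul_nonneg (off_nonneg T hj) (T.m_pos j).le)
    unfold contrib
    nlinarith [mul_nonneg (mul_pos (T.m_pos i) (T.w_pos i)).le (T.g_nonneg i)]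
  refine le_trans ?_ (Finset.sum_le_sum h1)
  have h2 : ∑ i ∈ D, ∑ j ∈ nbrs T D i, T.a i j * T.m j = ∑ i ∈ D, ∑ j ∈ nbrs T D i, T.a i j * T.m i := by
    simp only [nbrs, Finset.sum_filter]
    rw [Finset.sum_comm]
    refine Finset.sum_congr rfl fun i _ => Finset.sum_congr rfl fun j _ => ?_
    rw [a_comm T j i]
    simp only [ne_comm (a := i) (b := j)]
  rw [Finset.sum_sub_distrib, h2, ← Finset.sum_sub_distrib]
  refine Finset.sum_le_sum fun i hi => ?_
  have h3 : ((nbrs T D i).card : ℤ) * (T.m i * T.w i) ≤ ∑ j ∈ nbrs T D i, T.a i j * T.m i := by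
    rw [← nsmul_eq_mul, ← Finset.sum_const]
    refine Finset.sum_le_sum fun j hj => ?_
    have := w_le T ((mem_nbrs T).1 hj).2.2
    nlinarith [T.m_pos i]
  have h4 : (2 : ℤ) ≤ (nbrs T D i).card := by exact_mod_cast hdeg i hi
  have : 1 ≤ T.m i * T.w i := mul_pos (T.m_pos i) (T.w_pos i)
  nlinarith

end Groth.Agent.Lib.NumType.Edges
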