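import Groth.Agent.Lib.NumType.Proper
import Groth.Agent.Lib.NumType.Edges

/-!
# Bound on the entries of a minimal numerical type
-/

set_option autoImplicit false

open Finset Models
open Groth.Agent.Lib.NumType.Basic Groth.Agent.Lib.NumType.Paths Groth.Agent.Lib.NumType.Proper
open Groth.Agent.Lib.NumType.Config

namespace Groth.Agent.Lib.NumType.Bound

variable {n : ℕ} {T : NumericalType n}

/-- The potential `m i * w i`. -/
def pot (T : NumericalType n) (i : Fin n) : ℤ := T.m i * T.w i

/-- `x` has no neighbour other than `v`. -/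
def IsLeaf (T : NumericalType n) (x v : Fin n) : Prop := ∀ j, j ≠ x → T.a x j ≠ 0 → j = v

/-- A (-2)-index all of whose neighbours are (-2)-indices. -/
def Harmonic (T : NumericalType n) (v : Fin n) : Prop :=
  T.IsMinusTwo v ∧ ∀ j, j ≠ v → T.a v j ≠ 0 → T.IsMinusTwo j

lemma pot_pos (v : Fin n) : 0 < pot T v := mul_pos (T.m_pos v) (T.w_pos v)

lemma pot_half {x v : Fin n} (hx : T.IsMinusTwo x) (hne : x ≠ v) (h : T.a x v ≠ 0) :
    pot T v ≤ 2 * pot T x := by
  have h1 := off_mul_le T hne.symm
  rw [hx.2, a_comm T v x] at h1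
  have h2 := (w_le T (pos_of_ne_zero T hne h)).2
  have h3 := mul_le_mul_of_nonneg_left h2 (T.m_pos v).le
  unfold pot
  nlinarith

lemma pos_eq {x y : Fin n} (h : 0 < T.a x y) (hx : T.IsMinusTwo x) : x ≠ y := by
  rintro rfl
  have := T.w_pos x
  rw [hx.2] at h; omega

lemma path_two {a b : Fin n} (ha : T.IsMinusTwo a) (hb : T.IsMinusTwo b) (h : 0 < T.a a b) :
    Path T 2 (fun i => if i = 0 then a else b) where
  inj i j hi hj e := by
    obtain rfl | rfl : i = 0 ∨ i = 1 := by omega
    all_goals obtain rfl | rfl : j = 0 ∨ j = 1 := by omega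
    all_goals simp at e
    all_goals first | rfl | exact absurd e (pos_eq h ha) | exact absurd e.symm (pos_eq h ha)
  two i hi := by split_ifs <;> assumption
  adj i hi := by
    obtain rfl : i = 0 := by omega
    simpa using h

/-- Prepend an index. -/
def cons (y : Fin n) (u : ℕ → Fin n) (i : ℕ) : Fin n := if i = 0 then y else u (i - 1)

lemma cons_zero (y : Fin n) (u : ℕ → Fin n) : cons y u 0 = y := rfl

lemma cons_succ (y : Fin n) (u : ℕ → Fin n) (i : ℕ) : cons y u (i + 1) = u i := rfl

lemma path_cons {t : ℕ} {u : ℕ → Fin n} (hP : Path T t u) {y : Fin n} (hy : T.IsMinusTwo y)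
    (hyu : ∀ i, i < t → u i ≠ y) (h : 0 < T.a (u 0) y) : Path T (t + 1) (cons y u) where
  inj i j hi hj e := by
    rcases i with _ | i <;> rcases j with _ | j
    · rfl
    · rw [cons_zero, cons_succ] at e; exact absurd e.symm (hyu j (by omega))
    · rw [cons_zero, cons_succ] at e; exact absurd e (hyu i (by omega))
    · rw [cons_succ, cons_succ] at e
      rw [hP.inj i j (by omega) (by omega) e]
  two i hi := by
    rcases i with _ | i
    · exact hy
    · exact hP.two i (by omega)
  adj i hi := by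
    rcases i with _ | i
    · rw [cons_zero, cons_succ, a_comm]; exact h
    · rw [cons_succ, cons_succ]; exact hP.adj i (by omega)

lemma cons_ne {t : ℕ} {u : ℕ → Fin n} {y z : Fin n} (h1 : y ≠ z) (h2 : ∀ i, i < t → u i ≠ z) :
    ∀ i, i < t + 1 → cons y u i ≠ z := by
  intro i hi
  rcases i with _ | i
  · exact h1
  · exact h2 i (by omega)

section
variable (hJ : ∃ j, ¬T.IsMinusTwo j)
include hJ

lemma no_type {C : Cfg} (h : HasType T C) : False := by
  obtain ⟨j, hj⟩ := hJ
  obtain ⟨σ, m, w, h2, -⟩ := h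
  exact hj (σ.apply_symm_apply j ▸ h2 (σ.symm j))

lemma path_lt {t : ℕ} {u : ℕ → Fin n} (hP : Path T t u) : t < n := by
  obtain ⟨j, hj⟩ := hJ
  have := Fintype.card_lt_of_injective_of_notMem (fun i : Fin t => u i)
    (fun a b h => Fin.ext (hP.inj a b a.2 b.2 h)) (b := j)
    (fun ⟨i, hi⟩ => hj (hi ▸ hP.two i i.2))
  simpa using this

lemma branched_lt {t : ℕ} {u : ℕ → Fin n} (hP : Path T t u) {z : Fin n} (hz : T.IsMinusTwo z)
    (hzu : ∀ i, i < t → u i ≠ z) : t + 1 < n := by
  obtain ⟨j, hj⟩ := hJ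
  have hinj : Function.Injective (fun i : Fin (t + 1) => if (i : ℕ) < t then u i else z) := by
    intro a b e
    simp only at e
    split_ifs at e with ha hb hb
    · exact Fin.ext (hP.inj a b ha hb e)
    · exact absurd e (hzu a ha)
    · exact absurd e.symm (hzu b hb)
    · exact Fin.ext (by omega)
  have := Fintype.card_lt_of_injective_of_notMem _ hinj (b := j) (by
    rintro ⟨i, hi⟩
    simp only at hi
    split_ifs at hi with ha
    · exact hj (hi ▸ hP.two i ha)
    · exact hj (hi ▸ hz))
  simpa using this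

lemma tree {t : ℕ} {u : ℕ → Fin n} (hP : Path T t u) {z : Fin n} (hz : T.IsMinusTwo z)
    (hzu : ∀ i, i < t → u i ≠ z) {k : ℕ} (hk1 : 1 ≤ k) (hk2 : k + 2 ≤ t) (hza : T.a (u k) z ≠ 0) :
    ∃ w, ShapeA T t u w ∧ T.w z = w ∧ T.a (u k) z = w ∧
      (∀ i j, i + 1 < j → j < t → T.a (u i) (u j) = 0) ∧
      ∀ i, i < t → i ≠ k → T.a (u i) z = 0 :=
  tree_shape hP hz hzu hk1 hk2 (branched_lt hJ hP hz hzu) hza

/-- One step along a leg of a branched configuration. -/
lemma leg_next {t : ℕ} {u : ℕ → Fin n} (hP : Path T t u) {z : Fin n} (hz : T.IsMinusTwo z)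
    (hzu : ∀ i, i < t → u i ≠ z) {k : ℕ} (hk1 : 1 ≤ k) (hk2 : k + 2 ≤ t) (hza : T.a (u k) z ≠ 0)
    (hh : Harmonic T (u 0)) :
    (IsLeaf T (u 0) (u 1) ∧ 2 * T.m (u 0) = T.m (u 1)) ∨
      ∃ y, Path T (t + 1) (cons y u) ∧ (∀ i, i < t + 1 → cons y u i ≠ z) ∧
        T.w y = T.w (u 0) ∧ 2 * T.m (u 0) = T.m (u 1) + T.m y := by
  classical
  have h01 : u 0 ≠ u 1 := fun e => absurd (hP.inj _ _ (by omega) (by omega) e) (by omega)
  obtain ⟨w, ⟨hw, ha⟩, hwz, -, hnc, hzn⟩ := tree hJ hP hz hzu hk1 hk2 hza
  by_cases hl : IsLeaf T (u 0) (u 1)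
  · left
    refine ⟨hl, ?_⟩
    have h := sum_off T (u 0)
    rw [Finset.sum_eq_single (u 1) (fun j hj hj1 => by
        by_contra hne
        exact hj1 (hl j (ne_of_mem_erase hj) (left_ne_zero_of_mul hne)))
      (fun h => absurd (by simp [h01.symm]) h), hh.1.2, ha 0 (by omega), hw 0 (by omega)] at h
    apply mul_left_cancel₀ (hwz ▸ T.w_pos z : 0 < w).ne'
    linarith
  · right
    simp only [IsLeaf, not_forall, exists_prop] at hl
    obtain ⟨y, hy0, hay, hy1⟩ := hl
    have hy2 := hh.2 y hy0 hay
    have hnot : ∀ x, x ≠ u 0 → x ≠ u 1 → T.a (u 0) x ≠ 0 → (∀ i, i < t → u i ≠ x) ∧ x ≠ z := by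
      intro x hx0 hx1 hax
      refine ⟨fun i hi e => ?_, fun e => hax (e ▸ hzn 0 (by omega) (by omega))⟩
      subst e
      rcases (show i = 0 ∨ i = 1 ∨ 2 ≤ i by omega) with rfl | rfl | h
      · exact hx0 rfl
      · exact hx1 rfl
      · exact hax (hnc 0 i (by omega) hi)
    obtain ⟨hyu, hyz⟩ := hnot y hy0 hy1 hay
    have hP' := path_cons hP hy2 hyu (pos_of_ne_zero T hy0.symm hay)
    have hzu' := cons_ne hyz hzu
    obtain ⟨w', ⟨hw', ha'⟩, hwz', -⟩ := tree hJ hP' hz hzu' (k := k + 1) (by omega) (by omega)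
      (by rw [cons_succ]; exact hza)
    have eay : T.a (u 0) y = w := by
      have e := ha' 0 (by omega)
      rw [cons_zero, cons_succ] at e
      rw [a_comm, e, ← hwz', hwz]
    have ewy : T.w y = T.w (u 0) := by
      rw [show y = cons y u 0 from rfl, hw' 0 (by omega), ← hwz', hwz, hw 0 (by omega)]
    refine ⟨y, hP', hzu', ewy, ?_⟩
    have honly : ∀ x, x ≠ u 0 → x ≠ u 1 → x ≠ y → T.a (u 0) x = 0 := by
      intro x hx0 hx1 hxy
      by_contra hax
      obtain ⟨hxu, hxz⟩ := hnot x hx0 hx1 hax
      have hQ := hP'.sub 0 (k + 3) (by omega)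
      refine no_type hJ (hQ.fork_fork_type (y := x) (z := z) (by omega) (hh.2 x hx0 hax) hz hxz
        (fun i hi => cons_ne (Ne.symm hxy) hxu _ (by omega)) (fun i hi => hzu' _ (by omega)) ?_ ?_).2
      · show 0 < T.a (cons y u (0 + 1)) x
        exact pos_of_ne_zero T hx0.symm hax
      · show 0 < T.a (cons y u (0 + (k + 3 - 2))) z
        rw [show 0 + (k + 3 - 2) = k + 1 by omega, cons_succ]
        exact pos_of_ne_zero T (hzu k (by omega)) hza
    have h := sum_off T (u 0)
    rw [← Finset.sum_subset (s₁ := {u 1, y}) (fun j hj => by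
        simp only [mem_insert, mem_singleton] at hj
        rcases hj with rfl | rfl
        · simp [h01.symm]
        · simp [hy0])
      (fun j hj hjS => by
        simp only [mem_insert, mem_singleton, not_or] at hjS
        rw [honly j (ne_of_mem_erase hj) hjS.1 hjS.2, zero_mul]),
      sum_pair (Ne.symm hy1), hh.1.2, ha 0 (by omega), hw 0 (by omega), eay] at h
    apply mul_left_cancel₀ (hwz ▸ T.w_pos z : 0 < w).ne'
    linarith

end

/-- Neighbours. -/
def nb (T : NumericalType n) (v : Fin n) : Finset (Fin n) :=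
  univ.filter fun j => j ≠ v ∧ T.a v j ≠ 0

lemma mem_nb {v j : Fin n} : j ∈ nb T v ↔ j ≠ v ∧ T.a v j ≠ 0 := by simp [nb]

lemma row_nb {v : Fin n} (hv : T.IsMinusTwo v) :
    2 * pot T v = ∑ j ∈ nb T v, T.a v j * T.m j := by
  classical
  have h := sum_off T v
  rw [← Finset.sum_subset (s₁ := nb T v) (fun j hj => by simp [(mem_nb.1 hj).1])
    (fun j hj hjS => by
      by_contra hne
      exact hjS (mem_nb.2 ⟨ne_of_mem_erase hj, left_ne_zero_of_mul hne⟩)), hv.2] at h
  unfold pot; linarith

/-- The value of a neighbour's term. -/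
lemma term_simple {v j : Fin n} (h : Simple T v j) : T.a v j * T.m j = pot T j := by
  rw [h.2, pot]; ring

section
variable (hJ : ∃ j, ¬T.IsMinusTwo j) {P : ℤ}
  (hharm : ∀ v, T.IsMinusTwo v → P < 64 * pot T v → Harmonic T v)
include hJ hharm

omit hharm in
/-- A branched configuration with legs of lengths two, three and at least three is impossible at a
maximal index: one leg of length three, the other is longer. -/
lemma tail {u : ℕ → Fin n} (hP : Path T 5 u) {z : Fin n} (hz : T.IsMinusTwo z)
    (hzu : ∀ i, i < 5 → u i ≠ z) (hza : T.a (u 2) z ≠ 0) (W : ℤ) (hW : T.w (u 0) = W)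
    (hH : ∀ x, T.IsMinusTwo x → T.w x = W → T.m (u 2) ≤ 32 * T.m x → Harmonic T x)
    (e0 : 3 * T.m (u 0) = 2 * T.m (u 2)) (e1 : 6 * T.m (u 1) = 5 * T.m (u 2)) : False := by
  have hm := T.m_pos (u 2)
  rcases leg_next hJ hP hz hzu (k := 2) (by omega) (by omega) hza
      (hH _ (hP.two 0 (by omega)) hW (by linarith)) with ⟨-, e⟩ | ⟨y, hP6, hz6, hwy, e⟩
  · linarith
  rcases leg_next hJ hP6 hz hz6 (k := 3) (by omega) (by omega) hza
      (hH _ (hP6.two 0 (by omega)) (hwy.trans hW) (by rw [cons_zero]; linarith))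
    with ⟨-, e'⟩ | ⟨y', hP7, hz7, hwy', e'⟩
  · rw [cons_zero, cons_succ] at e'; linarith
  rw [cons_zero, cons_succ] at e'
  rcases leg_next hJ hP7 hz hz7 (k := 4) (by omega) (by omega) hza
      (hH _ (hP7.two 0 (by omega)) (hwy'.trans (by rw [cons_zero]; exact hwy.trans hW))
        (by rw [cons_zero]; linarith))
    with ⟨-, e''⟩ | ⟨y'', hP8, hz8, -, -⟩
  · rw [cons_zero, cons_succ, cons_zero] at e''; linarith
  exact no_type hJ (hP8.e8_type hz hz8 (pos_of_ne_zero T (hz8 5 (by omega)) hza)).2

/-- A leg of length two opposite to two legs of length at least three is impossible at a maximal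
index. -/
lemma one_leaf {b c a v : Fin n} (hb : T.IsMinusTwo b) (hc : T.IsMinusTwo c) (ha : T.IsMinusTwo a)
    (hv : T.IsMinusTwo v) (hbc : b ≠ c) (hba : b ≠ a) (hca : c ≠ a) (hvb : 0 < T.a v b)
    (hvc : 0 < T.a v c) (hva : 0 < T.a v a) (hbig : P < pot T v) (hnb : nb T v = {b, c, a})
    (hHb : Harmonic T b) (hHc : Harmonic T c)
    (hla : IsLeaf T a v) (hlb : ¬IsLeaf T b v) (hlc : ¬IsLeaf T c v) : False := by
  classical
  have hP : Path T 3 (cons b (fun i => if i = 0 then v else c)) :=
    path_cons (path_two hv hc hvc) hb (fun i hi => by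
      obtain rfl | rfl : i = 0 ∨ i = 1 := by omega
      · simpa using pos_eq hvb hv
      · simpa using hbc.symm) (by simpa using hvb)
  have hz : ∀ i, i < 3 → cons b (fun i => if i = 0 then v else c) i ≠ a :=
    cons_ne (t := 2) hba fun i hi => by
      obtain rfl | rfl : i = 0 ∨ i = 1 := by omega
      · simpa using pos_eq hva hv
      · simpa using hca
  rcases leg_next hJ hP ha hz (k := 1) le_rfl le_rfl (by simpa [cons] using hva.ne') hHb with
    ⟨h, -⟩ | ⟨b', hP4, hz4, -, eb⟩
  · exact hlb h
  rcases leg_next hJ hP4.rev ha (fun i hi => hz4 _ (by omega)) (k := 1) le_rfl (by omega)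
      (by simpa [cons] using hva.ne') (by simpa [cons] using hHc) with
    ⟨h, -⟩ | ⟨c', hP5, hz5, -, ec⟩
  · exact hlc (by simpa [cons] using h)
  generalize hu : cons c' (fun i => cons b' (cons b (fun i => if i = 0 then v else c)) (4 - 1 - i)) = u
    at hP5 hz5
  have u0 : u 0 = c' := by rw [← hu]; rfl
  have u1 : u 1 = c := by rw [← hu]; rfl
  have u2 : u 2 = v := by rw [← hu]; rfl
  have u3 : u 3 = b := by rw [← hu]; rfl
  have u4 : u 4 = b' := by rw [← hu]; rfl
  have hua : T.a (u 2) a ≠ 0 := by rw [u2]; exact hva.ne'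
  obtain ⟨W, ⟨hw, haw⟩, hwa, hawa, -, -⟩ := tree hJ hP5 ha hz5 (k := 2) (by omega) (by omega) hua
  rw [u2] at hawa
  have W0 : 0 < W := hwa ▸ T.w_pos a
  have ewv : T.w v = W := u2 ▸ hw 2 (by omega)
  simp [cons] at eb ec
  have ea : 2 * T.m a = T.m v := by
    have h := row_nb ha
    rw [show nb T a = {v} by
      ext j
      simp only [mem_nb, mem_singleton]
      exact ⟨fun h => hla j h.1 h.2, fun e => e ▸ ⟨pos_eq hva hv, (a_comm T v a ▸ hva).ne'⟩⟩,
      sum_singleton, a_comm T a v, hawa, pot, hwa] at h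
    apply mul_left_cancel₀ W0.ne'
    linarith
  have hcentre : 2 * T.m v = T.m b + T.m c + T.m a := by
    have h := row_nb hv
    have e1 : T.a v b = W := by rw [← u2, ← u3]; exact haw 2 (by omega)
    have e2 : T.a v c = W := by rw [a_comm, ← u2, ← u1]; exact haw 1 (by omega)
    rw [hnb, sum_insert (by simp [hbc, hba]), sum_pair hca, e1, e2, hawa, pot, ewv] at h
    apply mul_left_cancel₀ W0.ne'
    linarith
  have hH : ∀ x, T.IsMinusTwo x → T.w x = W → T.m v ≤ 32 * T.m x → Harmonic T x := fun x hx hwx hm => by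
    refine hharm x hx ?_
    rw [pot, hwx]
    rw [pot, ewv] at hbig
    nlinarith [T.m_pos x]
  have hhalf : ∀ x y, x ≠ y → T.IsMinusTwo x → T.w x = W → T.a y x = W → T.m y ≤ 2 * T.m x := by
    intro x y hxy hx hwx he
    have := off_mul_le T hxy.symm
    rw [hx.2, hwx, he] at this
    apply le_of_mul_le_mul_left _ W0
    linarith
  have hb2 : T.m v ≤ 2 * T.m b := hhalf b v (pos_eq hvb hv).symm hb (u3 ▸ hw 3 (by omega))
    (by rw [← u2, ← u3]; exact haw 2 (by omega))
  have hc2 : T.m v ≤ 2 * T.m c := hhalf c v (pos_eq hvc hv).symm hc (u1 ▸ hw 1 (by omega))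
    (by rw [a_comm, ← u2, ← u1]; exact haw 1 (by omega))
  have hb'2 : T.m b ≤ 2 * T.m b' := hhalf b' b
    (fun e => absurd (hP5.inj 4 3 (by omega) (by omega) (by rw [u4, u3, e])) (by omega))
    (u4 ▸ hP5.two 4 (by omega)) (u4 ▸ hw 4 (by omega)) (by rw [← u4, ← u3]; exact haw 3 (by omega))
  have hc'2 : T.m c ≤ 2 * T.m c' := hhalf c' c
    (fun e => absurd (hP5.inj 0 1 (by omega) (by omega) (by rw [u0, u1, e])) (by omega))
    (u0 ▸ hP5.two 0 (by omega)) (u0 ▸ hw 0 (by omega))
    (by rw [a_comm, ← u0, ← u1]; exact haw 0 (by omega))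
  rcases leg_next hJ hP5 ha hz5 (k := 2) (by omega) (by omega) hua
      (hH _ (hP5.two 0 (by omega)) (hw 0 (by omega)) (by rw [u0]; linarith [T.m_pos c'])) with
    ⟨-, e⟩ | ⟨c'', hP6, hz6, -, -⟩
  · rw [u0, u1] at e
    refine tail hJ hP5.rev ha (fun i hi => hz5 _ (by omega)) hua W (hw 4 (by omega))
      (fun x hx hwx hm => hH x hx hwx ?_) ?_ ?_
    · simpa [u2] using hm
    · simp only [Nat.sub_zero, Nat.reduceSub, u4, u2]; linarith
    · simp only [Nat.reduceSub, u3, u2]; linarith
  rcases leg_next hJ hP6.rev ha (fun i hi => hz6 _ (by omega)) (k := 2) (by omega) (by omega)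
      (by simpa [cons] using hua)
      (hH _ (hP6.rev.two 0 (by omega)) (by simpa [cons] using hw 4 (by omega))
        (by simp [cons, u4]; linarith [T.m_pos b'])) with
    ⟨-, e⟩ | ⟨b'', hP7, hz7, -, -⟩
  · simp [cons, u4, u3] at e
    refine tail hJ hP5 ha hz5 hua W (hw 0 (by omega)) (fun x hx hwx hm => hH x hx hwx ?_) ?_ ?_
    · simpa [u2] using hm
    · rw [u0, u2]; linarith
    · rw [u1, u2]; linarith
  exact no_type hJ (hP7.e7_type ha hz7 (pos_of_ne_zero T (hz7 3 (by omega))
    (by simpa [cons] using hua))).2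

/-- At a branched index of maximal potential every neighbour is maximal or a single index. -/
lemma branch_case {b c a v : Fin n} (hb : T.IsMinusTwo b) (hc : T.IsMinusTwo c) (ha : T.IsMinusTwo a)
    (hv : T.IsMinusTwo v) (hbc : b ≠ c) (hba : b ≠ a) (hca : c ≠ a) (hvb : 0 < T.a v b)
    (hvc : 0 < T.a v c) (hva : 0 < T.a v a) (hbig : P < pot T v) (hnb : nb T v = {b, c, a})
    (hHb : Harmonic T b) (hHc : Harmonic T c) (hHa : Harmonic T a) :
    ∀ x ∈ nb T v, pot T x = pot T v ∨ IsLeaf T x v := by
  classical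
  have hleaf : ∀ {x}, T.IsMinusTwo x → 0 < T.a v x → Simple T v x → IsLeaf T x v → 2 * pot T x = pot T v := by
    intro x hx hvx hS hl
    have h := row_nb hx
    rwa [show nb T x = {v} by
      ext j
      simp only [mem_nb, mem_singleton]
      exact ⟨fun h => hl j h.1 h.2, fun e => e ▸ ⟨pos_eq hvx hv, (a_comm T v x ▸ hvx).ne'⟩⟩,
      sum_singleton, term_simple hS.symm] at h
  have hP : Path T 3 (cons b (fun i => if i = 0 then v else c)) :=
    path_cons (path_two hv hc hvc) hb (fun i hi => by
      obtain rfl | rfl : i = 0 ∨ i = 1 := by omega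
      · simpa using pos_eq hvb hv
      · simpa using hbc.symm) (by simpa using hvb)
  have hz : ∀ i, i < 3 → cons b (fun i => if i = 0 then v else c) i ≠ a :=
    cons_ne (t := 2) hba fun i hi => by
      obtain rfl | rfl : i = 0 ∨ i = 1 := by omega
      · simpa using pos_eq hva hv
      · simpa using hca
  obtain ⟨W, ⟨hw, haw⟩, hwa, hawa, -, hzn⟩ := tree hJ hP ha hz (k := 1) le_rfl le_rfl
    (by simpa [cons] using hva.ne')
  have w0 := hw 0 (by omega)
  have w1 := hw 1 (by omega)
  have w2 := hw 2 (by omega)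
  have a0 := haw 0 (by omega)
  have a1 := haw 1 (by omega)
  simp [cons] at w0 w1 w2 a0 a1 hawa
  have Sb : Simple T v b := ⟨by rw [a_comm, a0, w1], by rw [a_comm, a0, w0]⟩
  have Sc : Simple T v c := ⟨by rw [a1, w1], by rw [a1, w2]⟩
  have Sa : Simple T v a := ⟨by rw [hawa, w1], by rw [hawa, hwa]⟩
  have hrow := row_nb hv
  rw [hnb, sum_insert (by simp [hbc, hba]), sum_pair hca, term_simple Sb, term_simple Sc,
    term_simple Sa] at hrow
  rw [hnb]
  simp only [mem_insert, mem_singleton, forall_eq_or_imp, forall_eq]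
  by_cases lb : IsLeaf T b v <;> by_cases lc : IsLeaf T c v <;> by_cases la : IsLeaf T a v
  · exact ⟨.inr lb, .inr lc, .inr la⟩
  · exact ⟨.inr lb, .inr lc, .inl (by linarith [hleaf hb hvb Sb lb, hleaf hc hvc Sc lc])⟩
  · exact ⟨.inr lb, .inl (by linarith [hleaf hb hvb Sb lb, hleaf ha hva Sa la]), .inr la⟩
  · exact absurd (one_leaf hJ hharm hc ha hb hv hca hbc.symm hba.symm hvc hva hvb hbig
      (by rw [hnb]; ext; simp; tauto) hHc hHa lb lc la) id
  · exact ⟨.inl (by linarith [hleaf hc hvc Sc lc, hleaf ha hva Sa la]), .inr lc, .inr la⟩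
  · exact absurd (one_leaf hJ hharm hb ha hc hv hba hbc hca.symm hvb hva hvc hbig
      (by rw [hnb]; ext; simp; tauto) hHb hHa lc lb la) id
  · exact absurd (one_leaf hJ hharm hb hc ha hv hbc hba hca hvb hvc hva hbig hnb hHb hHc la lb lc) id
  · exfalso
    -- three legs of length at least two
    rcases leg_next hJ hP ha hz (k := 1) le_rfl le_rfl (by simpa [cons] using hva.ne') hHb with
      ⟨h, -⟩ | ⟨b', hP4, hz4, -, -⟩
    · exact lb h
    rcases leg_next hJ hP4.rev ha (fun i hi => hz4 _ (by omega)) (k := 1) le_rfl (by omega)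
        (by simpa [cons] using hva.ne') (by simpa [cons] using hHc) with
      ⟨h, -⟩ | ⟨c', hP5, hz5, -, -⟩
    · exact lc (by simpa [cons] using h)
    generalize hu : cons c' (fun i => cons b' (cons b (fun i => if i = 0 then v else c)) (4 - 1 - i)) = u
      at hP5 hz5
    have u2 : u 2 = v := by rw [← hu]; rfl
    obtain ⟨-, -, -, -, -, hzn⟩ := tree hJ hP5 ha hz5 (k := 2) (by omega) (by omega)
      (by rw [u2]; exact hva.ne')
    simp only [IsLeaf, not_forall, exists_prop] at la
    obtain ⟨a', ha'a, haa', ha'v⟩ := la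
    refine no_type hJ (hP5.e6_type (hHa.2 a' ha'a haa') ha ha'a ?_ hz5
      (by rw [u2]; exact hva) (pos_of_ne_zero T ha'a.symm haa')).2
    intro i hi e
    subst e
    rcases eq_or_ne i 2 with rfl | hne
    · exact ha'v u2
    · exact haa' (by rw [a_comm]; exact hzn i hi hne)

omit hharm in
/-- At an index of maximal potential with exactly two neighbours, one edge being double downwards. -/
lemma double_case {u v x : Fin n} (hv : T.IsMinusTwo v) (hu : T.IsMinusTwo u) (hx : T.IsMinusTwo x)
    (hux : u ≠ x) (hvu : Simple T v u) (hvx : T.a v x = T.w v ∧ T.w v = 2 * T.w x)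
    (hnb : nb T v = {u, x}) (hHu : Harmonic T u) (hHx : Harmonic T x)
    (hHz : ∀ z, T.IsMinusTwo z → pot T v ≤ 4 * pot T z → Harmonic T z) :
    pot T u = pot T v ∧ IsLeaf T x v := by
  classical
  have hvu' : 0 < T.a v u := hvu.1 ▸ T.w_pos v
  have hvx' : 0 < T.a v x := hvx.1 ▸ T.w_pos v
  have hvun := pos_eq hvu' hv
  have hvxn := pos_eq hvx' hv
  have hP : Path T 3 (cons x (fun i => if i = 0 then v else u)) :=
    path_cons (path_two hv hu hvu') hx (fun i hi => by
      obtain rfl | rfl : i = 0 ∨ i = 1 := by omega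
      · simpa using hvxn
      · simpa using hux) (by simpa using hvx')
  have hD : Double T x v := ⟨a_comm T v x ▸ hvx', .inl (by rw [a_comm, hvx.1, hvx.2])⟩
  have hrow := row_nb hv
  rw [hnb, sum_pair hux, term_simple hvu, show T.a v x * T.m x = 2 * pot T x by
    rw [hvx.1, hvx.2, pot]; ring] at hrow
  -- further neighbours of `x` and of `u`
  by_cases hlx : IsLeaf T x v
  · refine ⟨?_, hlx⟩
    have h := row_nb hx
    rw [show nb T x = {v} by
      ext j
      simp only [mem_nb, mem_singleton]
      exact ⟨fun h => hlx j h.1 h.2, fun e => e ▸ ⟨hvxn, (a_comm T v x ▸ hvx').ne'⟩⟩,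
      sum_singleton, a_comm T x v, hvx.1] at h
    simp only [pot] at h hrow ⊢
    linarith
  exfalso
  simp only [IsLeaf, not_forall, exists_prop] at hlx
  obtain ⟨z, hzx, haz, hzv⟩ := hlx
  have hz := hHx.2 z hzx haz
  have hzu : z ≠ u := fun e => by
    subst e
    have h0 := no_chord hP (path_lt hJ hP) (i := 0) (j := 2) (by omega) (by omega)
    simp [cons] at h0
    exact haz h0
  have hP4 := path_cons hP hz (fun i hi => by
    obtain rfl | rfl | rfl : i = 0 ∨ i = 1 ∨ i = 2 := by omega
    · simpa [cons] using hzx.symm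
    · simpa [cons] using Ne.symm hzv
    · simpa [cons] using hzu.symm) (by simpa [cons] using pos_of_ne_zero T hzx.symm haz)
  have hsz : Simple T x z := (simple_or_double (pos_of_ne_zero T hzx.symm haz)).resolve_right fun h => by
    refine one_double hP4 (path_lt hJ hP4) (k := 0) (l := 1) (by omega) (by omega) ?_ ?_
    · simpa [cons] using h.symm
    · simpa [cons] using hD
  have hlu : IsLeaf T u v := by
    intro y hy0 hay
    by_contra hy1
    have hy := hHu.2 y hy0 hay
    have hzero : ∀ i, i < 4 → cons z (cons x (fun i => if i = 0 then v else u)) (4 - 1 - i) ≠ y := by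
      intro i hi e
      rcases (show 4 - 1 - i = 3 ∨ 4 - 1 - i = 2 ∨ 4 - 1 - i ≤ 1 by omega) with h | h | h
      · rw [h] at e; simp [cons] at e; exact hy0 e.symm
      · rw [h] at e; simp [cons] at e; exact hy1 e.symm
      · have := no_chord hP4 (path_lt hJ hP4) (i := 4 - 1 - i) (j := 3) (by omega) (by omega)
        rw [e] at this
        simp [cons] at this
        exact hay (by rw [a_comm]; exact this)
    have h5 := path_cons hP4.rev hy hzero (by simpa [cons] using pos_of_ne_zero T hy0.symm hay)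
    exact (h5.f4_type (by simpa [cons] using hD.symm)).2.elim (no_type hJ) (no_type hJ)
  have hu2 : 2 * pot T u = pot T v := by
    have h := row_nb hu
    rw [show nb T u = {v} by
      ext j
      simp only [mem_nb, mem_singleton]
      exact ⟨fun h => hlu j h.1 h.2, fun e => e ▸ ⟨hvun, (a_comm T v u ▸ hvu').ne'⟩⟩,
      sum_singleton, term_simple hvu.symm] at h
    exact h
  have hx4 : 4 * pot T x = 3 * pot T v := by linarith
  have hxz : 2 * pot T x = pot T v + pot T z := by
    have honly : nb T x = {v, z} := by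
      ext j
      simp only [mem_nb, mem_insert, mem_singleton]
      refine ⟨fun ⟨hj0, haj⟩ => ?_, ?_⟩
      · by_contra hj
        obtain ⟨hjv, hjz⟩ := not_or.1 hj
        have hQ : Path T 3 (cons v (fun i => if i = 0 then x else z)) :=
          path_cons (path_two hx hz (pos_of_ne_zero T hzx.symm haz)) hv (fun i hi => by
            obtain rfl | rfl : i = 0 ∨ i = 1 := by omega
            · simpa using hvxn.symm
            · simpa using hzv) (by simpa using hD.1)
        refine (hQ.double_fork_type le_rfl (hHx.2 j hj0 haj) (cons_ne (t := 2) (Ne.symm hjv) fun i hi => by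
            obtain rfl | rfl : i = 0 ∨ i = 1 := by omega
            · simpa using hj0.symm
            · simpa using Ne.symm hjz)
          (by simpa [cons] using pos_of_ne_zero T hj0.symm haj) (by simpa [cons] using hD.symm)).2.elim
          (no_type hJ) (no_type hJ)
      · rintro (rfl | rfl)
        · exact ⟨hvxn, (a_comm T j x ▸ hvx').ne'⟩
        · exact ⟨hzx, haz⟩
    have h := row_nb hx
    rw [honly, sum_pair (Ne.symm hzv), term_simple hsz, a_comm T x v, hvx.1] at h
    simp only [pot] at h ⊢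
    linarith
  have hHz' := hHz z hz (by have := pot_pos (T := T) v; linarith)
  have hlz : ¬IsLeaf T z x := fun hlz => by
    have h := row_nb hz
    rw [show nb T z = {x} by
      ext j
      simp only [mem_nb, mem_singleton]
      exact ⟨fun h => hlz j h.1 h.2, fun e => e ▸ ⟨hzx.symm, by rw [a_comm]; exact haz⟩⟩,
      sum_singleton, term_simple hsz.symm] at h
    have := pot_pos (T := T) v
    linarith
  simp only [IsLeaf, not_forall, exists_prop] at hlz
  obtain ⟨y, hyz, hay, hyx⟩ := hlz
  have h5 := path_cons hP4 (hHz'.2 y hyz hay) (fun i hi e => by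
    rcases (show i = 0 ∨ i = 1 ∨ 2 ≤ i by omega) with h | h | h
    · subst h; simp [cons] at e; exact hyz e.symm
    · subst h; simp [cons] at e; exact hyx e.symm
    · have := no_chord hP4 (path_lt hJ hP4) (i := 0) (j := i) (by omega) hi
      rw [e] at this
      simp [cons] at this
      exact hay this) (by simpa [cons] using pos_of_ne_zero T hyz.symm hay)
  refine (h5.f4_type ?_).2.elim (no_type hJ) (no_type hJ)
  simpa [cons] using hD

omit hharm in
/-- At a maximal index with a single neighbour, the neighbour is maximal. -/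
lemma end_case {v x : Fin n} (hv : T.IsMinusTwo v) (hx : Harmonic T x) (hn : 2 < n)
    (hnb : nb T v = {x}) (hmax : pot T x ≤ pot T v) : pot T x = pot T v := by
  have hm : x ∈ nb T v := by rw [hnb]; simp
  obtain ⟨hxv, hax⟩ := mem_nb.1 hm
  have hpos := pos_of_ne_zero T hxv.symm hax
  have h := row_nb hv
  rw [hnb, sum_singleton] at h
  have := pot_pos (T := T) v
  rcases edge_cases hn hxv.symm hv hx.1 hpos with hS | ⟨p, hp, ⟨e, e'⟩ | ⟨e, e'⟩⟩
  · rw [term_simple hS] at h; linarith
  · rw [e'] at h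
    simp only [pot] at h hmax this
    linarith
  · rw [e'] at h
    simp only [pot] at h hmax this ⊢
    rcases hp with rfl | rfl
    · linarith
    · exfalso
      have hr := row_nb hx.1
      have hterm : T.a x v * T.m v = T.m v * T.w v := by rw [a_comm, e]; ring
      have hvx : v ∈ nb T x := mem_nb.2 ⟨hxv.symm, by rw [a_comm]; exact hax⟩
      rw [← Finset.add_sum_erase _ _ hvx, hterm] at hr
      simp only [pot] at hr
      obtain ⟨k, hk⟩ : ((nb T x).erase v).Nonempty := by
        by_contra hne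
        rw [Finset.not_nonempty_iff_eq_empty.1 hne, sum_empty] at hr
        linarith
      obtain ⟨hkv, hk'⟩ := mem_erase.1 hk
      obtain ⟨hkx, hak⟩ := mem_nb.1 hk'
      have hP : Path T 3 (cons v (fun i => if i = 0 then x else k)) :=
        path_cons (path_two hx.1 (hx.2 k hkx hak) (pos_of_ne_zero T hkx.symm hak)) hv (fun i hi => by
          obtain rfl | rfl : i = 0 ∨ i = 1 := by omega
          · simpa using hxv
          · simpa using hkv) (by simpa using a_comm T v x ▸ hpos)
      refine (hP.g2_type (.inr ?_)).2.elim (no_type hJ) (no_type hJ)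
      simpa [cons] using e'.ge

end

/-- The potential of a (-2)-index is at most `64` times a bound valid next to the other indices. -/
theorem pot_le (hJ : ∃ j, ¬T.IsMinusTwo j) (hn : 2 < n) (B : ℤ) (hB : 0 ≤ B)
    (hatt : ∀ v j, T.IsMinusTwo v → ¬T.IsMinusTwo j → T.a v j ≠ 0 → pot T v ≤ B)
    (i : Fin n) (hi : T.IsMinusTwo i) : pot T i ≤ 64 * B := by
  classical
  by_contra hlt
  obtain ⟨v0, hv0, hmax⟩ := Finset.exists_max_image (univ.filter fun v => T.IsMinusTwo v) (pot T)
    ⟨i, by simp [hi]⟩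
  simp only [mem_filter, mem_univ, true_and] at hv0 hmax
  have hbig : 64 * B < pot T v0 := lt_of_lt_of_le (not_le.1 hlt) (hmax i hi)
  have hharm : ∀ v, T.IsMinusTwo v → 64 * B < 64 * pot T v → Harmonic T v := fun v hv hb =>
    ⟨hv, fun j _ haj => by
      by_contra hj
      have := hatt v j hv hj haj
      linarith⟩
  -- the maximal indices
  have key : ∀ v x, T.IsMinusTwo v → pot T v = pot T v0 → x ≠ v → T.a v x ≠ 0 →
      T.IsMinusTwo x ∧ (pot T x = pot T v0 ∨ IsLeaf T x v) := by
    intro v x hv hev hxv hax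
    have hHv := hharm v hv (by linarith [pot_pos (T := T) v])
    have hx := hHv.2 x hxv hax
    refine ⟨hx, ?_⟩
    have hHn : ∀ y, y ≠ v → T.a v y ≠ 0 → Harmonic T y := fun y hy hay =>
      hharm y (hHv.2 y hy hay) (by
        have := pot_half (hHv.2 y hy hay) hy (by rw [a_comm]; exact hay)
        linarith [pot_pos (T := T) y])
    have hxm : x ∈ nb T v := mem_nb.2 ⟨hxv, hax⟩
    have hrow := row_nb hv
    by_cases h4 : 4 ≤ (nb T v).card
    · exfalso
      obtain ⟨s, hs, hcard⟩ := Finset.exists_subset_card_eq h4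
      let e := (Fintype.equivFinOfCardEq (show Fintype.card s = 4 by simpa using hcard)).symm
      have hm : ∀ i : Fin 4, (e i).1 ≠ v ∧ T.a v (e i).1 ≠ 0 := fun i => mem_nb.1 (hs (e i).2)
      have hne : ∀ i j : Fin 4, i ≠ j → (e i).1 ≠ (e j).1 := fun i j h e' =>
        h (e.injective (Subtype.ext e'))
      have hp : ∀ i : Fin 4, 0 < T.a v (e i).1 := fun i => pos_of_ne_zero T (hm i).1.symm (hm i).2
      have h2 : ∀ i : Fin 4, T.IsMinusTwo (e i).1 := fun i => hHv.2 _ (hm i).1 (hm i).2
      have hP : Path T 3 (cons (e 0).1 (fun i => if i = 0 then v else (e 1).1)) :=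
        path_cons (path_two hv (h2 1) (hp 1)) (h2 0) (fun i hi => by
          obtain rfl | rfl : i = 0 ∨ i = 1 := by omega
          · simpa using (hm 0).1.symm
          · simpa using hne 1 0 (by decide)) (by simpa using hp 0)
      refine no_type hJ (hP.fork_fork_type le_rfl (h2 2) (h2 3) (hne 2 3 (by decide)) ?_ ?_ ?_ ?_).2
      · exact cons_ne (t := 2) (hne 0 2 (by decide)) fun i hi => by
          obtain rfl | rfl : i = 0 ∨ i = 1 := by omega
          · simpa using (hm 2).1.symm
          · simpa using hne 1 2 (by decide)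
      · exact cons_ne (t := 2) (hne 0 3 (by decide)) fun i hi => by
          obtain rfl | rfl : i = 0 ∨ i = 1 := by omega
          · simpa using (hm 3).1.symm
          · simpa using hne 1 3 (by decide)
      · simpa [cons] using hp 2
      · simpa [cons] using hp 3
    obtain hc | hc | hc : (nb T v).card = 1 ∨ (nb T v).card = 2 ∨ (nb T v).card = 3 := by
      have := card_pos.2 ⟨x, hxm⟩
      omega
    · obtain ⟨y, hy⟩ := card_eq_one.1 hc
      obtain rfl : x = y := by rw [hy] at hxm; simpa using hxm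
      left
      rw [← hev]
      exact end_case hJ hv (hHn x hxv hax) hn hy (by rw [hev]; exact hmax x hx)
    · obtain ⟨u, y, huy, huy'⟩ := card_eq_two.1 hc
      -- both orders
      suffices H : ∀ u y : Fin n, u ≠ y → nb T v = {u, y} → Simple T v u →
          ((pot T u = pot T v0 ∧ pot T y = pot T v0) ∨ (pot T u = pot T v0 ∧ IsLeaf T y v)) by
        have hu := mem_nb.1 (show u ∈ nb T v by rw [huy']; simp)
        have hy := mem_nb.1 (show y ∈ nb T v by rw [huy']; simp)
        have hP : Path T 3 (cons u (fun i => if i = 0 then v else y)) :=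
          path_cons (path_two hv (hHv.2 y hy.1 hy.2) (pos_of_ne_zero T hy.1.symm hy.2)) (hHv.2 u hu.1 hu.2)
            (fun i hi => by
              obtain rfl | rfl : i = 0 ∨ i = 1 := by omega
              · simpa using hu.1.symm
              · simpa using huy.symm) (by simpa using pos_of_ne_zero T hu.1.symm hu.2)
        rw [huy'] at hxm
        simp only [mem_insert, mem_singleton] at hxm
        rcases simple_or_double (pos_of_ne_zero T hu.1.symm hu.2) with hS | hD
        · rcases H u y huy huy' hS with ⟨h1, h2⟩ | ⟨h1, h2⟩ <;> rcases hxm with rfl | rfl <;>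
            first | exact .inl h1 | exact .inl h2 | exact .inr h2
        · have hS : Simple T v y := (simple_or_double (pos_of_ne_zero T hy.1.symm hy.2)).resolve_right
            fun h => one_double hP (path_lt hJ hP) (k := 0) (l := 1) (by omega) (by omega)
              (by simpa [cons] using hD.symm) (by simpa [cons] using h)
          rcases H y u huy.symm (by rw [huy', pair_comm]) hS with ⟨h1, h2⟩ | ⟨h1, h2⟩ <;>
            rcases hxm with rfl | rfl <;> first | exact .inl h1 | exact .inl h2 | exact .inr h2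
      intro u y huy huy' hS
      have hu := mem_nb.1 (show u ∈ nb T v by rw [huy']; simp)
      have hy := mem_nb.1 (show y ∈ nb T v by rw [huy']; simp)
      have hP : Path T 3 (cons y (fun i => if i = 0 then v else u)) :=
        path_cons (path_two hv (hHv.2 u hu.1 hu.2) (pos_of_ne_zero T hu.1.symm hu.2)) (hHv.2 y hy.1 hy.2)
          (fun i hi => by
            obtain rfl | rfl : i = 0 ∨ i = 1 := by omega
            · simpa using hy.1.symm
            · simpa using huy) (by simpa using pos_of_ne_zero T hy.1.symm hy.2)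
      have he := edge_in_path hP (path_lt hJ hP) le_rfl (k := 0) (by omega)
      simp [cons] at he
      rw [huy', sum_pair huy, term_simple hS] at hrow
      have hmu := hmax u (hHv.2 u hu.1 hu.2)
      have hmy := hmax y (hHv.2 y hy.1 hy.2)
      have eq1 : T.a v y * T.m y = pot T y → pot T u = pot T v0 ∧ pot T y = pot T v0 := fun e => by
        rw [e] at hrow; exact ⟨by linarith, by linarith⟩
      rcases he with h | ⟨h1, h2⟩ | ⟨h1, h2⟩
      · exact .inl (eq1 (term_simple h.symm))
      · right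
        rw [← hev]
        refine double_case hJ hv (hHv.2 u hu.1 hu.2) (hHv.2 y hy.1 hy.2) huy hS
          ⟨by rw [a_comm, h1, h2], h2⟩ huy' (hHn u hu.1 hu.2) (hHn y hy.1 hy.2)
          (fun z hz hle => hharm z hz (by linarith [pot_pos (T := T) v]))
      · refine .inl (eq1 ?_)
        rw [pot, a_comm, h1]; ring
    · obtain ⟨b, c, a, hbc, hba, hca, hbca⟩ := card_eq_three.1 hc
      have hb := mem_nb.1 (show b ∈ nb T v by rw [hbca]; simp)
      have hc' := mem_nb.1 (show c ∈ nb T v by rw [hbca]; simp)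
      have ha := mem_nb.1 (show a ∈ nb T v by rw [hbca]; simp)
      rw [← hev]
      exact branch_case hJ hharm (hHv.2 b hb.1 hb.2) (hHv.2 c hc'.1 hc'.2)
        (hHv.2 a ha.1 ha.2) hv hbc hba hca (pos_of_ne_zero T hb.1.symm hb.2)
        (pos_of_ne_zero T hc'.1.symm hc'.2) (pos_of_ne_zero T ha.1.symm ha.2) (by rw [hev]; exact hbig) hbca
        (hHn b hb.1 hb.2) (hHn c hc'.1 hc'.2) (hHn a ha.1 ha.2) x hxm
  obtain ⟨j, hj⟩ := hJ
  let Good : Fin n → Prop := fun x => T.IsMinusTwo x ∧
    (pot T x = pot T v0 ∨ ∃ v, T.IsMinusTwo v ∧ pot T v = pot T v0 ∧ IsLeaf T x v)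
  have closed : ∀ x y, T.a x y ≠ 0 → Good x → Good y := by
    intro x y hxy hg
    rcases eq_or_ne y x with rfl | hne
    · exact hg
    obtain ⟨hx, h | ⟨v, hv, hev, hl⟩⟩ := hg
    · obtain ⟨hy, h'⟩ := key x y hx h hne hxy
      exact ⟨hy, h'.imp id fun hl => ⟨x, hx, h, hl⟩⟩
    · rw [hl y hne hxy]
      exact ⟨hv, .inl hev⟩
  have := Form.eq_of_connected T.a T.connected (fun x => decide (Good x)) (fun a b hab => by
    simp only [decide_eq_decide]
    exact ⟨closed a b hab, closed b a (by rwa [a_comm] at hab)⟩) j v0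
  rw [decide_eq_decide] at this
  exact hj (this.2 ⟨hv0, .inl rfl⟩).1

/-- The bound `768 g`. -/
theorem mul_abs_le (hmin : T.IsMinimal) (hg : 2 ≤ T.genus) (i j : Fin n) :
    T.m i * |T.a i j| ≤ 768 * T.genus := by
  rcases Nat.lt_or_ge 1 n with hn | hn
  swap
  · obtain rfl : n = 1 := by have := T.pos; omega
    rw [Subsingleton.elim i 0, Subsingleton.elim j 0, diag_zero_of_one T]
    simp; omega
  have hc0 := contrib_nonneg T hmin hn
  have hsum := sum_contrib T
  have hle : ∀ k, contrib T k ≤ 2 * T.genus - 2 := fun k => by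
    rw [← hsum]; exact Finset.single_le_sum (fun k _ => hc0 k) (mem_univ k)
  have hJ : ∃ k, ¬T.IsMinusTwo k := by
    by_contra h
    simp only [not_exists, not_not] at h
    rw [Finset.sum_eq_zero fun k _ => contrib_eq_zero_of_isMinusTwo T k (h k)] at hsum
    omega
  have hnm : ∀ k, ¬T.IsMinusTwo k → T.m k * (-T.a k k) ≤ 6 * T.genus - 6 := by
    intro k hk
    obtain ⟨d, hd, he⟩ := diag_eq T hn k
    have hmw : 1 ≤ T.m k * T.w k := mul_pos (T.m_pos k) (T.w_pos k)
    have hc : contrib T k = T.m k * T.w k * (2 * T.g k - 2 + d) := by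
      unfold contrib; rw [he]; ring
    have := hle k
    rw [he, show T.m k * -(-(d * T.w k)) = T.m k * T.w k * d by ring]
    rcases (T.g_nonneg k).eq_or_lt with h0 | h0
    · have : 3 ≤ d := by
        by_contra h3
        obtain rfl | rfl : d = 1 ∨ d = 2 := by omega
        · exact hmin k ⟨h0.symm, by rw [he]; ring⟩
        · exact hk ⟨h0.symm, by rw [he]; ring⟩
      rw [← h0] at hc
      nlinarith
    · nlinarith
  have hdiag : ∀ k, T.m k * (-T.a k k) ≤ 768 * T.genus := by
    intro k
    by_cases hk : T.IsMinusTwo k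
    swap
    · linarith [hnm k hk]
    have hatt : ∀ v l, T.IsMinusTwo v → ¬T.IsMinusTwo l → T.a v l ≠ 0 → pot T v ≤ 6 * T.genus - 6 := by
      intro v l hv hl hvl
      have hne : v ≠ l := fun e => hl (e ▸ hv)
      have h1 := off_mul_le T hne
      have h2 := (w_le T (pos_of_ne_zero T hne hvl)).1
      have h3 := hnm l hl
      have h4 := mul_le_mul_of_nonneg_left h2 (T.m_pos v).le
      unfold pot; linarith
    rcases Nat.lt_or_ge 2 n with hn2 | hn2
    · have := pot_le hJ hn2 (6 * T.genus - 6) (by omega) hatt k hk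
      rw [hk.2]; unfold pot at this; linarith
    · obtain ⟨l, hl⟩ := hJ
      have hne : k ≠ l := fun e => hl (e ▸ hk)
      have hnb : T.a k l ≠ 0 := by
        intro h0
        obtain ⟨a, ha, hpos⟩ := exists_nbr T hn k
        have hlt := k.isLt
        have := a.isLt
        have := l.isLt
        have e1 : (a : ℕ) ≠ k := fun e => ha (Fin.ext e)
        have e2 : (k : ℕ) ≠ l := fun e => hne (Fin.ext e)
        obtain rfl : a = l := Fin.ext (by omega)
        omega
      have := hatt k l hk hl hnb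
      rw [hk.2]; unfold pot at this; linarith
  rcases eq_or_ne i j with rfl | hne
  · rw [abs_of_neg (diag_neg T hn i)]; exact hdiag i
  · rw [abs_of_nonneg (T.offDiag_nonneg i j hne)]
    have := off_mul_le T hne
    have := hdiag j
    linarith

end Groth.Agent.Lib.NumType.Bound
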