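import Groth.Agent.Lib.NumType.Form
import Mathlib.Algebra.Module.Torsion.Basic
import Mathlib.FieldTheory.Finiteness
import Mathlib.LinearAlgebra.FiniteDimensional.Lemmas
import Mathlib.Algebra.Field.ZMod

/-!
# The `ℓ`-torsion of the cokernel of a connected intersection matrix
-/

set_option autoImplicit false

open Finset Matrix

namespace Groth.Agent.Lib.NumType.Circulation

variable {n : ℕ} (A : Matrix (Fin n) (Fin n) ℤ) (ℓ : ℕ)

/-- The edges of the graph of `A`. -/
abbrev Edge := {p : Fin n × Fin n // p ∈ univ.filter fun p : Fin n × Fin n => p.1 < p.2 ∧ 0 < A p.1 p.2}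

/-- The boundary of a flow on the graph of `A`. -/
def boundary : (Edge A → ZMod ℓ) →ₗ[ZMod ℓ] (Fin n → ZMod ℓ) :=
  Matrix.mulVecLin (Matrix.of fun (i : Fin n) (e : Edge A) =>
    (if e.1.1 = i then (1 : ZMod ℓ) else 0) - (if e.1.2 = i then 1 else 0))

variable {A ℓ} [Fact ℓ.Prime]

lemma finrank_ker_le (hn : 0 < n) (hsymm : A.IsSymm) (hA : ∀ i j, i ≠ j → 0 ≤ A i j)
    (hconn : ∀ I : Finset (Fin n), I.Nonempty → I ≠ univ → ∃ i ∈ I, ∃ j ∉ I, A i j ≠ 0) :
    Module.finrank (ZMod ℓ) (LinearMap.ker (boundary A ℓ)) ≤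
      (univ.filter fun p : Fin n × Fin n => p.1 < p.2 ∧ 0 < A p.1 p.2).card + 1 - n := by
  classical
  let i0 : Fin n := ⟨0, hn⟩
  let P := LinearMap.range (boundary A ℓ) ⊔ Submodule.span (ZMod ℓ) {Pi.single i0 1}
  have hstep : ∀ i j, A i j ≠ 0 → (Pi.single i 1 - Pi.single j 1 : Fin n → ZMod ℓ) ∈ P := by
    intro i j hij
    rcases lt_trichotomy i j with h | rfl | h
    · refine Submodule.mem_sup_left ⟨Pi.single (⟨(i, j), by
        simp [h, lt_of_le_of_ne (hA i j h.ne) (Ne.symm hij)]⟩ : Edge A) 1, ?_⟩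
      funext k
      simp [boundary, Pi.single_apply, eq_comm]
    · simp
    · have hji : A j i ≠ 0 := by rwa [hsymm.apply i j]
      rw [← neg_sub]
      refine P.neg_mem (Submodule.mem_sup_left ⟨Pi.single (⟨(j, i), by
        simp [h, lt_of_le_of_ne (hA j i h.ne) (Ne.symm hji)]⟩ : Edge A) 1, ?_⟩)
      funext k
      simp [boundary, Pi.single_apply, eq_comm]
  have htop : P = ⊤ := by
    have h0 : ∀ i, (Pi.single i 1 : Fin n → ZMod ℓ) ∈ P := by
      intro i
      have := Form.eq_of_connected A hconn (fun k => decide ((Pi.single k 1 : Fin n → ZMod ℓ) ∈ P))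
        (fun a b hab => by
          simp only [decide_eq_decide]
          exact ⟨fun h => by simpa using P.sub_mem h (hstep a b hab),
            fun h => by simpa using P.add_mem (hstep a b hab) h⟩) i i0
      simpa [show (Pi.single i0 1 : Fin n → ZMod ℓ) ∈ P from
        Submodule.mem_sup_right (Submodule.subset_span rfl)] using this
    rw [eq_top_iff]
    intro x _
    rw [pi_eq_sum_univ' x]
    exact Submodule.sum_mem _ fun i _ => Submodule.smul_mem _ _ (h0 i)
  have h1 := Submodule.finrank_add_le_finrank_add_finrank (LinearMap.range (boundary A ℓ))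
    (Submodule.span (ZMod ℓ) {(Pi.single i0 1 : Fin n → ZMod ℓ)})
  rw [show LinearMap.range (boundary A ℓ) ⊔ Submodule.span (ZMod ℓ) {(Pi.single i0 1 : Fin n → ZMod ℓ)} = ⊤
      from htop, finrank_top, Module.finrank_fin_fun, finrank_span_singleton (by simp)] at h1
  have h2 := LinearMap.finrank_range_add_finrank_ker (boundary A ℓ)
  rw [Module.finrank_fintype_fun_eq_card, Fintype.card_coe] at h2
  omega

lemma card_ker_le (hn : 0 < n) (hsymm : A.IsSymm) (hA : ∀ i j, i ≠ j → 0 ≤ A i j)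
    (hconn : ∀ I : Finset (Fin n), I.Nonempty → I ≠ univ → ∃ i ∈ I, ∃ j ∉ I, A i j ≠ 0) :
    Nat.card (LinearMap.ker (boundary A ℓ)) ≤
      ℓ ^ ((univ.filter fun p : Fin n × Fin n => p.1 < p.2 ∧ 0 < A p.1 p.2).card + 1 - n) := by
  rw [Module.natCard_eq_pow_finrank (K := ZMod ℓ), Nat.card_zmod]
  exact Nat.pow_le_pow_right (Fact.out : ℓ.Prime).pos (finrank_ker_le hn hsymm hA hconn)

/-- The torsion bound. -/
theorem card_torsion_le (m : Fin n → ℤ) (hsymm : A.IsSymm) (hA : ∀ i j, i ≠ j → 0 ≤ A i j)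
    (hAm : A.mulVec m = 0)
    (hconn : ∀ I : Finset (Fin n), I.Nonempty → I ≠ univ → ∃ i ∈ I, ∃ j ∉ I, A i j ≠ 0)
    (hℓA : ∀ i j, A i j ≠ 0 → ¬((ℓ : ℤ) ∣ A i j)) (hℓm : ∀ i, ¬((ℓ : ℤ) ∣ m i)) :
    Nat.card (Submodule.torsionBy ℤ ((Fin n → ℤ) ⧸ LinearMap.range (Matrix.mulVecLin A)) (ℓ : ℤ))
      ≤ ℓ ^ ((univ.filter fun p : Fin n × Fin n => p.1 < p.2 ∧ 0 < A p.1 p.2).card + 1 - n) := by
  classical
  have hℓ0 : (ℓ : ℤ) ≠ 0 := by exact_mod_cast (Fact.out : ℓ.Prime).ne_zero
  rcases Nat.eq_zero_or_pos n with rfl | hn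
  · have : Subsingleton (Submodule.torsionBy ℤ
        ((Fin 0 → ℤ) ⧸ LinearMap.range (Matrix.mulVecLin A)) (ℓ : ℤ)) := ⟨fun a b => Subtype.ext (by
      obtain ⟨x, hx⟩ := Submodule.Quotient.mk_surjective _ a.1
      obtain ⟨y, hy⟩ := Submodule.Quotient.mk_surjective _ b.1
      rw [← hx, ← hy, Subsingleton.elim x y])⟩
    exact (Finite.card_le_one_iff_subsingleton.2 this).trans (Nat.one_le_pow _ _ (Fact.out : ℓ.Prime).pos)
  let g : (Fin n → ℤ) → Fin n × Fin n → ℤ :=
    fun y p => A p.1 p.2 * (m p.1 * y p.2 - m p.2 * y p.1)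
  have hbd : ∀ (y : Fin n → ℤ) (i : Fin n),
      boundary A ℓ (fun e => (g y e.1 : ZMod ℓ)) i = ((m i * A.mulVec y i : ℤ) : ZMod ℓ) := by
    intro y i
    have e1 : m i * A.mulVec y i = ∑ j, g y (i, j) := by
      have := congrFun hAm i
      simp only [Matrix.mulVec, dotProduct, Pi.zero_apply] at this
      simp only [g, Matrix.mulVec, dotProduct, mul_sub, Finset.sum_sub_distrib, ← mul_assoc]
      rw [← Finset.sum_mul, this, zero_mul, sub_zero, Finset.mul_sum]
      exact Finset.sum_congr rfl fun j _ => by ring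
    have e2 : ∑ j, g y (i, j) = ∑ p ∈ univ.filter (fun p : Fin n × Fin n => p.1 < p.2 ∧ 0 < A p.1 p.2),
        ((if p.1 = i then (1 : ℤ) else 0) - (if p.2 = i then 1 else 0)) * g y p := by
      rw [Finset.sum_filter, Fintype.sum_prod_type]
      have : ∀ a b : Fin n, (if a < b ∧ 0 < A a b then
          ((if a = i then (1 : ℤ) else 0) - (if b = i then 1 else 0)) * g y (a, b) else 0) =
          (if a = i then (if a < b ∧ 0 < A a b then g y (a, b) else 0) else 0) -
            (if b = i then (if a < b ∧ 0 < A a b then g y (a, b) else 0) else 0) := fun a b => by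
        split_ifs <;> ring
      simp only [this, Finset.sum_sub_distrib, Finset.sum_ite_irrel, Finset.sum_const_zero,
        Finset.sum_ite_eq', mem_univ, if_true]
      rw [← Finset.sum_sub_distrib]
      refine Finset.sum_congr rfl fun j _ => ?_
      simp only [g, hsymm.apply i j]
      rcases lt_trichotomy i j with h | rfl | h
      · rw [if_neg (show ¬(j < i ∧ 0 < A i j) from fun hh => lt_asymm h hh.1), sub_zero]
        by_cases h0 : 0 < A i j
        · rw [if_pos ⟨h, h0⟩]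
        · have : A i j = 0 := le_antisymm (not_lt.1 h0) (hA i j h.ne)
          simp [this]
      · simp
      · rw [if_neg (show ¬(i < j ∧ 0 < A i j) from fun hh => lt_asymm h hh.1), zero_sub]
        by_cases h0 : 0 < A i j
        · rw [if_pos ⟨h, h0⟩]; ring
        · have : A i j = 0 := le_antisymm (not_lt.1 h0) (hA i j h.ne')
          simp [this]
    rw [e1, e2, ← Finset.sum_coe_sort]
    simp only [boundary, Matrix.mulVecLin_apply, Matrix.mulVec, dotProduct, Matrix.of_apply]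
    push_cast
    rfl
  -- representatives
  have hrep : ∀ z : Submodule.torsionBy ℤ ((Fin n → ℤ) ⧸ LinearMap.range (Matrix.mulVecLin A)) (ℓ : ℤ),
      ∃ x y : Fin n → ℤ, Submodule.Quotient.mk x = z.1 ∧ A.mulVec y = (ℓ : ℤ) • x := by
    intro z
    obtain ⟨x, hx⟩ := Submodule.Quotient.mk_surjective _ z.1
    have hz := (Submodule.mem_torsionBy_iff _ _).1 z.2
    rw [← hx, ← Submodule.Quotient.mk_smul, Submodule.Quotient.mk_eq_zero] at hz
    obtain ⟨y, hy⟩ := hz
    exact ⟨x, y, hx, hy⟩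
  choose X Y hX hY using hrep
  let f : Submodule.torsionBy ℤ ((Fin n → ℤ) ⧸ LinearMap.range (Matrix.mulVecLin A)) (ℓ : ℤ) →
      LinearMap.ker (boundary A ℓ) := fun z => ⟨fun e => (g (Y z) e.1 : ZMod ℓ),
    LinearMap.mem_ker.2 (funext fun i => by rw [hbd, hY]; simp)⟩
  have hf : Function.Injective f := by
    intro z z' hzz
    let d : Fin n → ℤ := Y z - Y z'
    have hm0 : ∀ i, (m i : ZMod ℓ) ≠ 0 := fun i h => hℓm i ((ZMod.intCast_zmod_eq_zero_iff_dvd _ _).1 h)
    have hedge : ∀ i j, A i j ≠ 0 → (d i : ZMod ℓ) / (m i : ZMod ℓ) = (d j : ZMod ℓ) / (m j : ZMod ℓ) := by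
      have key : ∀ i j, i < j → A i j ≠ 0 → (d i : ZMod ℓ) / (m i : ZMod ℓ) = (d j : ZMod ℓ) / (m j : ZMod ℓ) := by
        intro i j hij hne
        have := congrFun (congrArg Subtype.val hzz) ⟨(i, j), by
          simp [hij, lt_of_le_of_ne (hA i j hij.ne) (Ne.symm hne)]⟩
        simp only [f, g] at this
        push_cast at this
        have hA0 : (A i j : ZMod ℓ) ≠ 0 := fun h => hℓA i j hne ((ZMod.intCast_zmod_eq_zero_iff_dvd _ _).1 h)
        have := mul_left_cancel₀ hA0 this
        rw [div_eq_div_iff (hm0 i) (hm0 j)]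
        simp only [d, Pi.sub_apply]
        push_cast
        linear_combination -this
      intro i j hne
      rcases lt_trichotomy i j with h | rfl | h
      · exact key i j h hne
      · rfl
      · exact (key j i h (by rwa [hsymm.apply i j])).symm
    obtain ⟨c, hc⟩ : ∃ c : ℤ, ∀ i, (ℓ : ℤ) ∣ d i - c * m i := by
      obtain ⟨c, hc⟩ := ZMod.intCast_surjective ((d ⟨0, hn⟩ : ZMod ℓ) / (m ⟨0, hn⟩ : ZMod ℓ))
      refine ⟨c, fun i => (ZMod.intCast_zmod_eq_zero_iff_dvd _ _).1 ?_⟩
      push_cast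
      rw [hc, ← Form.eq_of_connected A hconn _ hedge i ⟨0, hn⟩, div_mul_cancel₀ _ (hm0 i), sub_self]
    choose u hu using hc
    have hd : d = c • m + (ℓ : ℤ) • u := funext fun i => by
      simp only [Pi.add_apply, Pi.smul_apply, smul_eq_mul]; linarith [hu i]
    have e : (ℓ : ℤ) • (X z - X z') = (ℓ : ℤ) • A.mulVec u := by
      rw [smul_sub, ← hY, ← hY, ← Matrix.mulVec_sub, show Y z - Y z' = d from rfl, hd,
        Matrix.mulVec_add, Matrix.mulVec_smul, Matrix.mulVec_smul, hAm, smul_zero, zero_add]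
    apply Subtype.ext
    rw [← hX z, ← hX z', Submodule.Quotient.eq]
    exact ⟨u, (funext fun i => mul_left_cancel₀ hℓ0 (congrFun e i)).symm⟩
  exact (Nat.card_le_card_of_injective f hf).trans (card_ker_le hn hsymm hA hconn)

end Groth.Agent.Lib.NumType.Circulation
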