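import Groth.Agent.Lib.NumType.Paths
import Mathlib.Data.Nat.Find

/-!
# Numerical types all of whose indices are (-2)-indices
-/

set_option autoImplicit false

open Finset Models
open Groth.Agent.Lib.NumType.Basic Groth.Agent.Lib.NumType.Config Groth.Agent.Lib.NumType.Families
open Groth.Agent.Lib.NumType.Paths

namespace Groth.Agent.Lib.NumType.Classify

variable {n : ℕ} {T : NumericalType n}

/-- The list of affine shapes on at least three indices. -/
def Affine (T : NumericalType n) : Prop :=
  HasType T (cycle n) ∨ HasType T (chainUU n) ∨ HasType T (chainUD n) ∨ HasType T (chainDU n) ∨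
  (4 ≤ n ∧ HasType T (forkU n)) ∨ (4 ≤ n ∧ HasType T (forkD n)) ∨
  (5 ≤ n ∧ HasType T (forks n)) ∨
  (n = 3 ∧ (HasType T g2U ∨ HasType T g2D)) ∨ (n = 5 ∧ (HasType T f4U ∨ HasType T f4D)) ∨
  (n = 7 ∧ HasType T e6) ∨ (n = 8 ∧ HasType T e7) ∨ (n = 9 ∧ HasType T e8)

lemma row_eq {i : Fin n} (hi : T.IsMinusTwo i) (S : Finset (Fin n)) (hiS : i ∉ S)
    (h : ∀ j, j ≠ i → j ∉ S → T.a i j = 0) :
    2 * T.w i * T.m i = ∑ j ∈ S, T.a i j * T.m j := by
  have h1 := sum_off T i
  rw [← Finset.sum_subset (s₁ := S) (fun j hj => by simp only [mem_erase, mem_univ, and_true]; exact fun e => hiS (e ▸ hj))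
    (fun j hj hjS => by rw [h j (ne_of_mem_erase hj) hjS, zero_mul]), hi.2] at h1
  linarith

/-- The multiplicities grow linearly along a simple chain starting at an end. -/
lemma leg {t : ℕ} {u : ℕ → Fin n} (hP : Path T t u) (k : ℕ) (hk : k < t)
    (hs : ∀ i, i < k → Simple T (u i) (u (i + 1)))
    (hnb : ∀ i j, i < k → j ≠ u i → T.a (u i) j ≠ 0 → j = u (i + 1) ∨ (0 < i ∧ j = u (i - 1))) :
    ∀ i, i ≤ k → T.m (u i) = (i + 1) * T.m (u 0) := by
  intro i
  induction i using Nat.strong_induction_on with
  | _ i ih =>
    intro hik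
    match i with
    | 0 => simp
    | 1 =>
      have h := row_eq (hP.two 0 (by omega)) {u 1}
        (by simp only [mem_singleton]; exact fun e => absurd (hP.inj _ _ (by omega) (by omega) e) (by omega))
        (fun j hj hjS => by
          by_contra hne
          rcases hnb 0 j (by omega) hj hne with e | ⟨e, -⟩
          · exact hjS (by simp [e])
          · omega)
      rw [sum_singleton, (hs 0 (by omega)).1] at h
      have hw := T.w_pos (u 0)
      push_cast
      nlinarith
    | i + 2 =>
      have hne : u i ≠ u (i + 2) := fun e => absurd (hP.inj _ _ (by omega) (by omega) e) (by omega)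
      have h := row_eq (hP.two (i + 1) (by omega)) {u i, u (i + 2)}
        (by
          simp only [mem_insert, mem_singleton, not_or]
          exact ⟨fun e => absurd (hP.inj _ _ (by omega) (by omega) e) (by omega),
            fun e => absurd (hP.inj _ _ (by omega) (by omega) e) (by omega)⟩)
        (fun j hj hjS => by
          by_contra hne'
          rcases hnb (i + 1) j (by omega) hj hne' with e | ⟨-, e⟩ <;> exact hjS (by simp [e]))
      rw [sum_pair hne, (hs (i + 1) (by omega)).1, (hs i (by omega)).symm.1] at h
      have h1 := ih i (by omega) (by omega)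
      have h2 := ih (i + 1) (by omega) (by omega)
      have h3 : 2 * T.m (u (i + 1)) = T.m (u i) + T.m (u (i + 2)) := by
        apply mul_left_cancel₀ (T.w_pos (u (i + 1))).ne'
        linarith
      push_cast at h2 ⊢
      linarith

lemma exists_path_three (hn : 2 < n) (htwo : ∀ i, T.IsMinusTwo i) :
    ∃ u : ℕ → Fin n, Path T 3 u := by
  have key : ∀ a b c : Fin n, a ≠ b → a ≠ c → b ≠ c → 0 < T.a a b → 0 < T.a b c →
      ∃ u : ℕ → Fin n, Path T 3 u := by
    intro a b c hab hac hbc h1 h2
    refine ⟨fun i => if i = 0 then a else if i = 1 then b else c, ?_, fun i _ => htwo _, ?_⟩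
    · intro i j hi hj e
      obtain rfl | rfl | rfl : i = 0 ∨ i = 1 ∨ i = 2 := by omega
      all_goals obtain rfl | rfl | rfl : j = 0 ∨ j = 1 ∨ j = 2 := by omega
      all_goals simp_all
    · intro i hi
      obtain rfl | rfl : i = 0 ∨ i = 1 := by omega
      all_goals simp_all
  obtain ⟨j, hj, hij⟩ := exists_nbr T (by omega) (⟨0, T.pos⟩ : Fin n)
  generalize (⟨0, T.pos⟩ : Fin n) = i at hj hij
  obtain ⟨a, ha, b, hb, hab⟩ := T.connected {i, j} (insert_nonempty _ _) (fun e => by
    have := congrArg Finset.card e
    rw [card_pair hj.symm, card_univ, Fintype.card_fin] at this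
    omega)
  simp only [mem_insert, mem_singleton, not_or] at ha hb
  rcases ha with rfl | rfl
  · exact key j a b hj (Ne.symm hb.2) (Ne.symm hb.1) (a_comm T a j ▸ hij)
      (pos_of_ne_zero T (Ne.symm hb.1) hab)
  · exact key i a b hj.symm (Ne.symm hb.1) (Ne.symm hb.2) hij (pos_of_ne_zero T (Ne.symm hb.2) hab)

/-- A longest path. -/
lemma exists_longest (hn : 2 < n) (htwo : ∀ i, T.IsMinusTwo i) :
    ∃ (t : ℕ) (u : ℕ → Fin n), 3 ≤ t ∧ Path T t u ∧ ∀ v : ℕ → Fin n, ¬Path T (t + 1) v := by
  classical
  obtain ⟨u0, hu0⟩ := exists_path_three hn htwo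
  let P : ℕ → Prop := fun t => ∃ u : ℕ → Fin n, Path T t u
  have h3 : P 3 := ⟨u0, hu0⟩
  have hsp : P (Nat.findGreatest P n) := Nat.findGreatest_spec (P := P) hu0.le h3
  obtain ⟨u, hu⟩ := hsp
  refine ⟨_, u, Nat.le_findGreatest hu0.le h3, hu, fun v hv => ?_⟩
  exact Nat.findGreatest_is_greatest (P := P) (Nat.lt_succ_self _) hv.le ⟨v, hv⟩

lemma affine_of_double_fork {t : ℕ} {u : ℕ → Fin n} (hP : Path T t u) (ht : 3 ≤ t) {z : Fin n}
    (hz : T.IsMinusTwo z) (hzu : ∀ i, i < t → u i ≠ z) (hza : 0 < T.a (u (t - 2)) z)
    (h0 : Double T (u 0) (u 1)) : Affine T := by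
  obtain ⟨e, h | h⟩ := hP.double_fork_type ht hz hzu hza h0
  · exact .inr (.inr (.inr (.inr (.inl ⟨by omega, e ▸ h⟩))))
  · exact .inr (.inr (.inr (.inr (.inr (.inl ⟨by omega, e ▸ h⟩)))))

lemma affine_of_double_double {t : ℕ} {u : ℕ → Fin n} (hP : Path T t u) (ht : 3 ≤ t)
    (h0 : Double T (u 0) (u 1)) (h1 : Double T (u (t - 2)) (u (t - 1))) : Affine T := by
  obtain ⟨e, h | h | h⟩ := hP.double_double_type ht h0 h1
  · exact .inr (.inl (e ▸ h))
  · exact .inr (.inr (.inl (e ▸ h)))
  · exact .inr (.inr (.inr (.inl (e ▸ h))))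

lemma affine_of_fork_fork {t : ℕ} {u : ℕ → Fin n} (hP : Path T t u) (ht : 3 ≤ t) {y z : Fin n}
    (hy : T.IsMinusTwo y) (hz : T.IsMinusTwo z) (hyz : y ≠ z) (hyu : ∀ i, i < t → u i ≠ y)
    (hzu : ∀ i, i < t → u i ≠ z) (hya : 0 < T.a (u 1) y) (hza : 0 < T.a (u (t - 2)) z) :
    Affine T := by
  obtain ⟨e, h⟩ := hP.fork_fork_type ht hy hz hyz hyu hzu hya hza
  exact .inr (.inr (.inr (.inr (.inr (.inr (.inl ⟨by omega, e ▸ h⟩))))))

lemma affine_of_cycle {t : ℕ} {u : ℕ → Fin n} (hP : Path T t u) (ht : 3 ≤ t)
    (h : 0 < T.a (u 0) (u (t - 1))) : Affine T := by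
  obtain ⟨e, h⟩ := hP.cycle_type ht h
  exact .inl (e ▸ h)

/-- The case of a spanning path without chords. -/
lemma affine_of_spanning {u : ℕ → Fin n} (hn : 2 < n) (htwo : ∀ i, T.IsMinusTwo i)
    (hP : Path T n u) (hnc : ∀ i j, i + 1 < j → j < n → T.a (u i) (u j) = 0) : Affine T := by
  by_contra hA
  have hsurj : ∀ x, ∃ i, i < n ∧ u i = x := by
    intro x
    have hb : Function.Bijective (fun i : Fin n => u i) :=
      Finite.injective_iff_bijective.1 fun i j e => Fin.ext (hP.inj i j i.2 j.2 e)
    obtain ⟨i, hi⟩ := hb.2 x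
    exact ⟨i, i.2, hi⟩
  have hnb : ∀ i j, i < n → j ≠ u i → T.a (u i) j ≠ 0 →
      (i + 1 < n ∧ j = u (i + 1)) ∨ (0 < i ∧ j = u (i - 1)) := by
    intro i j hi hj hne
    obtain ⟨k, hk, rfl⟩ := hsurj j
    rcases lt_trichotomy i k with h | rfl | h
    · by_cases h1 : i + 1 < k
      · exact absurd (hnc i k h1 hk) hne
      · exact .inl ⟨by omega, by rw [show k = i + 1 by omega]⟩
    · exact absurd rfl hj
    · by_cases h1 : k + 1 < i
      · exact absurd (a_comm T (u k) (u i) ▸ hnc k i h1 hi) hne
      · exact .inr ⟨by omega, by rw [show k = i - 1 by omega]⟩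
  -- at most one double edge
  have hone : ∀ k l, k < l → l + 1 < n → Double T (u k) (u (k + 1)) → ¬Double T (u l) (u (l + 1)) := by
    intro k l hkl hl hk' hl'
    refine hA (affine_of_double_double (hP.sub k (l - k + 2) (by omega)) (by omega) hk' ?_)
    rw [show k + (l - k + 2 - 2) = l by omega, show k + (l - k + 2 - 1) = l + 1 by omega]
    exact hl'
  by_cases hex : ∃ k, k + 1 < n ∧ Double T (u k) (u (k + 1))
  · obtain ⟨k, hk, hD⟩ := hex
    have hsimple : ∀ i, i + 1 < n → i ≠ k → Simple T (u i) (u (i + 1)) := fun i hi hik =>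
      (simple_or_double (hP.adj i hi)).resolve_right fun h => by
        rcases Nat.lt_or_ge i k with hlt | hge
        · exact hone i k hlt hk h hD
        · exact hone k i (by omega) hi hD h
    have hl := leg hP k (by omega) (fun i hi => hsimple i (by omega) (by omega))
      (fun i j hi hj hne => (hnb i j (by omega) hj hne).imp (fun h => h.2) id) k le_rfl
    have hr := leg hP.rev (n - 2 - k) (by omega)
      (fun i hi => by
        have := (hsimple (n - 1 - (i + 1)) (by omega) (by omega)).symm
        rwa [show n - 1 - (i + 1) + 1 = n - 1 - i by omega] at this)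
      (fun i j hi hj hne => by
        rcases hnb (n - 1 - i) j (by omega) hj hne with ⟨h1, rfl⟩ | ⟨h1, rfl⟩
        · exact .inr ⟨by omega, congrArg u (by omega)⟩
        · exact .inl (congrArg u (by omega)))
      (n - 2 - k) le_rfl
    simp only [show n - 1 - (n - 2 - k) = k + 1 by omega, Nat.sub_zero] at hr
    -- a triple edge is impossible
    obtain hS | ⟨p, hp, hpq⟩ := edge_cases hn
      (fun e => absurd (hP.inj _ _ (by omega) (by omega) e) (by omega)) (htwo _) (htwo _)
      (hP.adj k hk)
    · have := T.w_pos (u k)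
      have := T.w_pos (u (k + 1))
      rcases hD.2 with h | h
      · rw [hS.1] at h; omega
      · rw [hS.2] at h; omega
    have hp2 : p = 2 := by
      by_contra hne
      obtain rfl : p = 3 := hp.resolve_left hne
      have hg : 3 = n ∧ (HasType T g2U ∨ HasType T g2D) := by
        by_cases h2 : k + 2 < n
        · refine (hP.sub k 3 (by omega)).g2_type ?_
          simp only [Nat.add_zero]
          rcases hpq with ⟨e, -⟩ | ⟨-, e⟩
          · exact .inl e.ge
          · exact .inr e.ge
        · refine ((hP.sub (n - 3) 3 (by omega)).rev).g2_type ?_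
          simp only [show n - 3 + (3 - 1 - 0) = k + 1 by omega, show n - 3 + (3 - 1 - 1) = k by omega]
          rw [a_comm T (u (k + 1))]
          rcases hpq with ⟨e, -⟩ | ⟨-, e⟩
          · exact .inr e.ge
          · exact .inl e.ge
      exact hA (.inr (.inr (.inr (.inr (.inr (.inr (.inr (.inl ⟨hg.1.symm, hg.2⟩))))))))
    subst hp2
    -- the double edge is not inner in a long chain
    have hF : ∀ h : 5 = n ∧ (HasType T f4U ∨ HasType T f4D), False := fun h =>
      hA (.inr (.inr (.inr (.inr (.inr (.inr (.inr (.inr (.inl ⟨h.1.symm, h.2⟩)))))))))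
    have hno : ¬(2 ≤ k ∧ k + 3 ≤ n) ∧ ¬(1 ≤ k ∧ k + 4 ≤ n) := by
      constructor
      · rintro ⟨h1, h2⟩
        refine hF ((hP.sub (k - 2) 5 (by omega)).f4_type ?_)
        simp only [show k - 2 + 2 = k by omega, show k - 2 + 3 = k + 1 by omega]
        exact hD
      · rintro ⟨h1, h2⟩
        refine hF (((hP.sub (k - 1) 5 (by omega)).rev).f4_type ?_)
        simp only [show k - 1 + (5 - 1 - 2) = k + 1 by omega, show k - 1 + (5 - 1 - 3) = k by omega]
        exact hD.symm
    -- the equations at both sides of the double edge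
    obtain ⟨a, ha⟩ : ∃ a : ℕ, a = k + 1 := ⟨_, rfl⟩
    obtain ⟨b, hb⟩ : ∃ b : ℕ, b = n - 1 - k := ⟨_, rfl⟩
    have e1 : ((a : ℤ) + 1) * T.m (u 0) * T.w (u k) = T.a (u k) (u (k + 1)) * T.m (u (k + 1)) := by
      rcases Nat.eq_zero_or_pos k with rfl | hk0
      · have h := row_eq (htwo (u 0)) {u 1}
          (by simp only [mem_singleton]; exact fun e => absurd (hP.inj _ _ (by omega) (by omega) e) (by omega))
          (fun j hj hjS => by
            by_contra hne
            rcases hnb 0 j (by omega) hj hne with ⟨-, e⟩ | ⟨e, -⟩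
            · exact hjS (by simp [e])
            · omega)
        rw [sum_singleton] at h
        subst ha
        push_cast
        linarith
      · have h := row_eq (htwo (u k)) {u (k - 1), u (k + 1)}
          (by
            simp only [mem_insert, mem_singleton, not_or]
            exact ⟨fun e => absurd (hP.inj _ _ (by omega) (by omega) e) (by omega),
              fun e => absurd (hP.inj _ _ (by omega) (by omega) e) (by omega)⟩)
          (fun j hj hjS => by
            by_contra hne
            rcases hnb k j (by omega) hj hne with ⟨-, e⟩ | ⟨-, e⟩ <;> exact hjS (by simp [e]))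
        have hs' := (hsimple (k - 1) (by omega) (by omega)).symm
        rw [show k - 1 + 1 = k by omega] at hs'
        have hl' := leg hP k (by omega) (fun i hi => hsimple i (by omega) (by omega))
          (fun i j hi hj hne => (hnb i j (by omega) hj hne).imp (fun h => h.2) id) (k - 1) (by omega)
        rw [sum_pair (fun e => absurd (hP.inj _ _ (by omega) (by omega) e) (by omega)), hs'.1, hl,
          hl', show ((k - 1 : ℕ) : ℤ) = (k : ℤ) - 1 by omega] at h
        subst ha
        push_cast
        linarith
    have e2 : ((b : ℤ) + 1) * T.m (u (n - 1)) * T.w (u (k + 1)) =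
        T.a (u k) (u (k + 1)) * T.m (u k) := by
      rcases Nat.lt_or_ge (k + 2) n with hk2 | hk2
      · have h := row_eq (htwo (u (k + 1))) {u k, u (k + 2)}
          (by
            simp only [mem_insert, mem_singleton, not_or]
            exact ⟨fun e => absurd (hP.inj _ _ (by omega) (by omega) e) (by omega),
              fun e => absurd (hP.inj _ _ (by omega) (by omega) e) (by omega)⟩)
          (fun j hj hjS => by
            by_contra hne
            rcases hnb (k + 1) j (by omega) hj hne with ⟨-, e⟩ | ⟨-, e⟩ <;> exact hjS (by simp [e]))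
        have hs' := hsimple (k + 1) (by omega) (by omega)
        have hr' := leg hP.rev (n - 2 - k) (by omega)
          (fun i hi => by
            have := (hsimple (n - 1 - (i + 1)) (by omega) (by omega)).symm
            rwa [show n - 1 - (i + 1) + 1 = n - 1 - i by omega] at this)
          (fun i j hi hj hne => by
            rcases hnb (n - 1 - i) j (by omega) hj hne with ⟨h1, rfl⟩ | ⟨h1, rfl⟩
            · exact .inr ⟨by omega, congrArg u (by omega)⟩
            · exact .inl (congrArg u (by omega)))
          (n - 3 - k) (by omega)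
        simp only [show n - 1 - (n - 3 - k) = k + 2 by omega, Nat.sub_zero] at hr'
        rw [sum_pair (fun e => absurd (hP.inj _ _ (by omega) (by omega) e) (by omega)), hs'.1, hr,
          hr', a_comm T (u (k + 1)) (u k),
          show ((n - 3 - k : ℕ) : ℤ) = (b : ℤ) - 2 by omega,
          show ((n - 2 - k : ℕ) : ℤ) = (b : ℤ) - 1 by omega] at h
        linarith
      · have h := row_eq (htwo (u (k + 1))) {u k}
          (by simp only [mem_singleton]; exact fun e => absurd (hP.inj _ _ (by omega) (by omega) e) (by omega))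
          (fun j hj hjS => by
            by_contra hne
            rcases hnb (k + 1) j (by omega) hj hne with ⟨e, -⟩ | ⟨-, e⟩
            · omega
            · exact hjS (by simp [e]))
        rw [sum_singleton, a_comm T (u (k + 1)) (u k)] at h
        rw [show n - 1 = k + 1 by omega, show b = 1 by omega]
        push_cast
        linarith
    rw [show ((n - 2 - k : ℕ) : ℤ) = (b : ℤ) - 1 by omega] at hr
    rw [hr] at e1
    rw [hl, show (k : ℤ) + 1 = (a : ℤ) by omega] at e2
    have hm0 := T.m_pos (u 0)
    have hm1 := T.m_pos (u (n - 1))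
    have hprod : T.a (u k) (u (k + 1)) ^ 2 = 2 * (T.w (u k) * T.w (u (k + 1))) := by
      rcases hpq with ⟨h1, h2⟩ | ⟨h1, h2⟩
      · calc T.a (u k) (u (k + 1)) ^ 2 = T.a (u k) (u (k + 1)) * T.a (u k) (u (k + 1)) := sq _
          _ = (2 * T.w (u k)) * T.w (u (k + 1)) := by rw [← h1, ← h2]
          _ = _ := by ring
      · calc T.a (u k) (u (k + 1)) ^ 2 = T.a (u k) (u (k + 1)) * T.a (u k) (u (k + 1)) := sq _
          _ = T.w (u k) * (2 * T.w (u (k + 1))) := by rw [← h1, ← h2]
          _ = _ := by ring
    have hfin : ((a : ℤ) + 1) * ((b : ℤ) + 1) = 2 * (a * b) := by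
      apply mul_left_cancel₀ (ne_of_gt (mul_pos (mul_pos hm0 hm1)
        (mul_pos (T.w_pos (u k)) (T.w_pos (u (k + 1))))))
      linear_combination ((b : ℤ) + 1) * T.m (u (n - 1)) * T.w (u (k + 1)) * e1 +
        T.a (u k) (u (k + 1)) * (b : ℤ) * T.m (u (n - 1)) * e2 +
        (a : ℤ) * b * T.m (u 0) * T.m (u (n - 1)) * hprod
    rcases (show a = 1 ∨ b = 1 ∨ (a = 2 ∧ b = 2) by omega) with h | h | ⟨h, h'⟩
    · rw [h] at hfin; push_cast at hfin; linarith
    · rw [h] at hfin; push_cast at hfin; linarith
    · rw [h, h'] at hfin; norm_num at hfin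
  · have hsimple : ∀ i, i + 1 < n → Simple T (u i) (u (i + 1)) := fun i hi =>
      (simple_or_double (hP.adj i hi)).resolve_right fun h => hex ⟨i, hi, h⟩
    have hl := leg hP (n - 1) (by omega) (fun i hi => hsimple i (by omega))
      (fun i j hi hj hne => (hnb i j (by omega) hj hne).imp (fun h => h.2) id)
    have h := row_eq (htwo (u (n - 1))) {u (n - 2)}
      (by simp only [mem_singleton]; exact fun e => absurd (hP.inj _ _ (by omega) (by omega) e) (by omega))
      (fun j hj hjS => by
        by_contra hne
        rcases hnb (n - 1) j (by omega) hj hne with ⟨e, -⟩ | ⟨-, e⟩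
        · omega
        · exact hjS (by simp [e, show n - 1 - 1 = n - 2 by omega]))
    have hs' := (hsimple (n - 2) (by omega)).symm
    rw [show n - 2 + 1 = n - 1 by omega] at hs'
    rw [sum_singleton, hs'.1, hl (n - 1) le_rfl, hl (n - 2) (by omega),
      show ((n - 1 : ℕ) : ℤ) = (n : ℤ) - 1 by omega,
      show ((n - 2 : ℕ) : ℤ) = (n : ℤ) - 2 by omega] at h
    nlinarith [mul_pos (T.w_pos (u (n - 1))) (T.m_pos (u 0)),
      (show (3 : ℤ) ≤ n by omega)]

/-- The case of a longest path missing some index. -/
lemma affine_of_branched {t : ℕ} {u : ℕ → Fin n} (hn : 2 < n) (htwo : ∀ i, T.IsMinusTwo i)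
    (hP : Path T t u) (ht : t < n) (h3 : 3 ≤ t) (hmax : ∀ v : ℕ → Fin n, ¬Path T (t + 1) v) :
    Affine T := by
  classical
  by_contra hA
  -- extensions at the ends are impossible
  have hend : ∀ (w : ℕ → Fin n), Path T t w → ∀ x, (∀ i, i < t → w i ≠ x) → T.a (w 0) x = 0 := by
    intro w hw x hx
    by_contra hne
    refine hmax (fun i => if i = 0 then x else w (i - 1)) ⟨?_, fun i _ => htwo _, ?_⟩
    · intro i j hi hj e
      by_cases a : i = 0 <;> by_cases b : j = 0
      · omega
      · simp only [a, b, if_true, if_false] at e; exact absurd e.symm (hx _ (by omega))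
      · simp only [a, b, if_true, if_false] at e; exact absurd e (hx _ (by omega))
      · simp only [a, b, if_false] at e
        have := hw.inj _ _ (by omega) (by omega) e
        omega
    · intro i hi
      by_cases a : i = 0
      · simp only [a, if_true, Nat.zero_add, one_ne_zero, if_false, Nat.sub_self]
        rw [a_comm]
        exact pos_of_ne_zero T (hx 0 (by omega)) hne
      · simp only [a, if_false, Nat.add_eq_zero_iff, one_ne_zero, and_false]
        have := hw.adj (i - 1) (by omega)
        rwa [show i - 1 + 1 = i by omega] at this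
  have hinj' : ∀ x, (∀ i, i < t → u i ≠ x) → ∀ i, i < t → u (t - 1 - i) ≠ x :=
    fun x hx i hi => hx _ (by omega)
  obtain ⟨a, ha, z, hzI, hza⟩ := T.connected ((Finset.range t).image u) ⟨u 0, by
    simp only [mem_image, Finset.mem_range]; exact ⟨0, by omega, rfl⟩⟩ (fun e => by
    have := congrArg Finset.card e
    rw [card_univ, Fintype.card_fin] at this
    have h2 : ((Finset.range t).image u).card ≤ t := card_image_le.trans (by simp)
    omega)
  simp only [mem_image, Finset.mem_range, not_exists, not_and] at ha hzI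
  obtain ⟨k, hkt, rfl⟩ := ha
  have hzu : ∀ i, i < t → u i ≠ z := hzI
  have hka : 0 < T.a (u k) z := pos_of_ne_zero T (hzu k hkt) hza
  have hk1 : 1 ≤ k := by
    by_contra h
    obtain rfl : k = 0 := by omega
    exact hza (hend u hP z hzu)
  have hk2 : k + 2 ≤ t := by
    by_contra h
    have := hend _ hP.rev z (hinj' z hzu)
    simp only [Nat.sub_zero, show t - 1 = k by omega] at this
    exact hza this
  -- no double edges
  have hpath : ∀ e, e + 1 < t → Simple T (u e) (u (e + 1)) := by
    intro e he
    refine (simple_or_double (hP.adj e he)).resolve_right fun hD => ?_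
    by_cases hek : e < k
    · refine hA (affine_of_double_fork (hP.sub e (k - e + 2) (by omega)) (by omega) (htwo z)
        (fun i hi => hzu _ (by omega)) ?_ hD)
      simp only [show e + (k - e + 2 - 2) = k by omega]
      exact hka
    · refine hA (affine_of_double_fork ((hP.sub (k - 1) (e - k + 3) (by omega)).rev) (by omega)
        (htwo z) (fun i hi => hzu _ (by omega)) ?_ ?_)
      · simp only [show k - 1 + (e - k + 3 - 1 - (e - k + 3 - 2)) = k by omega]
        exact hka
      · simp only [show k - 1 + (e - k + 3 - 1 - 0) = e + 1 by omega,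
          show k - 1 + (e - k + 3 - 1 - 1) = e by omega]
        exact hD.symm
  have hzk : Simple T (u k) z := by
    refine (simple_or_double hka).resolve_right fun hD => ?_
    have hw : Path T 3 (fun i => if i = 0 then z else if i = 1 then u k else u (k + 1)) := by
      refine ⟨?_, fun i _ => htwo _, ?_⟩
      · intro i j hi hj e
        obtain rfl | rfl | rfl : i = 0 ∨ i = 1 ∨ i = 2 := by omega
        all_goals obtain rfl | rfl | rfl : j = 0 ∨ j = 1 ∨ j = 2 := by omega
        all_goals simp at e
        all_goals first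
          | rfl
          | exact absurd e.symm (hzu _ (by omega))
          | exact absurd e (hzu _ (by omega))
          | exact absurd (hP.inj _ _ (by omega) (by omega) e) (by omega)
      · intro i hi
        obtain rfl | rfl : i = 0 ∨ i = 1 := by omega
        · simp only [if_true, Nat.zero_add, one_ne_zero, if_false]
          rw [a_comm]; exact hka
        · simp only [one_ne_zero, if_false, if_true]
          exact hP.adj k (by omega)
    refine hA (affine_of_double_fork hw le_rfl (htwo (u (k - 1))) ?_ ?_ ?_)
    · intro i hi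
      obtain rfl | rfl | rfl : i = 0 ∨ i = 1 ∨ i = 2 := by omega
      all_goals simp only [if_true, one_ne_zero, if_false, show (2 : ℕ) ≠ 0 by omega,
        show (2 : ℕ) ≠ 1 by omega]
      · exact Ne.symm (hzu _ (by omega))
      all_goals exact fun e => absurd (hP.inj _ _ (by omega) (by omega) e) (by omega)
    · have := hP.adj (k - 1) (by omega)
      rw [show k - 1 + 1 = k by omega, a_comm] at this
      simpa using this
    · simpa using hD.symm
  -- no second branch
  have hbr : ∀ y l, (∀ i, i < t → u i ≠ y) → l < t → T.a (u l) y ≠ 0 → y = z ∧ l = k := by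
    intro y l hyu hl hne
    have hl1 : 1 ≤ l := by
      by_contra h
      obtain rfl : l = 0 := by omega
      exact hne (hend u hP y hyu)
    have hl2 : l + 2 ≤ t := by
      by_contra h
      have := hend _ hP.rev y (hinj' y hyu)
      simp only [Nat.sub_zero, show t - 1 = l by omega] at this
      exact hne this
    have hla : 0 < T.a (u l) y := pos_of_ne_zero T (hyu l hl) hne
    by_cases hyz : y = z
    · subst hyz
      refine ⟨rfl, ?_⟩
      by_contra hlk
      -- a cycle through z
      have hcyc : ∀ i j, i < j → j < t → 0 < T.a (u i) y → 0 < T.a (u j) y → False := by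
        intro i j hij hj hi' hj'
        refine hA (affine_of_cycle (t := j - i + 2)
          (u := fun s => if s = 0 then y else u (i + (s - 1))) ⟨?_, fun s _ => htwo _, ?_⟩ (by omega) ?_)
        · intro r s hr hs e
          by_cases a : r = 0 <;> by_cases b : s = 0
          · omega
          · simp only [a, b, if_true, if_false] at e; exact absurd e.symm (hzu _ (by omega))
          · simp only [a, b, if_true, if_false] at e; exact absurd e (hzu _ (by omega))
          · simp only [a, b, if_false] at e
            have := hP.inj _ _ (by omega) (by omega) e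
            omega
        · intro s hs
          by_cases a : s = 0
          · simp only [a, if_true, Nat.zero_add, one_ne_zero, if_false, Nat.sub_self, Nat.add_zero]
            rw [a_comm]; exact hi'
          · simp only [a, if_false, Nat.add_eq_zero_iff, one_ne_zero, and_false]
            have := hP.adj (i + (s - 1)) (by omega)
            rwa [show i + (s - 1) + 1 = i + (s + 1 - 1) by omega] at this
        · simp only [if_true]
          rw [if_neg (by omega), show i + (j - i + 2 - 1 - 1) = j by omega, a_comm]
          exact hj'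
      rcases Nat.lt_or_ge l k with h | h
      · exact hcyc l k h hkt hla hka
      · exact hcyc k l (by omega) hl hka hla
    · exfalso
      rcases le_total k l with h | h
      · refine hA (affine_of_fork_fork (hP.sub (k - 1) (l - k + 3) (by omega)) (by omega)
          (htwo z) (htwo y) (Ne.symm hyz) (fun i hi => hzu _ (by omega))
          (fun i hi => hyu _ (by omega)) ?_ ?_)
        · simp only [show k - 1 + 1 = k by omega]; exact hka
        · simp only [show k - 1 + (l - k + 3 - 2) = l by omega]; exact hla
      · refine hA (affine_of_fork_fork (hP.sub (l - 1) (k - l + 3) (by omega)) (by omega)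
          (htwo y) (htwo z) hyz (fun i hi => hyu _ (by omega))
          (fun i hi => hzu _ (by omega)) ?_ ?_)
        · simp only [show l - 1 + 1 = l by omega]; exact hla
        · simp only [show l - 1 + (k - l + 3 - 2) = k by omega]; exact hka
  -- z is a leaf
  have hzleaf : ∀ y, y ≠ z → T.a z y ≠ 0 → y = u k := by
    intro y hyz hne
    by_cases hy : ∃ i, i < t ∧ u i = y
    · obtain ⟨i, hi, rfl⟩ := hy
      rw [(hbr z i hzu hi (a_comm T z (u i) ▸ hne)).2]
    · push Not at hy
      exfalso
      have hext : ∀ (w : ℕ → Fin n), Path T t w → (∀ i, i < t → w i ≠ z) → (∀ i, i < t → w i ≠ y) →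
          0 < T.a (w 1) z → False := by
        intro w hw hwz hwy h1
        refine hmax (fun i => if i = 0 then y else if i = 1 then z else w (i - 1))
          ⟨?_, fun i _ => htwo _, ?_⟩
        · intro i j hi hj e
          split_ifs at e <;> first
            | omega
            | exact absurd e hyz
            | exact absurd e.symm hyz
            | exact absurd e (hwz _ (by omega))
            | exact absurd e.symm (hwz _ (by omega))
            | exact absurd e (hwy _ (by omega))
            | exact absurd e.symm (hwy _ (by omega))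
            | (have := hw.inj _ _ (by omega) (by omega) e; omega)
        · intro i hi
          by_cases a : i = 0
          · simp only [a, if_true, Nat.zero_add, one_ne_zero, if_false]
            rw [a_comm]; exact pos_of_ne_zero T (Ne.symm hyz) hne
          · by_cases b : i = 1
            · subst b
              simp only [one_ne_zero, if_false, if_true, Nat.add_one_sub_one]
              rw [if_neg (by omega), if_neg (by omega), a_comm]
              exact h1
            · simp only [a, b, if_false]
              rw [if_neg (by omega), if_neg (by omega)]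
              have := hw.adj (i - 1) (by omega)
              rwa [show i - 1 + 1 = i + 1 - 1 by omega] at this
      by_cases h1 : k = 1
      · exact hext u hP hzu hy (h1 ▸ hka)
      by_cases h2 : k + 2 = t
      · refine hext _ hP.rev (hinj' z hzu) (hinj' y hy) ?_
        simp only [show t - 1 - 1 = k by omega]; exact hka
      obtain ⟨e, h⟩ := (hP.sub (k - 2) 5 (by omega)).e6_type (htwo y) (htwo z) hyz
        (fun i hi => hy _ (by omega)) (fun i hi => hzu _ (by omega))
        (by simp only [show k - 2 + 2 = k by omega]; exact hka)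
        (pos_of_ne_zero T (Ne.symm hyz) hne)
      exact hA (.inr (.inr (.inr (.inr (.inr (.inr (.inr (.inr (.inr (.inl ⟨e.symm, h⟩))))))))))
  -- everything is on the path or is z
  have hall : ∀ x, (∃ i, i < t ∧ u i = x) ∨ x = z := by
    intro x
    by_contra hx
    obtain ⟨a, ha, b, hb, hab⟩ := T.connected (univ.filter fun y => (∃ i, i < t ∧ u i = y) ∨ y = z)
      ⟨z, by simp⟩ (fun e => by
        have h' : x ∈ univ.filter fun y => (∃ i, i < t ∧ u i = y) ∨ y = z := by
          rw [e]; exact mem_univ x
        exact hx (mem_filter.1 h').2)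
    simp only [mem_filter, mem_univ, true_and, not_or, not_exists, not_and] at ha hb
    rcases ha with ⟨i, hi, rfl⟩ | rfl
    · exact hb.2 (hbr b i hb.1 hi hab).1
    · exact hb.1 k hkt (hzleaf b hb.2 hab).symm
  -- chords are absent
  have hnc : ∀ i j, i + 1 < j → j < t → T.a (u i) (u j) = 0 := by
    intro i j hij hj
    by_contra hne
    refine hA (affine_of_cycle (hP.sub i (j - i + 1) (by omega)) (by omega) ?_)
    simp only [Nat.add_zero, show i + (j - i + 1 - 1) = j by omega]
    exact pos_of_ne_zero T (fun e => absurd (hP.inj _ _ (by omega) (by omega) e) (by omega)) hne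
  have hnb : ∀ i j, i < t → i ≠ k → j ≠ u i → T.a (u i) j ≠ 0 →
      (i + 1 < t ∧ j = u (i + 1)) ∨ (0 < i ∧ j = u (i - 1)) := by
    intro i j hi hik hj hne
    rcases hall j with ⟨l, hl, rfl⟩ | rfl
    · rcases lt_trichotomy i l with h | rfl | h
      · by_cases h1 : i + 1 < l
        · exact absurd (hnc i l h1 hl) hne
        · exact .inl ⟨by omega, by rw [show l = i + 1 by omega]⟩
      · exact absurd rfl hj
      · by_cases h1 : l + 1 < i
        · exact absurd (a_comm T (u l) (u i) ▸ hnc l i h1 hi) hne
        · exact .inr ⟨by omega, by rw [show l = i - 1 by omega]⟩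
    · exact absurd (hbr j i hzu hi hne).2 hik
  have hl := leg hP k hkt (fun i hi => hpath i (by omega))
    (fun i j hi hj hne => (hnb i j (by omega) (by omega) hj hne).imp (fun h => h.2) id)
  have hr := leg hP.rev (t - 1 - k) (by omega)
    (fun i hi => by
      have := (hpath (t - 1 - (i + 1)) (by omega)).symm
      rwa [show t - 1 - (i + 1) + 1 = t - 1 - i by omega] at this)
    (fun i j hi hj hne => by
      rcases hnb (t - 1 - i) j (by omega) (by omega) hj hne with ⟨h1, rfl⟩ | ⟨h1, rfl⟩
      · exact .inr ⟨by omega, congrArg u (by omega)⟩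
      · exact .inl (congrArg u (by omega)))
  have hrk := hr (t - 1 - k) le_rfl
  have hrk' := hr (t - 2 - k) (by omega)
  simp only [show t - 1 - (t - 1 - k) = k by omega, Nat.sub_zero] at hrk
  simp only [show t - 1 - (t - 2 - k) = k + 1 by omega, Nat.sub_zero] at hrk'
  have hz2 := row_eq (htwo z) {u k}
    (by simp only [mem_singleton]; exact (hzu k hkt).symm)
    (fun j hj hjS => by
      by_contra hne
      exact hjS (by simp [hzleaf j hj hne]))
  rw [sum_singleton, hzk.symm.1] at hz2
  have hc := row_eq (htwo (u k)) {z, u (k - 1), u (k + 1)}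
    (by
      simp only [mem_insert, mem_singleton, not_or]
      exact ⟨hzu k hkt, fun e => absurd (hP.inj _ _ (by omega) (by omega) e) (by omega),
        fun e => absurd (hP.inj _ _ (by omega) (by omega) e) (by omega)⟩)
    (fun j hj hjS => by
      by_contra hne
      simp only [mem_insert, mem_singleton, not_or] at hjS
      rcases hall j with ⟨l, hl', rfl⟩ | rfl
      · rcases lt_trichotomy k l with h | rfl | h
        · exact absurd (hnc k l (by
            by_contra h1; exact hjS.2.2 (by rw [show l = k + 1 by omega])) hl') hne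
        · exact absurd rfl hj
        · exact absurd (a_comm T (u l) (u k) ▸ hnc l k (by
            by_contra h1; exact hjS.2.1 (by rw [show l = k - 1 by omega])) hkt) hne
      · exact hjS.1 rfl)
  have hs1 := (hpath (k - 1) (by omega)).symm
  rw [show k - 1 + 1 = k by omega] at hs1
  rw [sum_insert (by
      simp only [mem_insert, mem_singleton, not_or]
      exact ⟨fun e => hzu _ (by omega) e.symm, fun e => hzu _ (by omega) e.symm⟩),
    sum_pair (fun e => absurd (hP.inj _ _ (by omega) (by omega) e) (by omega)),
    hzk.1, hs1.1, (hpath k (by omega)).1, hl (k - 1) (by omega), hrk',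
    show ((k - 1 : ℕ) : ℤ) = (k : ℤ) - 1 by omega] at hc
  have hc' : 2 * T.m (u k) = T.m z + ((k : ℤ) * T.m (u 0) + (((t - 2 - k : ℕ) : ℤ) + 1) * T.m (u (t - 1))) := by
    apply mul_left_cancel₀ (T.w_pos (u k)).ne'
    linarith
  have hz' : 2 * T.m z = T.m (u k) := by
    apply mul_left_cancel₀ (T.w_pos z).ne'
    linarith
  obtain ⟨a, ha⟩ : ∃ a : ℕ, a = k + 1 := ⟨_, rfl⟩
  obtain ⟨b, hb⟩ : ∃ b : ℕ, b = t - k := ⟨_, rfl⟩
  have hA' : T.m (u k) = (a : ℤ) * T.m (u 0) := by
    rw [hl k le_rfl, ha]; push_cast; ring
  rw [show (((t - 1 - k : ℕ) : ℤ) + 1) = (b : ℤ) by omega] at hrk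
  rw [show (((t - 2 - k : ℕ) : ℤ) + 1) = (b : ℤ) - 1 by omega,
    show (k : ℤ) = (a : ℤ) - 1 by omega] at hc'
  have hab : ((a : ℤ) - 2) * ((b : ℤ) - 2) = 4 := by
    have e : T.m (u k) * (((a : ℤ) - 2) * ((b : ℤ) - 2) - 4) = 0 := by
      linear_combination -(2 * (a : ℤ) * b) * hc' - (a : ℤ) * b * hz' +
        2 * (b : ℤ) * ((a : ℤ) - 1) * hA' + 2 * (a : ℤ) * ((b : ℤ) - 1) * hrk
    have := (mul_eq_zero.1 e).resolve_left (T.m_pos _).ne'
    linarith
  have ha' : a ≤ 6 ∧ 3 ≤ a ∧ b ≤ 6 ∧ 3 ≤ b := by
    have h1 : (2 : ℤ) ≤ a := by omega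
    have h2 : (2 : ℤ) ≤ b := by omega
    have h3 : (a : ℤ) ≠ 2 := fun e => by rw [e] at hab; norm_num at hab
    have h4 : (b : ℤ) ≠ 2 := fun e => by rw [e] at hab; norm_num at hab
    refine ⟨?_, by omega, ?_, by omega⟩
    · by_contra h
      nlinarith [(show (7 : ℤ) ≤ a by omega), (show (3 : ℤ) ≤ b by omega)]
    · by_contra h
      nlinarith [(show (7 : ℤ) ≤ b by omega), (show (3 : ℤ) ≤ a by omega)]
  obtain ⟨g1, g2, g3, g4⟩ := ha'
  have hcases : (a = 6 ∧ b = 3) ∨ (a = 3 ∧ b = 6) ∨ (a = 4 ∧ b = 4) := by
    interval_cases a <;> interval_cases b <;> (try norm_num at hab) <;> omega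
  rcases hcases with ⟨e1, e2⟩ | ⟨e1, e2⟩ | ⟨e1, e2⟩
  · obtain ⟨e, h⟩ := (hP.sub 0 8 (by omega)).e8_type (htwo z) (fun i hi => hzu _ (by omega))
      (by simp only [show 0 + 5 = k by omega]; exact hka)
    exact hA (.inr (.inr (.inr (.inr (.inr (.inr (.inr (.inr (.inr (.inr (.inr ⟨e.symm, h⟩)))))))))))
  · obtain ⟨e, h⟩ := ((hP.sub 0 8 (by omega)).rev).e8_type (htwo z) (fun i hi => hzu _ (by omega))
      (by simp only [show 0 + (8 - 1 - 5) = k by omega]; exact hka)
    exact hA (.inr (.inr (.inr (.inr (.inr (.inr (.inr (.inr (.inr (.inr (.inr ⟨e.symm, h⟩)))))))))))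
  · obtain ⟨e, h⟩ := (hP.sub 0 7 (by omega)).e7_type (htwo z) (fun i hi => hzu _ (by omega))
      (by simp only [show 0 + 3 = k by omega]; exact hka)
    exact hA (.inr (.inr (.inr (.inr (.inr (.inr (.inr (.inr (.inr (.inr (.inl ⟨e.symm, h⟩)))))))))))

/-- Classification of numerical types with only (-2)-indices on at least three indices. -/
theorem classify (hn : 2 < n) (htwo : ∀ i, T.IsMinusTwo i) : Affine T := by
  obtain ⟨t, u, h3, hP, hmax⟩ := exists_longest hn htwo
  rcases lt_or_eq_of_le hP.le with hlt | rfl
  · exact affine_of_branched hn htwo hP hlt h3 hmax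
  · by_contra hA
    refine hA (affine_of_spanning hn htwo hP fun i j hij hj => ?_)
    by_contra hne
    refine hA (affine_of_cycle (hP.sub i (j - i + 1) (by omega)) (by omega) ?_)
    simp only [Nat.add_zero, show i + (j - i + 1 - 1) = j by omega]
    exact pos_of_ne_zero T (fun e => absurd (hP.inj _ _ (by omega) (by omega) e) (by omega)) hne

end Groth.Agent.Lib.NumType.Classify
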