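import Groth.Agent.Lib.NumType.Basic
import Mathlib.GroupTheory.Perm.Basic
import Mathlib.Data.Fintype.EquivFin
import Mathlib.Tactic.NormNum

/-!
# Embedded configurations of (-2)-indices of affine type
-/

set_option autoImplicit false

open Finset Models
open Groth.Agent.Lib.NumType.Basic

namespace Groth.Agent.Lib.NumType.Config

/-- A configuration: multiplicities `M`, weights `W` and intersection numbers `A i j` for `i < j`. -/
structure Cfg : Type where
  size : ℕ
  M : ℕ → ℤ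
  W : ℕ → ℤ
  A : ℕ → ℕ → ℤ

/-- The symmetrized off-diagonal entries. -/
def Cfg.sym (C : Cfg) (i j : ℕ) : ℤ := if i < j then C.A i j else if j < i then C.A j i else 0

/-- The conditions making a configuration of affine type. -/
structure Cfg.Good (C : Cfg) : Prop where
  M_pos : ∀ s, s < C.size → 0 < C.M s
  W_pos : ∀ s, s < C.size → 0 < C.W s
  A_nonneg : ∀ s t, s < t → t < C.size → 0 ≤ C.A s t
  row : ∀ s : Fin C.size, 2 * C.W s * C.M s ≤ ∑ t : Fin C.size, C.sym s t * C.M t
  M_one : ∃ s, s < C.size ∧ C.M s = 1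
  W_one : ∃ s, s < C.size ∧ C.W s = 1

lemma Cfg.sym_comm (C : Cfg) (i j : ℕ) : C.sym i j = C.sym j i := by
  unfold Cfg.sym
  rcases lt_trichotomy i j with h | rfl | h
  · rw [if_pos h, if_neg (lt_asymm h), if_pos h]
  · rfl
  · rw [if_neg (lt_asymm h), if_pos h, if_pos h]

lemma Cfg.sym_nonneg (C : Cfg) (h : ∀ s t, s < t → t < C.size → 0 ≤ C.A s t) (i j : Fin C.size) :
    0 ≤ C.sym i j := by
  unfold Cfg.sym
  split_ifs with h1 h2
  · exact h _ _ h1 j.2
  · exact h _ _ h2 i.2
  · exact le_rfl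

variable {n : ℕ}

/-- `v` embeds the configuration `C` in `T`, with intersection numbers at least as large. -/
structure Fits (T : NumericalType n) (C : Cfg) (v : Fin C.size → Fin n) : Prop where
  inj : Function.Injective v
  minusTwo : ∀ s, T.IsMinusTwo (v s)
  bound : ∀ s t : Fin C.size, (s : ℕ) < t → C.A s t ≠ 0 → 0 < T.a (v s) (v t) ∧
    (C.W s < C.A s t → C.A s t * T.w (v s) ≤ C.W s * T.a (v s) (v t)) ∧
    (C.W t < C.A s t → C.A s t * T.w (v t) ≤ C.W t * T.a (v s) (v t))

/-- `T` is of type `C` up to a permutation and scaling. -/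
def HasType (T : NumericalType n) (C : Cfg) : Prop :=
  ∃ (σ : Equiv.Perm (Fin n)) (m w : ℤ), (∀ i, T.IsMinusTwo (σ i)) ∧
    (∀ i : Fin n, T.m (σ i) = C.M i * m ∧ T.w (σ i) = C.W i * w) ∧
    ∀ i j : Fin n, i.val < j.val → T.a (σ i) (σ j) = C.A i j * w

lemma Fits.bound' {T : NumericalType n} {C : Cfg} (hC : C.Good) {v : Fin C.size → Fin n}
    (h : Fits T C v) {s t : Fin C.size} (hst : s ≠ t) :
    C.sym s t * T.w (v s) ≤ C.W s * T.a (v s) (v t) := by
  have hnn := T.offDiag_nonneg _ _ fun e => hst (h.inj e)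
  by_cases h0 : C.sym s t = 0
  · rw [h0, zero_mul]; exact mul_nonneg (hC.W_pos _ s.2).le hnn
  unfold Cfg.sym at h0 ⊢
  rcases lt_trichotomy (s : ℕ) t with hlt | he | hlt
  · rw [if_pos hlt] at h0 ⊢
    obtain ⟨hp, hs, -⟩ := h.bound s t hlt h0
    by_cases hW : C.W s < C.A s t
    · exact hs hW
    · nlinarith [(w_le T hp).1, T.w_pos (v s), hC.W_pos s s.2]
  · exact absurd (Fin.ext he) hst
  · rw [if_neg (lt_asymm hlt), if_pos hlt] at h0 ⊢
    obtain ⟨hp, -, hs⟩ := h.bound t s hlt h0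
    rw [a_comm T (v s)]
    by_cases hW : C.W s < C.A t s
    · exact hs hW
    · nlinarith [(w_le T hp).2, T.w_pos (v s), hC.W_pos s s.2]

lemma Fits.surjective_and_eq {T : NumericalType n} {C : Cfg} (hC : C.Good)
    {v : Fin C.size → Fin n} (h : Fits T C v) :
    Function.Surjective v ∧
      (∀ s t : Fin C.size, C.M s * T.m (v t) = C.M t * T.m (v s)) ∧
      ∀ s t : Fin C.size, s ≠ t → C.sym s t * T.w (v s) = C.W s * T.a (v s) (v t) := by
  classical
  let X : Fin n → ℤ := fun i => ∑ t : Fin C.size, if v t = i then C.M t else 0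
  have hXv : ∀ t : Fin C.size, X (v t) = C.M t := fun t => by
    simp only [X, h.inj.eq_iff]; simp
  have hsum : ∀ i, ∑ j, T.a i j * X j = ∑ t : Fin C.size, T.a i (v t) * C.M t := fun i => by
    simp only [X, Finset.mul_sum]
    rw [Finset.sum_comm]
    simp
  have hrow : ∀ s : Fin C.size, C.W s * ∑ t : Fin C.size, T.a (v s) (v t) * C.M t =
      ∑ t ∈ univ.erase s, (C.W s * T.a (v s) (v t) - C.sym s t * T.w (v s)) * C.M t +
      T.w (v s) * (∑ t : Fin C.size, C.sym s t * C.M t - 2 * C.W s * C.M s) := by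
    intro s
    rw [← Finset.add_sum_erase _ _ (mem_univ s),
      ← Finset.add_sum_erase _ (fun t : Fin C.size => C.sym s t * C.M t) (mem_univ s), (h.minusTwo s).2,
      show C.sym (s : ℕ) s = 0 by simp [Cfg.sym]]
    simp only [sub_mul, Finset.sum_sub_distrib, Finset.mul_sum, mul_add, mul_sub, mul_assoc]
    simp only [mul_left_comm, mul_comm, Finset.mul_sum]
    ring
  have hnn : ∀ s : Fin C.size, ∀ t ∈ univ.erase s,
      0 ≤ (C.W s * T.a (v s) (v t) - C.sym s t * T.w (v s)) * C.M t := fun s t ht =>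
    mul_nonneg (sub_nonneg.2 (h.bound' hC (ne_of_mem_erase ht).symm)) (hC.M_pos t t.2).le
  have hnn' : ∀ s : Fin C.size,
      0 ≤ T.w (v s) * (∑ t : Fin C.size, C.sym s t * C.M t - 2 * C.W s * C.M s) := fun s =>
    mul_nonneg (T.w_pos _).le (sub_nonneg.2 (hC.row s))
  have hX0 : ∀ i, 0 ≤ X i := fun i => Finset.sum_nonneg fun t _ => by
    split_ifs
    · exact (hC.M_pos t t.2).le
    · exact le_rfl
  have hsup : ∀ i, X i ≠ 0 → ∃ t, v t = i := fun i hi => by
    by_contra hc
    exact hi (Finset.sum_eq_zero fun t _ => if_neg fun e => hc ⟨t, e⟩)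
  have hne : ∃ i, X i ≠ 0 := by
    obtain ⟨s, hs, hs1⟩ := hC.M_one
    exact ⟨v ⟨s, hs⟩, by rw [hXv]; simp [hs1]⟩
  have hge : ∀ i, X i ≠ 0 → 0 ≤ ∑ j, T.a i j * X j := fun i hi => by
    obtain ⟨s, rfl⟩ := hsup i hi
    rw [hsum]
    have : 0 ≤ C.W s * ∑ t : Fin C.size, T.a (v s) (v t) * C.M t := by
      rw [hrow]; exact add_nonneg (Finset.sum_nonneg (hnn s)) (hnn' s)
    exact nonneg_of_mul_nonneg_right this (hC.W_pos s s.2)
  obtain ⟨hpos, hker⟩ := full_support T X hX0 hne hge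
  have hprop := proportional T X hX0 hne hge
  refine ⟨fun i => hsup i (hpos i).ne', fun s t => by simpa [hXv] using hprop (v s) (v t), ?_⟩
  intro s t hst
  have h0 := hrow s
  rw [← hsum, hker, mul_zero] at h0
  have h1 := Finset.sum_nonneg (hnn s)
  have h2 := hnn' s
  have := (Finset.sum_eq_zero_iff_of_nonneg (hnn s)).1 (by linarith) t (by simp [hst.symm])
  have := (mul_eq_zero.1 this).resolve_right (hC.M_pos t t.2).ne'
  linarith

lemma Fits.size_eq {T : NumericalType n} {C : Cfg} (hC : C.Good) {v : Fin C.size → Fin n}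
    (h : Fits T C v) : C.size = n := by
  have := Fintype.card_of_bijective (f := v) ⟨h.inj, (h.surjective_and_eq hC).1⟩
  simpa using this

lemma Fits.not_of_size_ne {T : NumericalType n} {C : Cfg} (hC : C.Good) {v : Fin C.size → Fin n}
    (h : Fits T C v) (hne : C.size ≠ n) : False := hne (h.size_eq hC)

lemma Fits.hasType {T : NumericalType n} {C : Cfg} (hC : C.Good) {v : Fin C.size → Fin n}
    (h : Fits T C v) : HasType T C := by
  classical
  obtain ⟨hs, hM, hA⟩ := h.surjective_and_eq hC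
  obtain rfl := h.size_eq hC
  let σ : Equiv.Perm (Fin C.size) := Equiv.ofBijective v ⟨h.inj, hs⟩
  have hσ : ∀ i, σ i = v i := fun i => rfl
  obtain ⟨s1, hs1, hM1⟩ := hC.M_one
  obtain ⟨s0, hs0, hW1⟩ := hC.W_one
  have hedge : ∀ s t, T.a (v s) (v t) ≠ 0 → T.w (v s) * C.W t = T.w (v t) * C.W s := by
    intro s t hst
    rcases eq_or_ne s t with rfl | hne
    · rfl
    have e1 := hA s t hne
    have e2 := hA t s hne.symm
    rw [C.sym_comm t s, a_comm T (v t)] at e2
    have h0 : C.sym s t ≠ 0 := fun h0 => by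
      rw [h0, zero_mul] at e1
      exact hst ((mul_eq_zero.1 e1.symm).resolve_left (hC.W_pos s s.2).ne')
    apply mul_left_cancel₀ h0
    linear_combination (C.W t) * e1 - (C.W s) * e2
  have hW : ∀ i, T.w (v i) = C.W i * T.w (v ⟨s0, hs0⟩) := by
    intro i
    have := Form.eq_of_connected T.a T.connected
      (fun k => (T.w k : ℚ) / (C.W (σ.symm k) : ℚ)) (fun a b hab => by
        rw [div_eq_div_iff (by exact_mod_cast (hC.W_pos _ (σ.symm a).2).ne')
          (by exact_mod_cast (hC.W_pos _ (σ.symm b).2).ne')]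
        have := hedge (σ.symm a) (σ.symm b)
          (by simp only [← hσ, Equiv.apply_symm_apply]; exact hab)
        simp only [← hσ, Equiv.apply_symm_apply] at this
        exact_mod_cast this) (σ i) (σ ⟨s0, hs0⟩)
    rw [Equiv.symm_apply_apply, Equiv.symm_apply_apply, hσ, hσ, hW1, Int.cast_one, div_one] at this
    rw [div_eq_iff (by exact_mod_cast (hC.W_pos _ i.2).ne')] at this
    have : T.w (v i) = T.w (v ⟨s0, hs0⟩) * C.W i := by exact_mod_cast this
    linarith
  refine ⟨σ, T.m (v ⟨s1, hs1⟩), T.w (v ⟨s0, hs0⟩), fun i => h.minusTwo i, fun i => ⟨?_, hW i⟩, ?_⟩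
  · have := hM i ⟨s1, hs1⟩
    rw [hM1, one_mul] at this
    exact this.symm
  · intro i j hij
    have := hA i j (fun e => by rw [e] at hij; exact lt_irrefl _ hij)
    rw [Cfg.sym, if_pos hij, hW i] at this
    apply mul_left_cancel₀ (hC.W_pos i i.2).ne'
    rw [hσ, hσ]; linear_combination -this

lemma Cfg.le_row_one (C : Cfg) (hA : ∀ s t, s < t → t < C.size → 0 ≤ C.A s t)
    (hM : ∀ s, s < C.size → 0 < C.M s) (s t : Fin C.size) :
    C.sym s t * C.M t ≤ ∑ t : Fin C.size, C.sym s t * C.M t :=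
  Finset.single_le_sum (f := fun t : Fin C.size => C.sym s t * C.M t)
    (fun t _ => mul_nonneg (C.sym_nonneg hA s t) (hM t t.2).le) (mem_univ t)

lemma Cfg.le_row_two (C : Cfg) (hA : ∀ s t, s < t → t < C.size → 0 ≤ C.A s t)
    (hM : ∀ s, s < C.size → 0 < C.M s) (s : Fin C.size) {t u : ℕ} (ht : t < C.size)
    (hu : u < C.size) (htu : t ≠ u) :
    C.sym s t * C.M t + C.sym s u * C.M u ≤ ∑ t : Fin C.size, C.sym s t * C.M t := by
  classical
  rw [← Finset.sum_pair (f := fun t : Fin C.size => C.sym s t * C.M t)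
    (a := ⟨t, ht⟩) (b := ⟨u, hu⟩) (by simpa using htu)]
  exact Finset.sum_le_sum_of_subset_of_nonneg (subset_univ _)
    fun t _ _ => mul_nonneg (C.sym_nonneg hA s t) (hM t t.2).le

lemma Cfg.le_row_three (C : Cfg) (hA : ∀ s t, s < t → t < C.size → 0 ≤ C.A s t)
    (hM : ∀ s, s < C.size → 0 < C.M s) (s : Fin C.size) {t u r : ℕ} (ht : t < C.size)
    (hu : u < C.size) (hr : r < C.size) (htu : t ≠ u) (htr : t ≠ r) (hur : u ≠ r) :
    C.sym s t * C.M t + (C.sym s u * C.M u + C.sym s r * C.M r) ≤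
      ∑ t : Fin C.size, C.sym s t * C.M t := by
  classical
  rw [← Finset.sum_pair (f := fun t : Fin C.size => C.sym s t * C.M t)
    (a := ⟨u, hu⟩) (b := ⟨r, hr⟩) (by simpa using hur),
    show C.sym s t = C.sym s (⟨t, ht⟩ : Fin C.size) from rfl,
    show C.M t = C.M (⟨t, ht⟩ : Fin C.size) from rfl,
    ← Finset.sum_insert (f := fun t : Fin C.size => C.sym s t * C.M t)
    (a := ⟨t, ht⟩) (by simp [htu, htr])]
  exact Finset.sum_le_sum_of_subset_of_nonneg (subset_univ _)
    fun t _ _ => mul_nonneg (C.sym_nonneg hA s t) (hM t t.2).le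

end Groth.Agent.Lib.NumType.Config
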