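import Groth.Agent.Lib.NumType.Pic

/-!
# Contraction of a (-1)-index
-/

set_option autoImplicit false

open Finset Models Matrix
open Groth.Agent.Lib.NumType.Basic Groth.Agent.Lib.NumType.Pic

namespace Groth.Agent.Lib.NumType.Contract

variable {n : ℕ} (T : NumericalType (n + 1))

lemma pos_of_minusOne (h : T.IsMinusOne (Fin.last n)) : 0 < n := by
  by_contra hn
  obtain rfl : n = 0 := by omega
  have := diag_zero_of_one T
  have h2 := h.2
  rw [show Fin.last 0 = (0 : Fin 1) from rfl] at h2
  have := T.w_pos 0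
  omega

/-- The halved weight. -/
def newW (i : Fin n) : ℤ :=
  if 2 ∣ T.a i.castSucc (Fin.last n) / T.w (Fin.last n) ∧
      ¬ 2 ∣ T.a i.castSucc (Fin.last n) / T.w i.castSucc
  then T.w i.castSucc / 2 else T.w i.castSucc

/-- The genus correction. -/
def newG (i : Fin n) : ℤ :=
  T.w i.castSucc / newW T i * (T.g i.castSucc - 1) + 1 +
    (T.a i.castSucc (Fin.last n) ^ 2 - T.w (Fin.last n) * T.a i.castSucc (Fin.last n)) /
      (2 * newW T i * T.w (Fin.last n))

/-- The contracted matrix. -/
def newA : Matrix (Fin n) (Fin n) ℤ := fun i j => T.a i.castSucc j.castSucc -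
  T.a i.castSucc (Fin.last n) * T.a j.castSucc (Fin.last n) / T.a (Fin.last n) (Fin.last n)

/-- Facts about one index: `a = p w_l = q w`, the weight is `c` times the new one. -/
lemma index_facts (i : Fin n) : ∃ p q c s : ℤ,
    T.a i.castSucc (Fin.last n) = p * T.w (Fin.last n) ∧
    T.a i.castSucc (Fin.last n) = q * T.w i.castSucc ∧
    (c = 1 ∨ c = 2) ∧ T.w i.castSucc = c * newW T i ∧ 0 < newW T i ∧
    0 ≤ c * (T.g i.castSucc - 1) + 1 + s ∧ c * q * (p - 1) = 2 * s ∧
    newG T i = c * (T.g i.castSucc - 1) + 1 + s := by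
  have hwl := T.w_pos (Fin.last n)
  have hw := T.w_pos i.castSucc
  have hne : i.castSucc ≠ Fin.last n := (Fin.castSucc_lt_last i).ne
  have hg := T.g_nonneg i.castSucc
  obtain ⟨p, hp⟩ : T.w (Fin.last n) ∣ T.a i.castSucc (Fin.last n) := by
    rw [a_comm]; exact T.w_dvd _ _
  obtain ⟨q, hq⟩ := T.w_dvd i.castSucc (Fin.last n)
  have ha := T.offDiag_nonneg _ _ hne
  have hp0 : 0 ≤ p := by rw [hp] at ha; exact (mul_nonneg_iff_of_pos_left hwl).1 ha
  have hq0 : 0 ≤ q := by rw [hq] at ha; exact (mul_nonneg_iff_of_pos_left hw).1 ha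
  have hzero : p = 0 → q = 0 := fun h0 => by
    rw [hp, h0, mul_zero] at hq
    exact (mul_eq_zero.1 hq.symm).resolve_left hw.ne'
  have hzero' : q = 0 → p = 0 := fun h0 => by
    rw [hq, h0, mul_zero] at hp
    exact (mul_eq_zero.1 hp.symm).resolve_left hwl.ne'
  have hdp : T.a i.castSucc (Fin.last n) / T.w (Fin.last n) = p := by
    rw [hp, Int.mul_ediv_cancel_left _ hwl.ne']
  have hdq : T.a i.castSucc (Fin.last n) / T.w i.castSucc = q := by
    rw [hq, Int.mul_ediv_cancel_left _ hw.ne']
  have key : ∀ c wn s : ℤ, 0 < wn → T.w i.castSucc = c * wn → c * q * (p - 1) = 2 * s →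
      newW T i = wn → newG T i = c * (T.g i.castSucc - 1) + 1 + s := by
    intro c wn s hwn hc hs hnew
    have e : T.a i.castSucc (Fin.last n) ^ 2 - T.w (Fin.last n) * T.a i.castSucc (Fin.last n) =
        (2 * wn * T.w (Fin.last n)) * s := by
      calc T.a i.castSucc (Fin.last n) ^ 2 - T.w (Fin.last n) * T.a i.castSucc (Fin.last n)
          = T.a i.castSucc (Fin.last n) *
            (T.a i.castSucc (Fin.last n) - T.w (Fin.last n)) := by ring
        _ = (T.w i.castSucc * q) * (T.w (Fin.last n) * p - T.w (Fin.last n)) := by rw [← hp, ← hq]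
        _ = (wn * T.w (Fin.last n)) * (c * q * (p - 1)) := by rw [hc]; ring
        _ = _ := by rw [hs]; ring
    rw [newG, hnew, hc, e, Int.mul_ediv_cancel _ hwn.ne',
      Int.mul_ediv_cancel_left _ (mul_pos (mul_pos two_pos hwn) hwl).ne']
  have hp1 : 0 ≤ p - 1 ∨ q = 0 := by
    by_cases h0 : p = 0
    · exact .inr (hzero h0)
    · exact .inl (by omega)
  by_cases hc : 2 ∣ p ∧ ¬2 ∣ q
  · obtain ⟨⟨p', hp'⟩, hqodd⟩ := hc
    have hqp : 1 ≤ q := by
      by_contra h
      exact hqodd ⟨0, by omega⟩
    have hw2 : 2 ∣ T.w i.castSucc := by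
      have : 2 ∣ T.w i.castSucc * q :=
        ⟨T.w (Fin.last n) * p', by rw [← hq, hp, hp']; ring⟩
      exact ((Int.even_mul.1 (even_iff_two_dvd.2 this)).imp even_iff_two_dvd.1 even_iff_two_dvd.1).resolve_right hqodd
    obtain ⟨w', hw'⟩ := hw2
    have hnew : newW T i = w' := by
      rw [newW, hdp, hdq, if_pos ⟨⟨p', hp'⟩, hqodd⟩, hw', Int.mul_ediv_cancel_left _ two_ne_zero]
    have hpp : 1 ≤ p - 1 := by
      have : p ≠ 0 := fun h => by have := hzero h; omega
      omega
    refine ⟨p, q, 2, q * (p - 1), by linarith, by linarith, .inr rfl, by rw [hnew, hw'],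
      by omega, ?_, by ring, key 2 w' _ (by omega) hw' (by ring) hnew⟩
    nlinarith
  · have hnew : newW T i = T.w i.castSucc := by
      rw [newW, hdp, hdq, if_neg hc]
    obtain ⟨s, hs⟩ : 2 ∣ q * (p - 1) := by
      rcases Int.emod_two_eq_zero_or_one p with h | h
      · exact Dvd.dvd.mul_right (by
          by_contra hq2
          exact hc ⟨Int.dvd_of_emod_eq_zero h, hq2⟩) _
      · exact Dvd.dvd.mul_left (Int.dvd_of_emod_eq_zero (by omega)) _
    have hs0 : 0 ≤ s := by
      rcases hp1 with h | h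
      · have := mul_nonneg hq0 h; omega
      · rw [h, zero_mul] at hs; omega
    exact ⟨p, q, 1, s, by linarith, by linarith, .inl rfl, by rw [hnew, one_mul],
      hnew ▸ hw, by omega, by rw [one_mul]; exact hs,
      key 1 _ s hw (one_mul _).symm (by rw [one_mul]; exact hs) hnew⟩

lemma newA_eq (h : T.IsMinusOne (Fin.last n)) (i j : Fin n) (p : ℤ)
    (hp : T.a i.castSucc (Fin.last n) = p * T.w (Fin.last n)) :
    newA T i j = T.a i.castSucc j.castSucc + p * T.a (Fin.last n) j.castSucc := by
  rw [newA, h.2, Int.ediv_neg, a_comm T j.castSucc, hp,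
    show p * T.w (Fin.last n) * T.a (Fin.last n) j.castSucc =
      T.w (Fin.last n) * (p * T.a (Fin.last n) j.castSucc) by ring,
    Int.mul_ediv_cancel_left _ (T.w_pos _).ne', sub_neg_eq_add]

/-- `a'` applied to a vector, in terms of `a`. -/
lemma newA_mulVec (h : T.IsMinusOne (Fin.last n)) (i : Fin n) (y : Fin (n + 1) → ℤ) (p : ℤ)
    (hp : T.a i.castSucc (Fin.last n) = p * T.w (Fin.last n)) :
    ∑ j, newA T i j * y j.castSucc =
      T.a.mulVec y i.castSucc + p * T.a.mulVec y (Fin.last n) := by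
  simp only [newA_eq T h i _ p hp, Matrix.mulVec, dotProduct, Fin.sum_univ_castSucc, h.2,
    add_mul, Finset.sum_add_distrib, mul_assoc, ← Finset.mul_sum, hp]
  ring

/-- The contraction. -/
noncomputable def contract (h : T.IsMinusOne (Fin.last n)) : NumericalType n where
  m i := T.m i.castSucc
  a := newA T
  w := newW T
  g := newG T
  pos := pos_of_minusOne T h
  m_pos i := T.m_pos _
  w_pos i := by
    obtain ⟨p, q, c, s, -, -, -, -, hw, -⟩ := index_facts T i
    exact hw
  g_nonneg i := by
    obtain ⟨p, q, c, s, -, -, -, -, -, h1, -, h2⟩ := index_facts T i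
    rw [h2]; exact h1
  symm := Matrix.IsSymm.ext fun i j => by
    simp only [newA]
    rw [a_comm T i.castSucc j.castSucc, mul_comm]
  offDiag_nonneg i j hij := by
    obtain ⟨p, q, c, s, hp, -⟩ := index_facts T i
    rw [newA_eq T h i j p hp]
    have h1 := T.offDiag_nonneg _ _ (fun e => hij (Fin.castSucc_injective _ e))
    have h2 := T.offDiag_nonneg (Fin.last n) j.castSucc (Fin.castSucc_lt_last j).ne'
    have h3 := T.offDiag_nonneg i.castSucc (Fin.last n) (Fin.castSucc_lt_last i).ne
    rw [hp] at h3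
    have hp0 : 0 ≤ p := (mul_nonneg_iff_of_pos_right (T.w_pos _)).1 h3
    positivity
  connected I hI hne := by
    classical
    by_contra hcon
    simp only [not_exists, not_and, not_not] at hcon
    have key : ∀ i ∈ I, ∀ j ∉ I, T.a i.castSucc j.castSucc = 0 ∧
        (T.a i.castSucc (Fin.last n) = 0 ∨ T.a (Fin.last n) j.castSucc = 0) := by
      intro i hi j hj
      obtain ⟨p, q, c, s, hp, -⟩ := index_facts T i
      have e := hcon i hi j hj
      rw [newA_eq T h i j p hp] at e
      have hij : i ≠ j := fun e => hj (e ▸ hi)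
      have h1 := T.offDiag_nonneg _ _ (fun e => hij (Fin.castSucc_injective _ e))
      have h2 := T.offDiag_nonneg (Fin.last n) j.castSucc (Fin.castSucc_lt_last j).ne'
      have h3 := T.offDiag_nonneg i.castSucc (Fin.last n) (Fin.castSucc_lt_last i).ne
      rw [hp] at h3 ⊢
      have hp0 : 0 ≤ p := (mul_nonneg_iff_of_pos_right (T.w_pos _)).1 h3
      have h4 := mul_nonneg hp0 h2
      refine ⟨by linarith, ?_⟩
      rcases mul_eq_zero.1 (show p * T.a (Fin.last n) j.castSucc = 0 by linarith) with h | h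
      · exact .inl (by rw [h, zero_mul])
      · exact .inr h
    obtain ⟨j0, hj0⟩ : ∃ j, j ∉ I := by
      by_contra hh
      exact hne (eq_univ_iff_forall.2 fun j => by
        by_contra h'; exact hh ⟨j, h'⟩)
    let I' : Finset (Fin (n + 1)) := I.map Fin.castSuccEmb
    by_cases hside : ∃ i ∈ I, T.a i.castSucc (Fin.last n) ≠ 0
    · obtain ⟨i0, hi0, hne0⟩ := hside
      obtain ⟨a, ha, b, hb, hab⟩ := T.connected (insert (Fin.last n) I') (insert_nonempty _ _)
        (fun e => by
          have := eq_univ_iff_forall.1 e j0.castSucc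
          simp [I', Fin.castSucc_ne_last, hj0] at this)
      simp only [I', mem_insert, mem_map, Fin.coe_castSuccEmb, not_or, not_exists, not_and] at ha hb
      obtain ⟨b, rfl⟩ := Fin.exists_castSucc_eq.2 hb.1
      have hbI : b ∉ I := fun hb' => hb.2 b hb' rfl
      rcases ha with rfl | ⟨a, haI, rfl⟩
      · exact hab ((key i0 hi0 b hbI).2.resolve_left hne0)
      · exact hab (key a haI b hbI).1
    · push Not at hside
      obtain ⟨i0, hi0⟩ := hI
      obtain ⟨a, ha, b, hb, hab⟩ := T.connected I' ⟨i0.castSucc, by simp [I', hi0]⟩ (fun e => by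
          have := eq_univ_iff_forall.1 e (Fin.last n)
          simp [I', Fin.castSucc_ne_last] at this)
      simp only [I', mem_map, Fin.coe_castSuccEmb, not_exists, not_and] at ha hb
      obtain ⟨a, haI, rfl⟩ := ha
      rcases Fin.eq_castSucc_or_eq_last b with ⟨b, rfl⟩ | rfl
      · exact hab (key a haI b (fun hb' => hb b hb' rfl)).1
      · exact hab (hside a haI)
  mulVec_m := by
    funext i
    obtain ⟨p, q, c, s, hp, -⟩ := index_facts T i
    show ∑ j, newA T i j * T.m j.castSucc = 0
    rw [newA_mulVec T h i T.m p hp, T.mulVec_m]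
    simp
  w_dvd i j := by
    obtain ⟨p, q, c, s, hp, hq, -, hc, -⟩ := index_facts T i
    have h1 : newW T i ∣ T.w i.castSucc := ⟨c, by rw [hc]; ring⟩
    obtain ⟨r, hr⟩ : T.w (Fin.last n) ∣ T.a (Fin.last n) j.castSucc := T.w_dvd _ _
    have : newA T i j = T.a i.castSucc j.castSucc + T.a i.castSucc (Fin.last n) * r := by
      rw [newA_eq T h i j p hp, hr, hp]; ring
    rw [this]
    exact dvd_add (h1.trans (T.w_dvd _ _)) (Dvd.dvd.mul_right (h1.trans (T.w_dvd _ _)) _)

lemma contract_isContraction (h : T.IsMinusOne (Fin.last n)) :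
    T.IsContraction (contract T h) :=
  ⟨fun _ => rfl, fun _ _ => rfl, fun _ => rfl, fun _ => rfl⟩

lemma contraction_unique (h : T.IsMinusOne (Fin.last n)) (T' : NumericalType n)
    (hT' : T.IsContraction T') :
    T'.m = (contract T h).m ∧ T'.a = newA T ∧ T'.w = newW T ∧ T'.g = newG T := by
  obtain ⟨h1, h2, h3, h4⟩ := hT'
  have hw : T'.w = newW T := funext h3
  refine ⟨funext h1, Matrix.ext h2, hw, funext fun i => ?_⟩
  rw [h4 i, hw]
  rfl

lemma genus_eq (h : T.IsMinusOne (Fin.last n)) (T' : NumericalType n)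
    (hT' : T.IsContraction T') : T'.genus = T.genus := by
  obtain ⟨hm, ha, hw, hg⟩ := contraction_unique T h T' hT'
  have e1 := sum_contrib T'
  have e2 := sum_contrib T
  rw [Fin.sum_univ_castSucc] at e2
  have hlast : contrib T (Fin.last n) = -(T.w (Fin.last n) * T.m (Fin.last n)) := by
    rw [contrib, h.1, h.2]; ring
  have hrow := sum_row T (Fin.last n)
  rw [Fin.sum_univ_castSucc, h.2] at hrow
  have hi : ∀ i : Fin n, contrib T' i =
      contrib T i.castSucc - T.a (Fin.last n) i.castSucc * T.m i.castSucc := by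
    intro i
    obtain ⟨p, q, c, s, hp, hq, hc, hcw, hwp, -, hs, hG⟩ := index_facts T i
    have hA : T'.a i i = T.a i.castSucc i.castSucc + p * T.a i.castSucc (Fin.last n) := by
      rw [ha, newA_eq T h i i p hp, a_comm T (Fin.last n)]
    simp only [contrib]
    rw [hA, hm, hw, hg, hG, a_comm T (Fin.last n) i.castSucc]
    simp only [contract]
    linear_combination (-2 * T.m i.castSucc * (T.g i.castSucc - 1) -
      T.m i.castSucc * q * (p - 1)) * hcw - T.m i.castSucc * newW T i * hs -
      (p - 1) * T.m i.castSucc * hq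
  rw [Finset.sum_congr rfl fun i _ => hi i, Finset.sum_sub_distrib] at e1
  linarith

/-- The injection between Picard groups, with cokernel killed by two. -/
theorem pic_embeds (h : T.IsMinusOne (Fin.last n)) (T' : NumericalType n)
    (hT' : T.IsContraction T') :
    ∃ f : T.Pic →ₗ[ℤ] T'.Pic, Function.Injective f ∧ ∀ y, ∃ x, 2 • y = f x := by
  obtain ⟨-, ha, hw, -⟩ := contraction_unique T h T' hT'
  choose p q c s hp hq hc hcw hwp _ _ _ using index_facts T
  let ψ : (Fin (n + 1) → ℤ) →ₗ[ℤ] (Fin n → ℤ) := LinearMap.pi fun i =>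
    c i • (LinearMap.proj i.castSucc + q i • LinearMap.proj (Fin.last n))
  have hψ : ∀ x i, ψ x i = c i * (x i.castSucc + q i * x (Fin.last n)) := fun x i => by simp [ψ, mul_add]
  have hP : ∀ y : Fin (n + 1) → ℤ, ψ (T.picMatrix.mulVec y) =
      T'.picMatrix.mulVec (fun j => y j.castSucc) := by
    intro y
    funext i
    apply mul_left_cancel₀ (T'.w_pos i).ne'
    rw [w_mul_pic_vec T', hψ]
    show T'.w i * _ = ∑ j, T'.a i j * y j.castSucc
    rw [ha, newA_mulVec T h i y (p i) (hp i), ← w_mul_pic_vec T y, ← w_mul_pic_vec T y, hw]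
    linear_combination -(T.picMatrix.mulVec y i.castSucc) * hcw i +
      T.picMatrix.mulVec y (Fin.last n) * hp i - T.picMatrix.mulVec y (Fin.last n) * hq i -
      (q i * T.picMatrix.mulVec y (Fin.last n)) * hcw i
  refine ⟨Submodule.mapQ _ _ ψ (by
    rintro _ ⟨y, rfl⟩
    exact ⟨fun j => y j.castSucc, (hP y).symm⟩), ?_, ?_⟩
  · refine (injective_iff_map_eq_zero _).2 fun x hx => ?_
    obtain ⟨x, rfl⟩ := Submodule.Quotient.mk_surjective _ x
    rw [Submodule.mapQ_apply, Submodule.Quotient.mk_eq_zero] at hx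
    obtain ⟨y', hy'⟩ := hx
    rw [Submodule.Quotient.mk_eq_zero]
    have hdiag : T.picMatrix (Fin.last n) (Fin.last n) = -1 := by
      apply mul_left_cancel₀ (T.w_pos (Fin.last n)).ne'
      rw [w_mul_pic, h.2]; ring
    let y : Fin (n + 1) → ℤ :=
      Fin.snoc y' (∑ j, T.picMatrix (Fin.last n) j.castSucc * y' j - x (Fin.last n))
    have hyl : T.picMatrix.mulVec y (Fin.last n) = x (Fin.last n) := by
      simp [Matrix.mulVec, dotProduct, Fin.sum_univ_castSucc, y, hdiag]
    refine ⟨y, funext fun k => ?_⟩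
    rcases Fin.eq_castSucc_or_eq_last k with ⟨i, rfl⟩ | rfl
    · have e := congrFun hy' i
      have e' := congrFun (hP y) i
      simp only [y, Fin.snoc_castSucc] at e'
      rw [Matrix.mulVecLin_apply] at e
      rw [e, hψ, hψ, hyl] at e'
      have hc0 : c i ≠ 0 := by rcases hc i with h | h <;> omega
      have := mul_left_cancel₀ hc0 e'
      rw [Matrix.mulVecLin_apply]
      linarith
    · exact hyl
  · intro z
    obtain ⟨z, rfl⟩ := Submodule.Quotient.mk_surjective _ z
    refine ⟨Submodule.Quotient.mk (Fin.snoc (fun i => 2 / c i * z i) 0), ?_⟩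
    rw [Submodule.mapQ_apply, ← Submodule.Quotient.mk_smul]
    congr 1
    funext i
    rw [hψ]
    rcases hc i with h | h <;> simp [h]

/-- A non-minimal type contracts, after reordering, to a type with one index less. -/
lemma exists_contraction (h : ¬T.IsMinimal) :
    ∃ (T' : NumericalType n) (f : T.Pic →ₗ[ℤ] T'.Pic),
      Function.Injective f ∧ T'.genus = T.genus := by
  classical
  simp only [NumericalType.IsMinimal, not_forall, not_not] at h
  obtain ⟨i, hi⟩ := h
  let σ : Equiv.Perm (Fin (n + 1)) := Equiv.swap i (Fin.last n)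
  have hσ : (reindex T σ).IsMinusOne (Fin.last n) := by
    simp only [NumericalType.IsMinusOne, Pic.reindex, Function.comp_apply, Matrix.submatrix_apply, σ,
      Equiv.swap_apply_right]
    exact hi
  have hT' := contract_isContraction (reindex T σ) hσ
  obtain ⟨f, hf, -⟩ := pic_embeds (reindex T σ) hσ _ hT'
  exact ⟨_, f ∘ₗ (reindexPic T σ).toLinearMap, hf.comp (reindexPic T σ).injective,
    (genus_eq _ hσ _ hT').trans (reindex_genus T σ)⟩

end Groth.Agent.Lib.NumType.Contract
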