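import Groth.Agent.Lib.NumType.Config

/-!
# The affine configurations
-/

set_option autoImplicit false
set_option linter.unusedSimpArgs false

open Finset
open Groth.Agent.Lib.NumType.Config

namespace Groth.Agent.Lib.NumType.Families

def cycle (N : ℕ) : Cfg where
  size := N
  M _ := 1
  W _ := 1
  A i j := if j = i + 1 ∨ (i = 0 ∧ j + 1 = N) then 1 else 0

def chainUU (N : ℕ) : Cfg where
  size := N
  M i := if i + 1 = N then 1 else 2
  W i := if i = 0 then 1 else if i + 1 = N then 4 else 2
  A i j := if j = i + 1 then (if j + 1 = N then 4 else 2) else 0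

def chainUD (N : ℕ) : Cfg where
  size := N
  M _ := 1
  W i := if i = 0 ∨ i + 1 = N then 1 else 2
  A i j := if j = i + 1 then 2 else 0

def chainDU (N : ℕ) : Cfg where
  size := N
  M i := if i = 0 ∨ i + 1 = N then 1 else 2
  W i := if i = 0 ∨ i + 1 = N then 2 else 1
  A i j := if j = i + 1 then (if i = 0 ∨ j + 1 = N then 2 else 1) else 0

def forkU (N : ℕ) : Cfg where
  size := N
  M i := if i = 0 ∨ N ≤ i + 2 then 1 else 2
  W i := if i = 0 then 2 else 1
  A i j := if i = 0 ∧ j = 1 then 2
    else if (j = i + 1 ∧ 1 ≤ i ∧ j + 2 ≤ N) ∨ (i + 3 = N ∧ j + 1 = N) then 1 else 0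

def forkD (N : ℕ) : Cfg where
  size := N
  M i := if N ≤ i + 2 then 1 else 2
  W i := if i = 0 then 1 else 2
  A i j := if (j = i + 1 ∧ j + 2 ≤ N) ∨ (i + 3 = N ∧ j + 1 = N) then 2 else 0

def forks (N : ℕ) : Cfg where
  size := N
  M i := if i ≤ 1 ∨ N ≤ i + 2 then 1 else 2
  W _ := 1
  A i j := if (i ≤ 1 ∧ j = 2) ∨ (j = i + 1 ∧ 2 ≤ i ∧ j + 2 ≤ N) ∨ (i + 3 = N ∧ j + 1 = N)
    then 1 else 0

/-- Two indices, both weights equal. -/
def two22 : Cfg where
  size := 2
  M _ := 1
  W _ := 1
  A _ _ := 2

/-- Two indices, weights in ratio four. -/
def two14 : Cfg where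
  size := 2
  M i := [2, 1].getD i 1
  W i := [1, 4].getD i 1
  A _ _ := 4

def g2U : Cfg where
  size := 3
  M i := [1, 2, 1].getD i 1
  W i := [1, 1, 3].getD i 1
  A i j := if i = 0 ∧ j = 1 then 1 else if i = 1 ∧ j = 2 then 3 else 0

def g2D : Cfg where
  size := 3
  M i := [1, 2, 3].getD i 1
  W i := [3, 3, 1].getD i 1
  A i j := if j = i + 1 then 3 else 0

def f4U : Cfg where
  size := 5
  M i := [1, 2, 3, 2, 1].getD i 1
  W i := [1, 1, 1, 2, 2].getD i 1
  A i j := if j = i + 1 then (if i ≤ 1 then 1 else 2) else 0

def f4D : Cfg where
  size := 5
  M i := [1, 2, 3, 4, 2].getD i 1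
  W i := [2, 2, 2, 1, 1].getD i 1
  A i j := if j = i + 1 then (if i = 3 then 1 else 2) else 0

def e6 : Cfg where
  size := 7
  M i := [1, 2, 3, 1, 2, 1, 2].getD i 1
  W _ := 1
  A i j := if (i = 0 ∧ j = 1) ∨ (i = 1 ∧ j = 2) ∨ (i = 3 ∧ j = 4) ∨ (i = 2 ∧ j = 4) ∨
    (i = 5 ∧ j = 6) ∨ (i = 2 ∧ j = 6) then 1 else 0

def e7 : Cfg where
  size := 8
  M i := [1, 2, 3, 4, 3, 2, 1, 2].getD i 1
  W _ := 1
  A i j := if (j = i + 1 ∧ j ≤ 6) ∨ (i = 3 ∧ j = 7) then 1 else 0

def e8 : Cfg where
  size := 9
  M i := [1, 2, 3, 4, 5, 6, 4, 2, 3].getD i 1
  W _ := 1
  A i j := if (j = i + 1 ∧ j ≤ 7) ∨ (i = 5 ∧ j = 8) then 1 else 0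

lemma cycle_good {N : ℕ} (hN : 3 ≤ N) : (cycle N).Good where
  M_pos _ _ := one_pos
  W_pos _ _ := one_pos
  A_nonneg s t _ _ := by simp only [cycle]; split_ifs <;> norm_num
  M_one := ⟨0, by show 0 < N; omega, rfl⟩
  W_one := ⟨0, by show 0 < N; omega, rfl⟩
  row := by
    intro ⟨s, hs⟩
    have hA : ∀ i j, i < j → j < N → 0 ≤ (cycle N).A i j := fun s t _ _ => by
      simp only [cycle]; split_ifs <;> norm_num
    simp only [cycle] at hs
    refine le_trans (le_of_eq ?_) ((cycle N).le_row_two hA (fun _ _ => one_pos) ⟨s, hs⟩
      (t := if s + 1 = N then 0 else s + 1) (u := if s = 0 then N - 1 else s - 1)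
      (by simp only [cycle]; split_ifs <;> omega) (by simp only [cycle]; split_ifs <;> omega)
      (by split_ifs <;> omega))
    simp (disch := omega) only [Cfg.sym, cycle, Nat.add_eq_zero_iff, one_ne_zero, and_false, false_and,
        false_or, or_false, true_and, and_true, true_or, or_true, if_pos, if_neg, if_false, if_true]
    all_goals first
      | rfl
      | (split_ifs <;> first | rfl | (exfalso; omega) | (exfalso; simp only [false_or, or_false, true_and, and_true, true_or, or_true] at *; omega))

lemma chainUU_good {N : ℕ} (hN : 3 ≤ N) : (chainUU N).Good where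
  M_pos s _ := by simp only [chainUU]; split_ifs <;> norm_num
  W_pos s _ := by simp only [chainUU]; split_ifs <;> norm_num
  A_nonneg s t _ _ := by simp only [chainUU]; split_ifs <;> norm_num
  M_one := ⟨N - 1, by show N - 1 < N; omega, by simp only [chainUU]; rw [if_pos]; omega⟩
  W_one := ⟨0, by show 0 < N; omega, rfl⟩
  row := by
    intro ⟨s, hs⟩
    have hA : ∀ i j, i < j → j < N → 0 ≤ (chainUU N).A i j := fun s t _ _ => by
      simp only [chainUU]; split_ifs <;> norm_num
    have hM : ∀ i, i < N → 0 < (chainUU N).M i := fun s _ => by
      simp only [chainUU]; split_ifs <;> norm_num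
    simp only [chainUU] at hs
    by_cases h : s = 0 ∨ s + 1 = N
    · refine le_trans (le_of_eq ?_) ((chainUU N).le_row_one hA hM ⟨s, hs⟩
        ⟨if s = 0 then 1 else s - 1, by simp only [chainUU]; split_ifs <;> omega⟩)
      simp (disch := omega) only [Cfg.sym, chainUU, Nat.add_eq_zero_iff, one_ne_zero, and_false, false_and,
        false_or, or_false, true_and, and_true, true_or, or_true, if_pos, if_neg, if_false, if_true]
      all_goals first
        | rfl
        | (split_ifs <;> first | rfl | (exfalso; omega) | (exfalso; simp only [false_or, or_false, true_and, and_true, true_or, or_true] at *; omega))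
    · refine le_trans (le_of_eq ?_) ((chainUU N).le_row_two hA hM ⟨s, hs⟩
        (t := s - 1) (u := s + 1) (by simp only [chainUU]; omega) (by simp only [chainUU]; omega)
        (by omega))
      simp (disch := omega) only [Cfg.sym, chainUU, Nat.add_eq_zero_iff, one_ne_zero, and_false, false_and,
        false_or, or_false, true_and, and_true, true_or, or_true, if_pos, if_neg, if_false, if_true]
      all_goals first
        | rfl
        | (split_ifs <;> first | rfl | (exfalso; omega) | (exfalso; simp only [false_or, or_false, true_and, and_true, true_or, or_true] at *; omega))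

lemma chainUD_good {N : ℕ} (hN : 3 ≤ N) : (chainUD N).Good where
  M_pos s _ := one_pos
  W_pos s _ := by simp only [chainUD]; split_ifs <;> norm_num
  A_nonneg s t _ _ := by simp only [chainUD]; split_ifs <;> norm_num
  M_one := ⟨0, by show 0 < N; omega, rfl⟩
  W_one := ⟨0, by show 0 < N; omega, by simp [chainUD]⟩
  row := by
    intro ⟨s, hs⟩
    have hA : ∀ i j, i < j → j < N → 0 ≤ (chainUD N).A i j := fun s t _ _ => by
      simp only [chainUD]; split_ifs <;> norm_num
    have hM : ∀ i, i < N → 0 < (chainUD N).M i := fun s _ => one_pos
    simp only [chainUD] at hs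
    by_cases h : s = 0 ∨ s + 1 = N
    · refine le_trans (le_of_eq ?_) ((chainUD N).le_row_one hA hM ⟨s, hs⟩
        ⟨if s = 0 then 1 else s - 1, by simp only [chainUD]; split_ifs <;> omega⟩)
      simp (disch := omega) only [Cfg.sym, chainUD, Nat.add_eq_zero_iff, one_ne_zero, and_false, false_and,
        false_or, or_false, true_and, and_true, true_or, or_true, if_pos, if_neg, if_false, if_true]
      all_goals first
        | rfl
        | (split_ifs <;> first | rfl | (exfalso; omega) | (exfalso; simp only [false_or, or_false, true_and, and_true, true_or, or_true] at *; omega))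
    · refine le_trans (le_of_eq ?_) ((chainUD N).le_row_two hA hM ⟨s, hs⟩
        (t := s - 1) (u := s + 1) (by simp only [chainUD]; omega) (by simp only [chainUD]; omega)
        (by omega))
      simp (disch := omega) only [Cfg.sym, chainUD, Nat.add_eq_zero_iff, one_ne_zero, and_false, false_and,
        false_or, or_false, true_and, and_true, true_or, or_true, if_pos, if_neg, if_false, if_true]
      all_goals first
        | rfl
        | (split_ifs <;> first | rfl | (exfalso; omega) | (exfalso; simp only [false_or, or_false, true_and, and_true, true_or, or_true] at *; omega))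

lemma chainDU_good {N : ℕ} (hN : 3 ≤ N) : (chainDU N).Good where
  M_pos s _ := by simp only [chainDU]; split_ifs <;> norm_num
  W_pos s _ := by simp only [chainDU]; split_ifs <;> norm_num
  A_nonneg s t _ _ := by simp only [chainDU]; split_ifs <;> norm_num
  M_one := ⟨0, by show 0 < N; omega, by simp [chainDU]⟩
  W_one := ⟨1, by show 1 < N; omega, by simp only [chainDU]; rw [if_neg]; omega⟩
  row := by
    intro ⟨s, hs⟩
    have hA : ∀ i j, i < j → j < N → 0 ≤ (chainDU N).A i j := fun s t _ _ => by
      simp only [chainDU]; split_ifs <;> norm_num
    have hM : ∀ i, i < N → 0 < (chainDU N).M i := fun s _ => by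
      simp only [chainDU]; split_ifs <;> norm_num
    simp only [chainDU] at hs
    by_cases h : s = 0 ∨ s + 1 = N
    · refine le_trans (le_of_eq ?_) ((chainDU N).le_row_one hA hM ⟨s, hs⟩
        ⟨if s = 0 then 1 else s - 1, by simp only [chainDU]; split_ifs <;> omega⟩)
      simp (disch := omega) only [Cfg.sym, chainDU, Nat.add_eq_zero_iff, one_ne_zero, and_false, false_and,
        false_or, or_false, true_and, and_true, true_or, or_true, if_pos, if_neg, if_false, if_true]
      all_goals first
        | rfl
        | (split_ifs <;> first | rfl | (exfalso; omega) | (exfalso; simp only [false_or, or_false, true_and, and_true, true_or, or_true] at *; omega))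
    · refine le_trans (le_of_eq ?_) ((chainDU N).le_row_two hA hM ⟨s, hs⟩
        (t := s - 1) (u := s + 1) (by simp only [chainDU]; omega) (by simp only [chainDU]; omega)
        (by omega))
      simp (disch := omega) only [Cfg.sym, chainDU, Nat.add_eq_zero_iff, one_ne_zero, and_false, false_and,
        false_or, or_false, true_and, and_true, true_or, or_true, if_pos, if_neg, if_false, if_true]
      all_goals first
        | rfl
        | (split_ifs <;> first | rfl | (exfalso; omega) | (exfalso; simp only [false_or, or_false, true_and, and_true, true_or, or_true] at *; omega))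

lemma forkU_good {N : ℕ} (hN : 4 ≤ N) : (forkU N).Good where
  M_pos s _ := by simp only [forkU]; split_ifs <;> norm_num
  W_pos s _ := by simp only [forkU]; split_ifs <;> norm_num
  A_nonneg s t _ _ := by simp only [forkU]; split_ifs <;> norm_num
  M_one := ⟨0, by show 0 < N; omega, by simp [forkU]⟩
  W_one := ⟨1, by show 1 < N; omega, by simp [forkU]⟩
  row := by
    intro ⟨s, hs⟩
    have hA : ∀ i j, i < j → j < N → 0 ≤ (forkU N).A i j := fun s t _ _ => by
      simp only [forkU]; split_ifs <;> norm_num
    have hM : ∀ i, i < N → 0 < (forkU N).M i := fun s _ => by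
      simp only [forkU]; split_ifs <;> norm_num
    simp only [forkU] at hs
    by_cases h : s = 0 ∨ N ≤ s + 2
    · refine le_trans (le_of_eq ?_) ((forkU N).le_row_one hA hM ⟨s, hs⟩
        ⟨if s = 0 then 1 else N - 3, by simp only [forkU]; split_ifs <;> omega⟩)
      simp (disch := omega) only [Cfg.sym, forkU, Nat.add_eq_zero_iff, one_ne_zero, and_false, false_and,
        false_or, or_false, true_and, and_true, true_or, or_true, if_pos, if_neg, if_false, if_true]
      all_goals first
        | rfl
        | (split_ifs <;> first | rfl | (exfalso; omega) | (exfalso; simp only [false_or, or_false, true_and, and_true, true_or, or_true] at *; omega))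
    · by_cases h' : s + 3 = N
      · refine le_trans (le_of_eq ?_) ((forkU N).le_row_three hA hM ⟨s, hs⟩
          (t := s - 1) (u := s + 1) (r := s + 2) (by simp only [forkU]; omega)
          (by simp only [forkU]; omega) (by simp only [forkU]; omega)
          (by omega) (by omega) (by omega))
        simp (disch := omega) only [Cfg.sym, forkU, Nat.add_eq_zero_iff, one_ne_zero, and_false, false_and,
        false_or, or_false, true_and, and_true, true_or, or_true, if_pos, if_neg, if_false, if_true]
        all_goals first
          | rfl
          | (split_ifs <;> first | rfl | (exfalso; omega) | (exfalso; simp only [false_or, or_false, true_and, and_true, true_or, or_true] at *; omega))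
      · refine le_trans (le_of_eq ?_) ((forkU N).le_row_two hA hM ⟨s, hs⟩
          (t := s - 1) (u := s + 1) (by simp only [forkU]; omega) (by simp only [forkU]; omega)
          (by omega))
        simp (disch := omega) only [Cfg.sym, forkU, Nat.add_eq_zero_iff, one_ne_zero, and_false, false_and,
        false_or, or_false, true_and, and_true, true_or, or_true, if_pos, if_neg, if_false, if_true]
        all_goals first
          | rfl
          | (split_ifs <;> first | rfl | (exfalso; omega) | (exfalso; simp only [false_or, or_false, true_and, and_true, true_or, or_true] at *; omega))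

lemma forkD_good {N : ℕ} (hN : 4 ≤ N) : (forkD N).Good where
  M_pos s _ := by simp only [forkD]; split_ifs <;> norm_num
  W_pos s _ := by simp only [forkD]; split_ifs <;> norm_num
  A_nonneg s t _ _ := by simp only [forkD]; split_ifs <;> norm_num
  M_one := ⟨N - 1, by show N - 1 < N; omega, by simp only [forkD]; rw [if_pos]; omega⟩
  W_one := ⟨0, by show 0 < N; omega, rfl⟩
  row := by
    intro ⟨s, hs⟩
    have hA : ∀ i j, i < j → j < N → 0 ≤ (forkD N).A i j := fun s t _ _ => by
      simp only [forkD]; split_ifs <;> norm_num
    have hM : ∀ i, i < N → 0 < (forkD N).M i := fun s _ => by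
      simp only [forkD]; split_ifs <;> norm_num
    simp only [forkD] at hs
    by_cases h : s = 0 ∨ N ≤ s + 2
    · refine le_trans (le_of_eq ?_) ((forkD N).le_row_one hA hM ⟨s, hs⟩
        ⟨if s = 0 then 1 else N - 3, by simp only [forkD]; split_ifs <;> omega⟩)
      simp (disch := omega) only [Cfg.sym, forkD, Nat.add_eq_zero_iff, one_ne_zero, and_false, false_and,
        false_or, or_false, true_and, and_true, true_or, or_true, if_pos, if_neg, if_false, if_true]
      all_goals first
        | rfl
        | (split_ifs <;> first | rfl | (exfalso; omega) | (exfalso; simp only [false_or, or_false, true_and, and_true, true_or, or_true] at *; omega))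
    · by_cases h' : s + 3 = N
      · refine le_trans (le_of_eq ?_) ((forkD N).le_row_three hA hM ⟨s, hs⟩
          (t := s - 1) (u := s + 1) (r := s + 2) (by simp only [forkD]; omega)
          (by simp only [forkD]; omega) (by simp only [forkD]; omega)
          (by omega) (by omega) (by omega))
        simp (disch := omega) only [Cfg.sym, forkD, Nat.add_eq_zero_iff, one_ne_zero, and_false, false_and,
        false_or, or_false, true_and, and_true, true_or, or_true, if_pos, if_neg, if_false, if_true]
        all_goals first
          | rfl
          | (split_ifs <;> first | rfl | (exfalso; omega) | (exfalso; simp only [false_or, or_false, true_and, and_true, true_or, or_true] at *; omega))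
      · refine le_trans (le_of_eq ?_) ((forkD N).le_row_two hA hM ⟨s, hs⟩
          (t := s - 1) (u := s + 1) (by simp only [forkD]; omega) (by simp only [forkD]; omega)
          (by omega))
        simp (disch := omega) only [Cfg.sym, forkD, Nat.add_eq_zero_iff, one_ne_zero, and_false, false_and,
        false_or, or_false, true_and, and_true, true_or, or_true, if_pos, if_neg, if_false, if_true]
        all_goals first
          | rfl
          | (split_ifs <;> first | rfl | (exfalso; omega) | (exfalso; simp only [false_or, or_false, true_and, and_true, true_or, or_true] at *; omega))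

lemma forks_good {N : ℕ} (hN : 5 ≤ N) : (forks N).Good where
  M_pos s _ := by simp only [forks]; split_ifs <;> norm_num
  W_pos s _ := one_pos
  A_nonneg s t _ _ := by simp only [forks]; split_ifs <;> norm_num
  M_one := ⟨0, by show 0 < N; omega, by simp [forks]⟩
  W_one := ⟨0, by show 0 < N; omega, rfl⟩
  row := by
    intro ⟨s, hs⟩
    have hA : ∀ i j, i < j → j < N → 0 ≤ (forks N).A i j := fun s t _ _ => by
      simp only [forks]; split_ifs <;> norm_num
    have hM : ∀ i, i < N → 0 < (forks N).M i := fun s _ => by
      simp only [forks]; split_ifs <;> norm_num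
    simp only [forks] at hs
    by_cases h : s ≤ 1 ∨ N ≤ s + 2
    · refine le_trans (le_of_eq ?_) ((forks N).le_row_one hA hM ⟨s, hs⟩
        ⟨if s ≤ 1 then 2 else N - 3, by simp only [forks]; split_ifs <;> omega⟩)
      simp (disch := omega) only [Cfg.sym, forks, Nat.add_eq_zero_iff, one_ne_zero, and_false, false_and,
        false_or, or_false, true_and, and_true, true_or, or_true, if_pos, if_neg, if_false, if_true]
      all_goals first
        | rfl
        | (split_ifs <;> first | rfl | (exfalso; omega) | (exfalso; simp only [false_or, or_false, true_and, and_true, true_or, or_true] at *; omega))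
    · by_cases h5 : N = 5
      · obtain rfl : s = 2 := by omega
        subst h5
        revert hs
        clear hA hM h hN
        decide
      · by_cases h' : s = 2
        · subst h'
          refine le_trans (le_of_eq ?_) ((forks N).le_row_three hA hM ⟨2, hs⟩
            (t := 0) (u := 1) (r := 3) (by simp only [forks]; omega)
            (by simp only [forks]; omega) (by simp only [forks]; omega)
            (by omega) (by omega) (by omega))
          simp (disch := omega) only [Cfg.sym, forks, Nat.add_eq_zero_iff, one_ne_zero, and_false, false_and,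
        false_or, or_false, true_and, and_true, true_or, or_true, if_pos, if_neg, if_false, if_true]
          all_goals first
            | rfl
            | (split_ifs <;> first | rfl | (exfalso; omega) | (exfalso; simp only [false_or, or_false, true_and, and_true, true_or, or_true] at *; omega))
        · by_cases h'' : s + 3 = N
          · refine le_trans (le_of_eq ?_) ((forks N).le_row_three hA hM ⟨s, hs⟩
              (t := s - 1) (u := s + 1) (r := s + 2) (by simp only [forks]; omega)
              (by simp only [forks]; omega) (by simp only [forks]; omega)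
              (by omega) (by omega) (by omega))
            simp (disch := omega) only [Cfg.sym, forks, Nat.add_eq_zero_iff, one_ne_zero, and_false, false_and,
        false_or, or_false, true_and, and_true, true_or, or_true, if_pos, if_neg, if_false, if_true]
            all_goals first
              | rfl
              | (split_ifs <;> first | rfl | (exfalso; omega) | (exfalso; simp only [false_or, or_false, true_and, and_true, true_or, or_true] at *; omega))
          · refine le_trans (le_of_eq ?_) ((forks N).le_row_two hA hM ⟨s, hs⟩
              (t := s - 1) (u := s + 1) (by simp only [forks]; omega)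
              (by simp only [forks]; omega) (by omega))
            simp (disch := omega) only [Cfg.sym, forks, Nat.add_eq_zero_iff, one_ne_zero, and_false, false_and,
        false_or, or_false, true_and, and_true, true_or, or_true, if_pos, if_neg, if_false, if_true]
            all_goals first
              | rfl
              | (split_ifs <;> first | rfl | (exfalso; omega) | (exfalso; simp only [false_or, or_false, true_and, and_true, true_or, or_true] at *; omega))

lemma good_of_check (C : Cfg)
    (h : (∀ s : Fin C.size, 0 < C.M s ∧ 0 < C.W s ∧
        2 * C.W s * C.M s ≤ ∑ t : Fin C.size, C.sym s t * C.M t) ∧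
      (∀ s t : Fin C.size, (s : ℕ) < t → 0 ≤ C.A s t) ∧
      (∃ s : Fin C.size, C.M s = 1) ∧ ∃ s : Fin C.size, C.W s = 1) : C.Good where
  M_pos s hs := (h.1 ⟨s, hs⟩).1
  W_pos s hs := (h.1 ⟨s, hs⟩).2.1
  row s := (h.1 s).2.2
  A_nonneg s t hst ht := h.2.1 ⟨s, hst.trans ht⟩ ⟨t, ht⟩ hst
  M_one := let ⟨s, hs⟩ := h.2.2.1; ⟨s, s.2, hs⟩
  W_one := let ⟨s, hs⟩ := h.2.2.2; ⟨s, s.2, hs⟩

lemma two22_good : two22.Good := good_of_check _ (by unfold two22; decide)
lemma two14_good : two14.Good := good_of_check _ (by unfold two14; decide)
lemma g2U_good : g2U.Good := good_of_check _ (by unfold g2U; decide)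
lemma g2D_good : g2D.Good := good_of_check _ (by unfold g2D; decide)
lemma f4U_good : f4U.Good := good_of_check _ (by unfold f4U; decide)
lemma f4D_good : f4D.Good := good_of_check _ (by unfold f4D; decide)
lemma e6_good : e6.Good := good_of_check _ (by unfold e6; decide)
lemma e7_good : e7.Good := good_of_check _ (by unfold e7; decide)
lemma e8_good : e8.Good := good_of_check _ (by unfold e8; decide)

end Groth.Agent.Lib.NumType.Families
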