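import Groth.Agent.Lib.NumType.Classify

/-!
# Minimal numerical types of genus one
-/

set_option autoImplicit false

open Finset Models
open Groth.Agent.Lib.NumType.Basic Groth.Agent.Lib.NumType.Config Groth.Agent.Lib.NumType.Families
open Groth.Agent.Lib.NumType.Paths Groth.Agent.Lib.NumType.Classify

namespace Groth.Agent.Lib.NumType.GenusOne

variable {n : ℕ} {T : NumericalType n}

theorem affine (hn : 2 < n) (hmin : T.IsMinimal) (hg : T.genus = 1) :
    (∀ i, T.g i = 0) ∧ (∀ i, T.a i i = -2 * T.w i) ∧ Affine T :=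
  ⟨fun i => (isMinusTwo_of_genus_one T hmin (by omega) hg i).1,
    fun i => (isMinusTwo_of_genus_one T hmin (by omega) hg i).2,
    classify hn (isMinusTwo_of_genus_one T hmin (by omega) hg)⟩

/-- The data of a type of a given shape, with the diagonal included. -/
lemma data {C : Cfg} (h : HasType T C) :
    ∃ (σ : Equiv.Perm (Fin n)) (m w : ℤ), (∀ i : Fin n, T.m (σ i) = C.M i * m) ∧
      (∀ i : Fin n, T.w (σ i) = C.W i * w) ∧
      (∀ i : Fin n, T.a (σ i) (σ i) = -2 * (C.W i * w)) ∧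
      ∀ i j : Fin n, i ≠ j → T.a (σ i) (σ j) = C.sym i j * w := by
  obtain ⟨σ, m, w, h2, h1, hA⟩ := h
  refine ⟨σ, m, w, fun i => (h1 i).1, fun i => (h1 i).2, fun i => by rw [(h2 i).2, (h1 i).2],
    fun i j hij => ?_⟩
  rcases lt_or_gt_of_ne hij with h | h
  · rw [hA i j h, Cfg.sym, if_pos (show (i : ℕ) < j from h)]
  · rw [a_comm T (σ i), hA j i h, C.sym_comm i, Cfg.sym, if_pos (show (j : ℕ) < i from h)]

theorem two (T : NumericalType 2) (hmin : T.IsMinimal) (hg : T.genus = 1) :
    HasType T two22 ∨ HasType T two14 := by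
  have h2 := isMinusTwo_of_genus_one T hmin (by omega) hg
  have r0 := sum_row T 0
  have r1 := sum_row T 1
  simp only [Fin.sum_univ_two, (h2 0).2, (h2 1).2, a_comm T 1 0] at r0 r1
  have hpos : 0 < T.a 0 1 := by
    have := mul_pos (T.w_pos 0) (T.m_pos 0)
    have := T.m_pos 1
    by_contra h
    nlinarith
  obtain ⟨p, q, hp, hq, ep, eq'⟩ := exists_factors hpos
  have hpq : p * q = 4 := by
    have e0 : 2 * T.m 0 = p * T.m 1 :=
      mul_left_cancel₀ (T.w_pos 0).ne' (by rw [ep] at r0; linarith)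
    have e1 : 2 * T.m 1 = q * T.m 0 :=
      mul_left_cancel₀ (T.w_pos 1).ne' (by rw [eq'] at r1; linarith)
    exact mul_left_cancel₀ (T.m_pos 0).ne' (by linear_combination -2 * e0 - p * e1)
  refine (edge_type (show (0 : Fin 2) ≠ 1 by decide) (h2 0) (h2 1) hpos ?_).2
  have hp4 : p ≤ 4 := Int.le_of_dvd (by norm_num) ⟨q, hpq.symm⟩
  have hw0 := T.w_pos 0
  have hw1 := T.w_pos 1
  interval_cases p
  · exact .inr (.inr (by rw [eq', show q = 4 by omega]))
  · exact .inl ⟨by rw [ep], by rw [eq', show q = 2 by omega]⟩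
  · omega
  · exact .inr (.inl (by rw [ep]))

end Groth.Agent.Lib.NumType.GenusOne
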