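import Groth.Agent.Lib.NumType.Families

/-!
# Paths of (-2)-indices and the affine configurations they span
-/

set_option autoImplicit false
set_option linter.unusedSimpArgs false

open Finset Models
open Groth.Agent.Lib.NumType.Basic Groth.Agent.Lib.NumType.Config Groth.Agent.Lib.NumType.Families

namespace Groth.Agent.Lib.NumType.Paths

variable {n : ℕ} {T : NumericalType n}

/-- An edge one of whose two integers `a / w` is at least two. -/
def Double (T : NumericalType n) (i j : Fin n) : Prop :=
  0 < T.a i j ∧ (2 * T.w i ≤ T.a i j ∨ 2 * T.w j ≤ T.a i j)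

/-- An edge with `a = w i = w j`. -/
def Simple (T : NumericalType n) (i j : Fin n) : Prop :=
  T.a i j = T.w i ∧ T.a i j = T.w j

lemma Double.symm {i j : Fin n} (h : Double T i j) : Double T j i := by
  obtain ⟨h1, h2⟩ := h
  exact ⟨a_comm T i j ▸ h1, by rw [a_comm T j i]; exact h2.symm⟩

lemma Simple.symm {i j : Fin n} (h : Simple T i j) : Simple T j i := by
  obtain ⟨h1, h2⟩ := h
  exact ⟨by rw [a_comm T j i]; exact h2, by rw [a_comm T j i]; exact h1⟩

lemma exists_factors {i j : Fin n} (h : 0 < T.a i j) :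
    ∃ p q : ℤ, 1 ≤ p ∧ 1 ≤ q ∧ T.a i j = p * T.w i ∧ T.a i j = q * T.w j := by
  obtain ⟨p, hp⟩ := T.w_dvd i j
  obtain ⟨q, hq⟩ := T.w_dvd j i
  rw [a_comm T j i] at hq
  exact ⟨p, q, by nlinarith [T.w_pos i], by nlinarith [T.w_pos j], by rw [hp, mul_comm],
    by rw [hq, mul_comm]⟩

lemma simple_or_double {i j : Fin n} (h : 0 < T.a i j) : Simple T i j ∨ Double T i j := by
  obtain ⟨p, q, hp, hq, ep, eq'⟩ := exists_factors h
  by_cases hc : p = 1 ∧ q = 1
  · exact .inl ⟨by rw [ep, hc.1, one_mul], by rw [eq', hc.2, one_mul]⟩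
  · refine .inr ⟨h, ?_⟩
    rcases (show 2 ≤ p ∨ 2 ≤ q by omega) with h2 | h2
    · left; rw [ep]; exact mul_le_mul_of_nonneg_right h2 (T.w_pos i).le
    · right; rw [eq']; exact mul_le_mul_of_nonneg_right h2 (T.w_pos j).le

/-- A path of `t` distinct (-2)-indices. -/
structure Path (T : NumericalType n) (t : ℕ) (u : ℕ → Fin n) : Prop where
  inj : ∀ i j, i < t → j < t → u i = u j → i = j
  two : ∀ i, i < t → T.IsMinusTwo (u i)
  adj : ∀ i, i + 1 < t → 0 < T.a (u i) (u (i + 1))

variable {t : ℕ} {u : ℕ → Fin n}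

lemma Path.le (hP : Path T t u) : t ≤ n := by
  have := Fintype.card_le_of_injective (fun i : Fin t => u i)
    (fun i j h => Fin.ext (hP.inj i j i.2 j.2 h))
  simpa using this

lemma Path.sub (hP : Path T t u) (k l : ℕ) (h : k + l ≤ t) : Path T l (fun i => u (k + i)) where
  inj i j hi hj e := by have := hP.inj (k + i) (k + j) (by omega) (by omega) e; omega
  two i hi := hP.two _ (by omega)
  adj i hi := hP.adj (k + i) (by omega)

lemma Path.rev (hP : Path T t u) : Path T t (fun i => u (t - 1 - i)) where
  inj i j hi hj e := by have := hP.inj (t - 1 - i) (t - 1 - j) (by omega) (by omega) e; omega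
  two i hi := hP.two _ (by omega)
  adj i hi := by
    have h := hP.adj (t - 1 - (i + 1)) (by omega)
    rw [show t - 1 - (i + 1) + 1 = t - 1 - i by omega, a_comm] at h
    exact h

/-- Cycles are complete. -/
lemma Path.cycle_type (hP : Path T t u) (ht : 3 ≤ t) (h : 0 < T.a (u 0) (u (t - 1))) :
    t = n ∧ HasType T (cycle t) := by
  have hF : Fits T (cycle t) (fun i => u i) := by
    refine ⟨fun i j e => Fin.ext (hP.inj i j i.2 j.2 e), fun i => hP.two i i.2, ?_⟩
    intro s r hsr hA
    simp only [cycle, ne_eq, ite_eq_right_iff, one_ne_zero, imp_false, not_not] at hA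
    refine ⟨?_, fun hW => ?_, fun hW => ?_⟩
    · rcases hA with hA | ⟨h0, h1⟩
      · rw [hA]; exact hP.adj s (hA ▸ r.2)
      · rw [h0, show (r : ℕ) = t - 1 by omega]; exact h
    all_goals (simp only [cycle] at hW; split_ifs at hW <;> norm_num at hW)
  exact ⟨hF.size_eq (cycle_good ht), hF.hasType (cycle_good ht)⟩

/-- Paths with both end edges double are complete. -/
lemma Path.double_double_type (hP : Path T t u) (ht : 3 ≤ t) (h0 : Double T (u 0) (u 1))
    (h1 : Double T (u (t - 2)) (u (t - 1))) :
    t = n ∧ (HasType T (chainUU t) ∨ HasType T (chainUD t) ∨ HasType T (chainDU t)) := by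
  have hUU : ∀ u : ℕ → Fin n, Path T t u → 2 * T.w (u 0) ≤ T.a (u 0) (u 1) →
      2 * T.w (u (t - 2)) ≤ T.a (u (t - 2)) (u (t - 1)) → t = n ∧ HasType T (chainUU t) := by
    intro u hP e0 e1
    have hF : Fits T (chainUU t) (fun i => u i) := by
      refine ⟨fun i j e => Fin.ext (hP.inj i j i.2 j.2 e), fun i => hP.two i i.2, ?_⟩
      intro s r hsr hA
      simp only [chainUU, ne_eq, ite_eq_right_iff, not_forall] at hA
      obtain ⟨hr, -⟩ := hA
      refine ⟨by rw [hr]; exact hP.adj s (hr ▸ r.2), fun hW => ?_, fun hW => ?_⟩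
      · have hr2 : (s : ℕ) + 1 < t := hr ▸ r.2
        simp only [chainUU, hr, Nat.add_eq_zero_iff, one_ne_zero, and_false, false_or, if_false] at hW ⊢
        split_ifs at hW ⊢ <;> (try norm_num at hW) <;> (try simp only [one_mul]) <;> first
          | contradiction
          | omega
          | (rename_i a b; first
              | (rw [show (s : ℕ) = 0 by omega]; linarith)
              | (rw [show (s : ℕ) = t - 2 by omega, show t - 2 + 1 = t - 1 by omega]; linarith))
      · have hr2 : (s : ℕ) + 1 < t := hr ▸ r.2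
        simp only [chainUU, hr, Nat.add_eq_zero_iff, one_ne_zero, and_false, false_or, if_false] at hW ⊢
        split_ifs at hW ⊢ <;> (try norm_num at hW) <;> first | contradiction | omega
    exact ⟨hF.size_eq (chainUU_good ht), hF.hasType (chainUU_good ht)⟩
  obtain ⟨-, h0⟩ := h0
  obtain ⟨-, h1⟩ := h1
  rcases h0 with h0 | h0 <;> rcases h1 with h1 | h1
  · exact ⟨(hUU u hP h0 h1).1, .inl (hUU u hP h0 h1).2⟩
  · have hF : Fits T (chainUD t) (fun i => u i) := by
      refine ⟨fun i j e => Fin.ext (hP.inj i j i.2 j.2 e), fun i => hP.two i i.2, ?_⟩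
      intro s r hsr hA
      simp only [chainUD, ne_eq, ite_eq_right_iff, not_forall] at hA
      obtain ⟨hr, -⟩ := hA
      refine ⟨by rw [hr]; exact hP.adj s (hr ▸ r.2), fun hW => ?_, fun hW => ?_⟩
      all_goals
        have hr2 : (s : ℕ) + 1 < t := hr ▸ r.2
        simp only [chainUD, hr, Nat.add_eq_zero_iff, one_ne_zero, and_false, false_or, if_false] at hW ⊢
        split_ifs at hW ⊢ <;> (try norm_num at hW) <;> (try simp only [one_mul]) <;> first
          | contradiction
          | (rw [show (s : ℕ) = 0 by omega]; exact h0)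
          | (rw [show (s : ℕ) = t - 2 by omega, show t - 2 + 1 = t - 1 by omega]; exact h1)
    exact ⟨hF.size_eq (chainUD_good ht), .inr (.inl (hF.hasType (chainUD_good ht)))⟩
  · have hF : Fits T (chainDU t) (fun i => u i) := by
      refine ⟨fun i j e => Fin.ext (hP.inj i j i.2 j.2 e), fun i => hP.two i i.2, ?_⟩
      intro s r hsr hA
      simp only [chainDU, ne_eq, ite_eq_right_iff, not_forall] at hA
      obtain ⟨hr, -⟩ := hA
      refine ⟨by rw [hr]; exact hP.adj s (hr ▸ r.2), fun hW => ?_, fun hW => ?_⟩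
      all_goals
        have hr2 : (s : ℕ) + 1 < t := hr ▸ r.2
        simp only [chainDU, hr, Nat.add_eq_zero_iff, one_ne_zero, and_false, false_or, if_false] at hW ⊢
        split_ifs at hW ⊢ <;> (try norm_num at hW) <;> (try simp only [one_mul]) <;> first
          | contradiction
          | omega
          | (rw [show (s : ℕ) = 0 by omega]; exact h0)
          | (rw [show (s : ℕ) = t - 2 by omega, show t - 2 + 1 = t - 1 by omega]; exact h1)
    exact ⟨hF.size_eq (chainDU_good ht), .inr (.inr (hF.hasType (chainDU_good ht)))⟩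
  · have := hUU (fun i => u (t - 1 - i)) hP.rev
      (by simp only [Nat.sub_zero]; rw [show t - 1 - 1 = t - 2 by omega, a_comm]; exact h1)
      (by show 2 * T.w (u (t - 1 - (t - 2))) ≤ T.a (u (t - 1 - (t - 2))) (u (t - 1 - (t - 1))); rw [show t - 1 - (t - 2) = 1 by omega, Nat.sub_self, a_comm]; exact h0)
    exact ⟨this.1, .inl this.2⟩

/-- A path starting with a double edge and ending in a fork is complete. -/
lemma Path.double_fork_type (hP : Path T t u) (ht : 3 ≤ t) {z : Fin n} (hz : T.IsMinusTwo z)
    (hzu : ∀ i, i < t → u i ≠ z) (hza : 0 < T.a (u (t - 2)) z) (h0 : Double T (u 0) (u 1)) :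
    t + 1 = n ∧ (HasType T (forkU (t + 1)) ∨ HasType T (forkD (t + 1))) := by
  have key : ∀ C : Cfg, C.Good → ∀ hsz : C.size = t + 1,
      (∀ s r : ℕ, s < r → r < t + 1 → C.A s r ≠ 0 →
        ((r = s + 1 ∧ r + 1 ≤ t) ∨ (s + 2 = t ∧ r = t)) ∧
        (C.W s < C.A s r → s = 0 ∧ r = 1 ∧ C.A s r * T.w (u 0) ≤ C.W s * T.a (u 0) (u 1)) ∧
        (C.W r < C.A s r → s = 0 ∧ r = 1 ∧ C.A s r * T.w (u 1) ≤ C.W r * T.a (u 0) (u 1))) →
      t + 1 = n ∧ HasType T C := by
    intro C hC hsz h
    let v : Fin C.size → Fin n := fun i => if (i : ℕ) < t then u i else z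
    have hv : ∀ i : Fin C.size, (i : ℕ) < t → v i = u i := fun i hi => if_pos hi
    have hF : Fits T C v := by
      refine ⟨fun i j e => ?_, fun i => ?_, fun s r hsr hA => ?_⟩
      · have hi := i.2
        have hj := j.2
        simp only [v] at e
        split_ifs at e with a b b
        · exact Fin.ext (hP.inj _ _ a b e)
        · exact absurd e (hzu _ a)
        · exact absurd e.symm (hzu _ b)
        · exact Fin.ext (by omega)
      · simp only [v]
        split_ifs with a
        · exact hP.two _ a
        · exact hz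
      · have hr' := r.2
        obtain ⟨hedge, hs, hr⟩ := h s r hsr (by omega) hA
        refine ⟨?_, fun hW => ?_, fun hW => ?_⟩
        · rcases hedge with ⟨e1, e2⟩ | ⟨e1, e2⟩
          · rw [hv s (by omega), hv r (by omega), e1]; exact hP.adj s (by omega)
          · rw [hv s (by omega), show (s : ℕ) = t - 2 by omega]
            simp only [v, e2, lt_irrefl, if_false]
            exact hza
        · obtain ⟨e1, e2, e3⟩ := hs hW
          rw [hv s (by omega), hv r (by omega)]
          simp only [e1, e2] at e3 ⊢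
          exact e3
        · obtain ⟨e1, e2, e3⟩ := hr hW
          rw [hv s (by omega), hv r (by omega)]
          simp only [e1, e2] at e3 ⊢
          exact e3
    exact ⟨hsz ▸ hF.size_eq hC, hF.hasType hC⟩
  obtain ⟨-, h0⟩ := h0
  rcases h0 with h0 | h0
  · obtain ⟨e, h⟩ := key (forkD (t + 1)) (forkD_good (by omega)) rfl fun s r hsr hr hA => by
      simp only [forkD, ne_eq, ite_eq_right_iff, not_forall] at hA
      obtain ⟨hc, -⟩ := hA
      refine ⟨by omega, fun hW => ?_, fun hW => ?_⟩
      · simp only [forkD, if_pos hc] at hW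
        split_ifs at hW with hs
        · exact ⟨hs, by omega, by simp only [forkD, if_pos hc, if_pos hs, one_mul]; exact h0⟩
        · norm_num at hW
      · simp only [forkD, if_pos hc, if_neg (show ¬r = 0 by omega)] at hW
        norm_num at hW
    exact ⟨e, .inr h⟩
  · obtain ⟨e, h⟩ := key (forkU (t + 1)) (forkU_good (by omega)) rfl fun s r hsr hr hA => by
      simp only [forkU] at hA ⊢
      split_ifs at hA ⊢ <;> first
        | omega
        | exact absurd rfl hA
        | (refine ⟨by omega, fun hW => ?_, fun hW => ?_⟩ <;> norm_num at hW <;>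
            exact ⟨by omega, by omega, by linarith⟩)
    exact ⟨e, .inl h⟩

/-- A path with forks at both ends is complete. -/
lemma Path.fork_fork_type (hP : Path T t u) (ht : 3 ≤ t) {y z : Fin n} (hy : T.IsMinusTwo y)
    (hz : T.IsMinusTwo z) (hyz : y ≠ z) (hyu : ∀ i, i < t → u i ≠ y) (hzu : ∀ i, i < t → u i ≠ z)
    (hya : 0 < T.a (u 1) y) (hza : 0 < T.a (u (t - 2)) z) :
    t + 2 = n ∧ HasType T (forks (t + 2)) := by
  let v : Fin (forks (t + 2)).size → Fin n := fun i =>
    if (i : ℕ) = 0 then u 0 else if (i : ℕ) = 1 then y else if (i : ℕ) ≤ t then u ((i : ℕ) - 1) else z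
  have hv : ∀ i : Fin (forks (t + 2)).size, 2 ≤ (i : ℕ) → (i : ℕ) ≤ t → v i = u ((i : ℕ) - 1) :=
    fun i h h' => by
      simp only [v]; rw [if_neg (by omega), if_neg (by omega), if_pos h']
  have hF : Fits T (forks (t + 2)) v := by
    refine ⟨fun i j e => ?_, fun i => ?_, fun s r hsr hA => ?_⟩
    · have hi : (i : ℕ) < t + 2 := i.2
      have hj : (j : ℕ) < t + 2 := j.2
      simp only [v] at e
      split_ifs at e <;> first
        | exact Fin.ext (by omega)
        | exact absurd e hyz
        | exact absurd e.symm hyz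
        | exact absurd e (hyu _ (by omega))
        | exact absurd e.symm (hyu _ (by omega))
        | exact absurd e (hzu _ (by omega))
        | exact absurd e.symm (hzu _ (by omega))
        | (have := hP.inj _ _ (by omega) (by omega) e; exact Fin.ext (by omega))
    · have hi : (i : ℕ) < t + 2 := i.2
      simp only [v]
      split_ifs <;> first
        | exact hy
        | exact hz
        | exact hP.two _ (by omega)
    · have hr : (r : ℕ) < t + 2 := r.2
      simp only [forks, ne_eq, ite_eq_right_iff, one_ne_zero, imp_false, not_not] at hA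
      refine ⟨?_, fun hW => ?_, fun hW => ?_⟩
      · rcases hA with ⟨hs, hr2⟩ | ⟨hr2, hs, hr3⟩ | ⟨hs, hr2⟩
        · rw [hv r (by omega) (by omega), hr2]
          rcases (show (s : ℕ) = 0 ∨ (s : ℕ) = 1 by omega) with h | h
          · simp only [v, h, if_true]; exact hP.adj 0 (by omega)
          · simp only [v, h, one_ne_zero, if_false, if_true]; rw [a_comm]; exact hya
        · rw [hv r (by omega) (by omega), hv s (by omega) (by omega),
            show (r : ℕ) - 1 = (s : ℕ) - 1 + 1 by omega]
          exact hP.adj _ (by omega)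
        · rw [hv s (by omega) (by omega), show (s : ℕ) - 1 = t - 2 by omega]
          simp only [v]
          rw [if_neg (by omega), if_neg (by omega), if_neg (by omega)]
          exact hza
      all_goals (simp only [forks, if_pos hA] at hW; norm_num at hW)
  exact ⟨hF.size_eq (forks_good (by omega)), hF.hasType (forks_good (by omega))⟩

/-- A path of three indices whose first edge has product of ratios at least three is complete. -/
lemma Path.g2_type (hP : Path T 3 u)
    (h : 3 * T.w (u 0) ≤ T.a (u 0) (u 1) ∨ 3 * T.w (u 1) ≤ T.a (u 0) (u 1)) :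
    3 = n ∧ (HasType T g2U ∨ HasType T g2D) := by
  have h01 := hP.adj 0 (by omega)
  have h12 := hP.adj 1 (by omega)
  let v : Fin 3 → Fin n := fun i => u (2 - i)
  have hv : Function.Injective v := fun i j e => by
    have := hP.inj _ _ (by omega) (by omega) e
    exact Fin.ext (by omega)
  rcases h with h | h
  · have hF : Fits T g2D v := by
      refine ⟨hv, fun i => hP.two _ (by omega), fun (s r : Fin 3) hsr hA => ?_⟩
      fin_cases s <;> fin_cases r <;>
        simp_all [g2D, v, a_comm T (u 1) (u 0), a_comm T (u 2) (u 1)]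
    exact ⟨hF.size_eq g2D_good, .inr (hF.hasType g2D_good)⟩
  · have hF : Fits T g2U v := by
      refine ⟨hv, fun i => hP.two _ (by omega), fun (s r : Fin 3) hsr hA => ?_⟩
      fin_cases s <;> fin_cases r <;>
        simp_all [g2U, v, a_comm T (u 1) (u 0), a_comm T (u 2) (u 1)]
    exact ⟨hF.size_eq g2U_good, .inl (hF.hasType g2U_good)⟩

/-- A path of five indices with a double edge in second inner position is complete. -/
lemma Path.f4_type (hP : Path T 5 u) (h : Double T (u 2) (u 3)) :
    5 = n ∧ (HasType T f4U ∨ HasType T f4D) := by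
  have e0 := hP.adj 0 (by omega)
  have e1 := hP.adj 1 (by omega)
  have e2 := hP.adj 2 (by omega)
  have e3 := hP.adj 3 (by omega)
  have hv : Function.Injective (fun i : Fin 5 => u i) := fun i j e =>
    Fin.ext (hP.inj i j i.2 j.2 e)
  obtain ⟨-, h⟩ := h
  rcases h with h | h
  · have hF : Fits T f4U (fun i => u i) := by
      refine ⟨hv, fun i => hP.two i i.2, fun (s r : Fin 5) hsr hA => ?_⟩
      fin_cases s <;> fin_cases r <;> simp_all [f4U] <;> linarith
    exact ⟨hF.size_eq f4U_good, .inl (hF.hasType f4U_good)⟩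
  · have hF : Fits T f4D (fun i => u i) := by
      refine ⟨hv, fun i => hP.two i i.2, fun (s r : Fin 5) hsr hA => ?_⟩
      fin_cases s <;> fin_cases r <;> simp_all [f4D] <;> linarith
    exact ⟨hF.size_eq f4D_good, .inr (hF.hasType f4D_good)⟩

/-- Three chains of length two at an index are complete. -/
lemma Path.e6_type (hP : Path T 5 u) {y z : Fin n} (hy : T.IsMinusTwo y) (hz : T.IsMinusTwo z)
    (hyz : y ≠ z) (hyu : ∀ i, i < 5 → u i ≠ y) (hzu : ∀ i, i < 5 → u i ≠ z)
    (hza : 0 < T.a (u 2) z) (hya : 0 < T.a z y) : 7 = n ∧ HasType T e6 := by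
  have e0 := hP.adj 0 (by omega)
  have e1 := hP.adj 1 (by omega)
  have e2 := hP.adj 2 (by omega)
  have e3 := hP.adj 3 (by omega)
  let v : Fin 7 → Fin n := ![u 0, u 1, u 2, u 4, u 3, y, z]
  have hF : Fits T e6 v := by
    refine ⟨?_, ?_, fun (s r : Fin 7) hsr hA => ?_⟩
    · intro (i : Fin 7) (j : Fin 7) e
      fin_cases i <;> fin_cases j <;> first
        | rfl
        | (simp [v] at e
           first
            | exact absurd e hyz
            | exact absurd e.symm hyz
            | exact absurd e (hyu _ (by omega))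
            | exact absurd e.symm (hyu _ (by omega))
            | exact absurd e (hzu _ (by omega))
            | exact absurd e.symm (hzu _ (by omega))
            | exact absurd (hP.inj _ _ (by omega) (by omega) e) (by omega))
    · intro (i : Fin 7)
      fin_cases i <;> simp [v, hy, hz, hP.two]
    · fin_cases s <;> fin_cases r <;>
        simp_all [e6, v, a_comm T (u 4) (u 3), a_comm T y z]
  exact ⟨hF.size_eq e6_good, hF.hasType e6_good⟩

/-- The configuration of completed type E7 is complete. -/
lemma Path.e7_type (hP : Path T 7 u) {z : Fin n} (hz : T.IsMinusTwo z)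
    (hzu : ∀ i, i < 7 → u i ≠ z) (hza : 0 < T.a (u 3) z) : 8 = n ∧ HasType T e7 := by
  let v : Fin 8 → Fin n := fun i => if (i : ℕ) < 7 then u i else z
  have hF : Fits T e7 v := by
    refine ⟨fun (i j : Fin 8) e => ?_, fun (i : Fin 8) => ?_, fun (s r : Fin 8) hsr hA => ?_⟩
    · simp only [v] at e
      split_ifs at e with a b b
      · exact Fin.ext (hP.inj _ _ a b e)
      · exact absurd e (hzu _ a)
      · exact absurd e.symm (hzu _ b)
      · exact Fin.ext (by omega)
    · simp only [v]; split_ifs with a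
      · exact hP.two _ a
      · exact hz
    · have hr := r.2
      simp only [e7, ne_eq, ite_eq_right_iff, one_ne_zero, imp_false, not_not] at hA
      refine ⟨?_, fun hW => ?_, fun hW => ?_⟩
      · simp only [v]
        rcases hA with ⟨hr1, hr2⟩ | ⟨hs, hr1⟩
        · rw [if_pos (by omega), if_pos (by omega), hr1]; exact hP.adj _ (by omega)
        · rw [if_pos (by omega), if_neg (by omega), hs]; exact hza
      all_goals (simp only [e7, if_pos hA] at hW; norm_num at hW)
  exact ⟨hF.size_eq e7_good, hF.hasType e7_good⟩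

/-- The configuration of completed type E8 is complete. -/
lemma Path.e8_type (hP : Path T 8 u) {z : Fin n} (hz : T.IsMinusTwo z)
    (hzu : ∀ i, i < 8 → u i ≠ z) (hza : 0 < T.a (u 5) z) : 9 = n ∧ HasType T e8 := by
  let v : Fin 9 → Fin n := fun i => if (i : ℕ) < 8 then u i else z
  have hF : Fits T e8 v := by
    refine ⟨fun (i j : Fin 9) e => ?_, fun (i : Fin 9) => ?_, fun (s r : Fin 9) hsr hA => ?_⟩
    · simp only [v] at e
      split_ifs at e with a b b
      · exact Fin.ext (hP.inj _ _ a b e)
      · exact absurd e (hzu _ a)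
      · exact absurd e.symm (hzu _ b)
      · exact Fin.ext (by omega)
    · simp only [v]; split_ifs with a
      · exact hP.two _ a
      · exact hz
    · have hr := r.2
      simp only [e8, ne_eq, ite_eq_right_iff, one_ne_zero, imp_false, not_not] at hA
      refine ⟨?_, fun hW => ?_, fun hW => ?_⟩
      · simp only [v]
        rcases hA with ⟨hr1, hr2⟩ | ⟨hs, hr1⟩
        · rw [if_pos (by omega), if_pos (by omega), hr1]; exact hP.adj _ (by omega)
        · rw [if_pos (by omega), if_neg (by omega), hs]; exact hza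
      all_goals (simp only [e8, if_pos hA] at hW; norm_num at hW)
  exact ⟨hF.size_eq e8_good, hF.hasType e8_good⟩

/-- An edge with both ratios at least two, or one at least four, is complete. -/
lemma edge_type {i j : Fin n} (hij : i ≠ j) (hi : T.IsMinusTwo i) (hj : T.IsMinusTwo j)
    (hpos : 0 < T.a i j) (h : (2 * T.w i ≤ T.a i j ∧ 2 * T.w j ≤ T.a i j) ∨
      4 * T.w i ≤ T.a i j ∨ 4 * T.w j ≤ T.a i j) :
    2 = n ∧ (HasType T two22 ∨ HasType T two14) := by
  have h14 : ∀ i j : Fin n, i ≠ j → T.IsMinusTwo i → T.IsMinusTwo j → 0 < T.a i j →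
      4 * T.w i ≤ T.a i j → 2 = n ∧ HasType T two14 := by
    intro i j hij hi hj hpos h
    have hinj : Function.Injective ![i, j] := by
      intro a b e
      fin_cases a <;> fin_cases b <;> simp_all [eq_comm]
    have hF : Fits T two14 ![i, j] := by
      refine ⟨hinj, ?_, fun (s r : Fin 2) hsr hA => ?_⟩
      · intro (a : Fin 2); fin_cases a <;> simp [hi, hj]
      · fin_cases s <;> fin_cases r <;> simp_all [two14]
    exact ⟨hF.size_eq two14_good, hF.hasType two14_good⟩
  rcases h with ⟨h1, h2⟩ | h | h
  · have hinj : Function.Injective ![i, j] := by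
      intro a b e
      fin_cases a <;> fin_cases b <;> simp_all [eq_comm]
    have hF : Fits T two22 ![i, j] := by
      refine ⟨hinj, ?_, fun (s r : Fin 2) hsr hA => ?_⟩
      · intro (a : Fin 2); fin_cases a <;> simp [hi, hj]
      · fin_cases s <;> fin_cases r <;> simp_all [two22]
    exact ⟨hF.size_eq two22_good, .inl (hF.hasType two22_good)⟩
  · exact ⟨(h14 i j hij hi hj hpos h).1, .inr (h14 i j hij hi hj hpos h).2⟩
  · have := h14 j i hij.symm hj hi (a_comm T i j ▸ hpos) (by rw [a_comm T j i]; exact h)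
    exact ⟨this.1, .inr this.2⟩

/-- The kinds of edge between two (-2)-indices when there are at least three indices. -/
lemma edge_cases (hn : 2 < n) {i j : Fin n} (hij : i ≠ j) (hi : T.IsMinusTwo i)
    (hj : T.IsMinusTwo j) (hpos : 0 < T.a i j) :
    Simple T i j ∨ ∃ p : ℤ, (p = 2 ∨ p = 3) ∧
      ((T.a i j = p * T.w i ∧ T.a i j = T.w j) ∨ (T.a i j = T.w i ∧ T.a i j = p * T.w j)) := by
  obtain ⟨p, q, hp, hq, ep, eq'⟩ := exists_factors hpos
  have hwi := T.w_pos i
  have hwj := T.w_pos j
  have hno : ¬((2 ≤ p ∧ 2 ≤ q) ∨ 4 ≤ p ∨ 4 ≤ q) := fun hc => by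
    have := (edge_type hij hi hj hpos ?_).1
    · omega
    rcases hc with ⟨a, b⟩ | a | a
    · exact .inl ⟨ep ▸ mul_le_mul_of_nonneg_right a hwi.le,
        eq' ▸ mul_le_mul_of_nonneg_right b hwj.le⟩
    · exact .inr (.inl (ep ▸ mul_le_mul_of_nonneg_right a hwi.le))
    · exact .inr (.inr (eq' ▸ mul_le_mul_of_nonneg_right a hwj.le))
  rcases (show (p = 1 ∧ q = 1) ∨ ((p = 2 ∨ p = 3) ∧ q = 1) ∨ (p = 1 ∧ (q = 2 ∨ q = 3)) by omega)
    with ⟨a, b⟩ | ⟨a, b⟩ | ⟨a, b⟩
  · subst a b; exact .inl ⟨by linarith, by linarith⟩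
  · subst b; exact .inr ⟨p, a, .inl ⟨ep, by linarith⟩⟩
  · subst a; exact .inr ⟨q, b, .inr ⟨by linarith, eq'⟩⟩

end Groth.Agent.Lib.NumType.Paths
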