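import Groth.Agent.Lib.NumType.Basic
import Mathlib.LinearAlgebra.Dimension.Localization
import Mathlib.LinearAlgebra.FreeModule.PID
import Mathlib.RingTheory.Finiteness.Finsupp
import Mathlib.LinearAlgebra.Isomorphisms

/-!
# The Picard group of a numerical type, permutation of indices, contraction
-/

set_option autoImplicit false

open Finset Models Matrix
open Groth.Agent.Lib.NumType.Basic

namespace Groth.Agent.Lib.NumType.Pic

variable {n : ℕ}

lemma w_mul_pic (T : NumericalType n) (i j : Fin n) : T.w i * T.picMatrix i j = T.a i j :=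
  Int.mul_ediv_cancel' (T.w_dvd i j)

lemma w_mul_pic_vec (T : NumericalType n) (x : Fin n → ℤ) (i : Fin n) :
    T.w i * T.picMatrix.mulVec x i = T.a.mulVec x i := by
  simp only [Matrix.mulVec, dotProduct, Finset.mul_sum, ← mul_assoc, w_mul_pic]

lemma mulVec_eq_zero {T : NumericalType n} {x : Fin n → ℤ} (h : T.a.mulVec x = 0) (i j : Fin n) :
    x i * T.m j = x j * T.m i := by
  -- shift by a large multiple of `m` to make the vector positive
  obtain ⟨N, hN⟩ : ∃ N : ℤ, ∀ k, 0 < x k + N * T.m k := by
    refine ⟨∑ k, |x k| + 1, fun k => ?_⟩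
    have h1 : |x k| ≤ ∑ k, |x k| := Finset.single_le_sum (fun k _ => abs_nonneg (x k)) (mem_univ k)
    have h0 : 0 ≤ |x k| := abs_nonneg _
    have h2 := T.m_pos k
    have h3 := neg_abs_le (x k)
    nlinarith [mul_nonneg (show 0 ≤ (∑ k, |x k|) + 1 by linarith) (show 0 ≤ T.m k - 1 by omega)]
  have := proportional T (fun k => x k + N * T.m k) (fun k => (hN k).le) ⟨i, (hN i).ne'⟩
    (fun k _ => by
      have e : ∑ l, T.a k l * (x l + N * T.m l) = T.a.mulVec x k + N * ∑ l, T.a k l * T.m l := by
        simp only [mul_add, Finset.sum_add_distrib, Finset.mul_sum, Matrix.mulVec, dotProduct,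
          mul_left_comm]
      rw [e, h, sum_row]; simp) i j
  linarith

theorem finrank_pic (T : NumericalType n) : Module.finrank ℤ T.Pic = 1 := by
  have h1 := Submodule.finrank_quotient_add_finrank (LinearMap.range (Matrix.mulVecLin T.picMatrix))
  have h2 := (Submodule.finrank_quotient_add_finrank (LinearMap.ker (Matrix.mulVecLin T.picMatrix)))
  rw [(Matrix.mulVecLin T.picMatrix).quotKerEquivRange.finrank_eq] at h2
  suffices Module.finrank ℤ (LinearMap.ker (Matrix.mulVecLin T.picMatrix)) = 1 by
    show Module.finrank ℤ ((Fin n → ℤ) ⧸ LinearMap.range (Matrix.mulVecLin T.picMatrix)) = 1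
    omega
  have hmem : ∀ x, x ∈ LinearMap.ker (Matrix.mulVecLin T.picMatrix) ↔ T.a.mulVec x = 0 := by
    intro x
    rw [LinearMap.mem_ker, Matrix.mulVecLin_apply]
    constructor
    · intro h; funext i; rw [← w_mul_pic_vec, h]; simp
    · intro h; funext i
      have := w_mul_pic_vec T x i
      rw [h, Pi.zero_apply] at this
      exact (mul_eq_zero.1 this).resolve_left (T.w_pos i).ne'
  let i0 : Fin n := ⟨0, T.pos⟩
  let e : LinearMap.ker (Matrix.mulVecLin T.picMatrix) →ₗ[ℤ] ℤ :=
    LinearMap.proj i0 ∘ₗ Submodule.subtype _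
  have he : Function.Injective e := (injective_iff_map_eq_zero e).2 fun x hx => by
    refine Subtype.ext (funext fun i => ?_)
    have := mulVec_eq_zero ((hmem _).1 x.2) i i0
    simp only [e, LinearMap.comp_apply, LinearMap.proj_apply, Submodule.coe_subtype] at hx
    rw [hx, zero_mul] at this
    exact (mul_eq_zero.1 this).resolve_right (T.m_pos i0).ne'
  have hle := LinearMap.finrank_le_finrank_of_injective he
  rw [Module.finrank_self] at hle
  have : Module.finrank ℤ (LinearMap.ker (Matrix.mulVecLin T.picMatrix)) ≠ 0 := fun h0 => by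
    obtain ⟨c, hc⟩ := Module.finrank_eq_zero_iff.1 h0 ⟨T.m, (hmem _).2 T.mulVec_m⟩
    have := congrFun (congrArg Subtype.val hc.2) i0
    simp only [Submodule.coe_smul, Pi.smul_apply, smul_eq_mul, Submodule.coe_zero, Pi.zero_apply,
      mul_eq_zero] at this
    exact this.elim hc.1 (T.m_pos i0).ne'
  omega

/-- The map from the Picard group to the cokernel of the intersection matrix. -/
def toCokerA (T : NumericalType n) : T.Pic →ₗ[ℤ] T.CokerA :=
  Submodule.mapQ _ _ (LinearMap.pi fun i => T.w i • LinearMap.proj i) (by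
    rintro x ⟨y, rfl⟩
    refine ⟨y, funext fun i => ?_⟩
    simp [w_mul_pic_vec])

lemma toCokerA_mk (T : NumericalType n) (x : Fin n → ℤ) :
    toCokerA T (Submodule.Quotient.mk x) = Submodule.Quotient.mk (fun i => T.w i * x i) := rfl

lemma toCokerA_injective (T : NumericalType n) : Function.Injective (toCokerA T) := by
  refine (injective_iff_map_eq_zero (toCokerA T)).2 fun x hx => ?_
  obtain ⟨x, rfl⟩ := Submodule.Quotient.mk_surjective _ x
  rw [toCokerA_mk, Submodule.Quotient.mk_eq_zero] at hx
  obtain ⟨y, hy⟩ := hx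
  rw [Submodule.Quotient.mk_eq_zero]
  refine ⟨y, funext fun i => mul_left_cancel₀ (T.w_pos i).ne' ?_⟩
  rw [Matrix.mulVecLin_apply, w_mul_pic_vec]
  exact congrFun hy i

/-- A numerical type with permuted indices. -/
def reindex (T : NumericalType n) (σ : Equiv.Perm (Fin n)) : NumericalType n where
  m := T.m ∘ σ
  a := T.a.submatrix σ σ
  w := T.w ∘ σ
  g := T.g ∘ σ
  pos := T.pos
  m_pos i := T.m_pos _
  w_pos i := T.w_pos _
  g_nonneg i := T.g_nonneg _
  symm := T.symm.submatrix _
  offDiag_nonneg i j h := T.offDiag_nonneg _ _ fun e => h (σ.injective e)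
  connected I hI hne := by
    classical
    obtain ⟨i, hi, j, hj, h⟩ := T.connected (I.map σ.toEmbedding) (hI.map) (fun e => hne (by
      rw [eq_univ_iff_forall] at e ⊢
      intro x
      simpa using e (σ x)))
    simp only [mem_map, Equiv.coe_toEmbedding] at hi hj
    obtain ⟨i, hi, rfl⟩ := hi
    exact ⟨i, hi, σ.symm j, fun h' => hj ⟨_, h', σ.apply_symm_apply j⟩, by simpa using h⟩
  mulVec_m := by
    funext i
    simp only [Matrix.mulVec, dotProduct, Matrix.submatrix_apply, Function.comp_apply, Pi.zero_apply]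
    rw [Equiv.sum_comp σ (fun j => T.a (σ i) j * T.m j)]
    exact sum_row T (σ i)
  w_dvd i j := T.w_dvd _ _

lemma reindex_genus (T : NumericalType n) (σ : Equiv.Perm (Fin n)) :
    (reindex T σ).genus = T.genus := by
  simp only [NumericalType.genus, reindex, Function.comp_apply, Matrix.submatrix_apply]
  rw [Equiv.sum_comp σ (fun i => T.m i * T.w i * (T.g i - 1)),
    Equiv.sum_comp σ (fun i => T.m i * T.a i i)]

/-- The Picard group does not depend on the order of the indices. -/
noncomputable def reindexPic (T : NumericalType n) (σ : Equiv.Perm (Fin n)) :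
    T.Pic ≃ₗ[ℤ] (reindex T σ).Pic :=
  Submodule.Quotient.equiv _ _ (LinearEquiv.funCongrLeft ℤ ℤ σ) (by
    have key : (LinearEquiv.funCongrLeft ℤ ℤ σ).toLinearMap ∘ₗ Matrix.mulVecLin T.picMatrix =
        Matrix.mulVecLin (reindex T σ).picMatrix ∘ₗ (LinearEquiv.funCongrLeft ℤ ℤ σ).toLinearMap := by
      ext x i
      simp only [LinearMap.coe_comp, LinearEquiv.coe_coe, Function.comp_apply,
        LinearEquiv.funCongrLeft_apply, LinearMap.funLeft_apply, Matrix.mulVecLin_apply,
        Matrix.mulVec, dotProduct]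
      rw [← Equiv.sum_comp σ]
      exact Finset.sum_congr rfl fun j _ => rfl
    erw [← LinearMap.range_comp, key, LinearMap.range_comp_of_range_eq_top]
    exact LinearEquiv.range _)

end Groth.Agent.Lib.NumType.Pic
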