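import Groth.Agent.Lib.NumType.Bound
import Groth.Agent.Lib.NumType.Circulation
import Groth.Agent.Lib.NumType.Contract
import Mathlib.GroupTheory.FiniteAbelian.Basic
import Mathlib.Algebra.Module.ZMod

/-!
# Torsion in the Picard group of a numerical type
-/

set_option autoImplicit false

open Finset Models
open Groth.Agent.Lib.NumType.Basic

namespace Groth.Agent.Lib.NumType.PicTorsion

lemma finite_torsionBy {M : Type*} [AddCommGroup M] [Module.Finite ℤ M] (ℓ : ℕ) (hℓ : ℓ ≠ 0) :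
    Finite (Submodule.torsionBy ℤ M (ℓ : ℤ)) := by
  refine Module.finite_of_fg_torsion _ fun x => ⟨⟨(ℓ : ℤ), mem_nonZeroDivisors_iff_ne_zero.2 ?_⟩, ?_⟩
  · exact_mod_cast hℓ
  · exact Subtype.ext ((Submodule.mem_torsionBy_iff _ _).1 x.2)

lemma card_torsionBy_le {M N : Type*} [AddCommGroup M] [AddCommGroup N] [Module.Finite ℤ N]
    (f : M →ₗ[ℤ] N) (hf : Function.Injective f) (ℓ : ℕ) (hℓ : ℓ ≠ 0) :
    Nat.card (Submodule.torsionBy ℤ M (ℓ : ℤ)) ≤ Nat.card (Submodule.torsionBy ℤ N (ℓ : ℤ)) := by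
  have := finite_torsionBy (M := N) ℓ hℓ
  refine Nat.card_le_card_of_injective (fun x => ⟨f x.1, ?_⟩)
    fun x y h => Subtype.ext (hf (congrArg Subtype.val h))
  rw [Submodule.mem_torsionBy_iff, ← map_smul, (Submodule.mem_torsionBy_iff _ _).1 x.2, map_zero]

lemma card_one (T : NumericalType 1) (ℓ : ℕ) (hℓ : ℓ ≠ 0) :
    Nat.card (Submodule.torsionBy ℤ T.Pic (ℓ : ℤ)) = 1 := by
  have h0 : T.picMatrix = 0 := by
    ext i j
    rw [Subsingleton.elim i 0, Subsingleton.elim j 0]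
    simp [NumericalType.picMatrix, diag_zero_of_one T]
  have hr : LinearMap.range (Matrix.mulVecLin T.picMatrix) = ⊥ := by
    rw [h0, Matrix.mulVecLin_zero, LinearMap.range_zero]
  let e : T.Pic ≃ₗ[ℤ] (Fin 1 → ℤ) := Submodule.quotEquivOfEqBot _ hr
  have : Submodule.torsionBy ℤ T.Pic (ℓ : ℤ) = ⊥ := by
    refine (Submodule.eq_bot_iff _).2 fun x hx => e.injective ?_
    have h := congrArg e ((Submodule.mem_torsionBy_iff _ _).1 hx)
    rw [map_smul, map_zero] at h
    rw [map_zero]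
    exact (smul_eq_zero.1 h).resolve_left (by exact_mod_cast hℓ)
  rw [this]
  exact Nat.card_unique

theorem minimal_bound {n : ℕ} (T : NumericalType n) (hmin : T.IsMinimal) (hg : 2 ≤ T.genus) (ℓ : ℕ)
    (hℓ : ℓ.Prime) (hℓg : 768 * T.genus < ℓ) :
    Nat.card (Submodule.torsionBy ℤ T.Pic (ℓ : ℤ)) ≤ ℓ ^ T.topGenus.toNat ∧ T.topGenus ≤ T.genus := by
  rcases Nat.lt_or_ge 1 n with hn | hn
  swap
  · obtain rfl : n = 1 := by have := T.pos; omega
    refine ⟨(card_one T ℓ hℓ.ne_zero).le.trans (Nat.one_le_pow _ _ hℓ.pos), ?_⟩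
    have : T.edgeCount = 0 := by
      rw [NumericalType.edgeCount, Finset.card_eq_zero, Finset.filter_eq_empty_iff]
      intro p _ h
      exact absurd h.1 (by simp [Subsingleton.elim p.1 p.2])
    simp only [NumericalType.topGenus, this]
    omega
  refine ⟨?_, Edges.topGenus_le_genus T hmin hn⟩
  have : Fact ℓ.Prime := ⟨hℓ⟩
  have hsmall : ∀ z : ℤ, z ≠ 0 → |z| ≤ 768 * T.genus → ¬(ℓ : ℤ) ∣ z := fun z hz hle hd => by
    have := Int.le_of_dvd (abs_pos.2 hz) ((dvd_abs _ _).2 hd)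
    linarith
  have h1 := card_torsionBy_le (Pic.toCokerA T) (Pic.toCokerA_injective T) ℓ hℓ.ne_zero
  have h2 := Circulation.card_torsion_le (ℓ := ℓ) T.m T.symm T.offDiag_nonneg T.mulVec_m T.connected
    (fun i j hij => hsmall _ hij (by
      have := Bound.mul_abs_le hmin hg i j
      have := T.m_pos i
      nlinarith [abs_nonneg (T.a i j)]))
    (fun i => hsmall _ (T.m_pos i).ne' (by
      have := Bound.mul_abs_le hmin hg i i
      have h : 1 ≤ |T.a i i| := abs_pos.2 (diag_neg T hn i).ne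
      rw [abs_of_pos (T.m_pos i)]
      nlinarith [T.m_pos i]))
  refine h1.trans (h2.trans (le_of_eq (congrArg (ℓ ^ ·) ?_)))
  simp only [NumericalType.topGenus, NumericalType.edgeCount]
  omega

theorem bound : ∀ {n : ℕ} (T : NumericalType n), 2 ≤ T.genus → ∀ (ℓ : ℕ), ℓ.Prime → 768 * T.genus < ℓ →
    Nat.card (Submodule.torsionBy ℤ T.Pic (ℓ : ℤ)) ≤ ℓ ^ T.genus.toNat
  | 0, T, _, _, _, _ => absurd T.pos (lt_irrefl 0)
  | n + 1, T, hg, ℓ, hℓ, hℓg => by
    by_cases hmin : T.IsMinimal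
    · obtain ⟨h1, h2⟩ := minimal_bound T hmin hg ℓ hℓ hℓg
      exact h1.trans (Nat.pow_le_pow_right hℓ.pos (by omega))
    · obtain ⟨T', f, hf, hgen⟩ := Contract.exists_contraction T hmin
      have := bound T' (by rw [hgen]; exact hg) ℓ hℓ (by rw [hgen]; exact hℓg)
      rw [hgen] at this
      exact (card_torsionBy_le f hf ℓ hℓ.ne_zero).trans this

end Groth.Agent.Lib.NumType.PicTorsion
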