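import Groth.Agent.Lib.NumType.Contract
import Mathlib.LinearAlgebra.Dimension.Free

/-!
# The Picard group in genus at most zero
-/

set_option autoImplicit false

open Finset Models
open Groth.Agent.Lib.NumType.Basic Groth.Agent.Lib.NumType.Pic Groth.Agent.Lib.NumType.Contract

namespace Groth.Agent.Lib.NumType.PicZero

theorem pic_equiv_int : ∀ {n : ℕ} (T : NumericalType n), T.genus ≤ 0 → Nonempty (T.Pic ≃ₗ[ℤ] ℤ)
  | 0, T, _ => absurd T.pos (lt_irrefl 0)
  | 1, T, _ => by
    have h0 : T.picMatrix = 0 := by
      ext i j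
      rw [Subsingleton.elim i 0, Subsingleton.elim j 0]
      simp [NumericalType.picMatrix, diag_zero_of_one T]
    have hr : LinearMap.range (Matrix.mulVecLin T.picMatrix) = ⊥ := by
      rw [h0, Matrix.mulVecLin_zero, LinearMap.range_zero]
    exact ⟨(Submodule.quotEquivOfEqBot _ hr).trans (LinearEquiv.funUnique (Fin 1) ℤ ℤ)⟩
  | n + 2, T, hg => by
    have hnm : ¬T.IsMinimal := fun hmin => by
      have := one_le_genus T hmin (by omega)
      omega
    obtain ⟨T', f, hf, hgen⟩ := exists_contraction T hnm
    obtain ⟨e⟩ := pic_equiv_int T' (by omega)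
    have hinj : Function.Injective (e.toLinearMap ∘ₗ f) := e.injective.comp hf
    have : Module.IsTorsionFree ℤ T.Pic := Module.IsTorsionFree.of_smul_eq_zero fun c x hx => by
      have h : c * (e.toLinearMap ∘ₗ f) x = 0 := by
        rw [← smul_eq_mul, ← map_smul, hx, map_zero]
      exact (mul_eq_zero.1 h).imp id fun h => hinj (h.trans (map_zero _).symm)
    have : Module.Free ℤ T.Pic := Module.free_of_finite_type_torsion_free'
    exact ⟨(Module.finBasisOfFinrankEq ℤ T.Pic (finrank_pic T)).equivFun.trans
      (LinearEquiv.funUnique (Fin 1) ℤ ℤ)⟩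

end Groth.Agent.Lib.NumType.PicZero
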