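import Groth.Agent.Lib.NumType.Paths

/-!
# Proper configurations of (-2)-indices
-/

set_option autoImplicit false

open Finset Models
open Groth.Agent.Lib.NumType.Basic Groth.Agent.Lib.NumType.Paths

namespace Groth.Agent.Lib.NumType.Proper

variable {n : ℕ} {T : NumericalType n}

lemma row_le {i : Fin n} (hi : T.IsMinusTwo i) (S : Finset (Fin n)) (hiS : i ∉ S) :
    ∑ j ∈ S, T.a i j * T.m j ≤ 2 * T.w i * T.m i := by
  have h := sum_off T i
  rw [hi.2] at h
  calc ∑ j ∈ S, T.a i j * T.m j ≤ ∑ j ∈ univ.erase i, T.a i j * T.m j :=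
        Finset.sum_le_sum_of_subset_of_nonneg
          (fun j hj => by simp only [mem_erase, mem_univ, and_true]; exact fun e => hiS (e ▸ hj))
          (fun j hj _ => mul_nonneg (off_nonneg T hj) (T.m_pos j).le)
    _ = _ := by rw [h]; ring

/-- A sequence from an embedding. -/
def seq {t : ℕ} [NeZero t] (v : Fin t → Fin n) (i : ℕ) : Fin n := v (Fin.ofNat t i)

lemma seq_val {t : ℕ} [NeZero t] (v : Fin t → Fin n) {i : ℕ} (hi : i < t) :
    seq v i = v ⟨i, hi⟩ := by
  unfold seq; congr 1; ext; simp [Fin.ofNat, Nat.mod_eq_of_lt hi]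

lemma path_seq {t : ℕ} [NeZero t] (v : Fin t → Fin n) (hv : Function.Injective v)
    (h2 : ∀ j, T.IsMinusTwo (v j))
    (h : ∀ j j' : Fin t, j'.val = j.val + 1 → T.a (v j) (v j') ≠ 0) : Path T t (seq v) where
  inj i j hi hj e := by
    rw [seq_val v hi, seq_val v hj] at e
    exact congrArg Fin.val (hv e)
  two i hi := h2 _
  adj i hi := by
    rw [seq_val v (by omega : i < t), seq_val v hi]
    exact pos_of_ne_zero T (fun e => by have := congrArg Fin.val (hv e); simp at this)
      (h _ _ rfl)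

variable {t : ℕ} {u : ℕ → Fin n}

lemma no_chord (hP : Path T t u) (ht : t < n) {i j : ℕ} (hij : i + 1 < j) (hj : j < t) :
    T.a (u i) (u j) = 0 := by
  by_contra hne
  have h0 : 0 < T.a (u (i + 0)) (u (i + (j - i + 1 - 1))) := by
    rw [Nat.add_zero, show i + (j - i + 1 - 1) = j by omega]
    exact pos_of_ne_zero T (fun e => absurd (hP.inj _ _ (by omega) (by omega) e) (by omega)) hne
  have := ((hP.sub i (j - i + 1) (by omega)).cycle_type (by omega) h0).1
  omega

lemma one_double (hP : Path T t u) (ht : t < n) {k l : ℕ} (hkl : k < l) (hl : l + 1 < t)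
    (hk : Double T (u k) (u (k + 1))) : ¬Double T (u l) (u (l + 1)) := fun hl' => by
  have := ((hP.sub k (l - k + 2) (by omega)).double_double_type (by omega) hk (by
    show Double T (u (k + (l - k + 2 - 2))) (u (k + (l - k + 2 - 1)))
    rw [show k + (l - k + 2 - 2) = l by omega, show k + (l - k + 2 - 1) = l + 1 by omega]
    exact hl')).1
  omega

lemma double_at_end (hP : Path T t u) (ht : t < n) (h5 : 5 ≤ t) {k : ℕ} (hk : k + 1 < t)
    (hD : Double T (u k) (u (k + 1))) : k = 0 ∨ k + 2 = t := by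
  by_contra hc
  by_cases h : 2 ≤ k ∧ k + 3 ≤ t
  · have := ((hP.sub (k - 2) 5 (by omega)).f4_type (by
      show Double T (u (k - 2 + 2)) (u (k - 2 + 3))
      rw [show k - 2 + 2 = k by omega, show k - 2 + 3 = k + 1 by omega]; exact hD)).1
    omega
  · have := (((hP.sub (k - 1) 5 (by omega)).rev).f4_type (by
      show Double T (u (k - 1 + (5 - 1 - 2))) (u (k - 1 + (5 - 1 - 3)))
      rw [show k - 1 + (5 - 1 - 2) = k + 1 by omega, show k - 1 + (5 - 1 - 3) = k by omega]
      exact hD.symm)).1
    omega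

/-- An edge in a proper path of length at least three. -/
lemma edge_in_path (hP : Path T t u) (ht : t < n) (h3 : 3 ≤ t) {k : ℕ} (hk : k + 1 < t) :
    Simple T (u k) (u (k + 1)) ∨
      (T.a (u k) (u (k + 1)) = 2 * T.w (u k) ∧ T.w (u (k + 1)) = 2 * T.w (u k)) ∨
      (T.a (u k) (u (k + 1)) = T.w (u k) ∧ T.w (u k) = 2 * T.w (u (k + 1))) := by
  obtain hS | ⟨p, hp, hpq⟩ := edge_cases (by omega)
    (fun e => absurd (hP.inj _ _ (by omega) (by omega) e) (by omega)) (hP.two k (by omega))
    (hP.two (k + 1) hk) (hP.adj k hk)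
  · exact .inl hS
  obtain rfl | rfl := hp
  · rcases hpq with ⟨e, e'⟩ | ⟨e, e'⟩
    · exact .inr (.inl ⟨e, by linarith⟩)
    · exact .inr (.inr ⟨e, by linarith⟩)
  · exfalso
    by_cases h2 : k + 2 < t
    · have := ((hP.sub k 3 (by omega)).g2_type (by
        show 3 * T.w (u (k + 0)) ≤ T.a (u (k + 0)) (u (k + 1)) ∨
          3 * T.w (u (k + 1)) ≤ T.a (u (k + 0)) (u (k + 1))
        rw [Nat.add_zero]
        rcases hpq with ⟨e, -⟩ | ⟨-, e⟩
        · exact .inl e.ge
        · exact .inr e.ge)).1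
      omega
    · have := (((hP.sub (t - 3) 3 (by omega)).rev).g2_type (by
        show 3 * T.w (u (t - 3 + (3 - 1 - 0))) ≤ T.a (u (t - 3 + (3 - 1 - 0))) (u (t - 3 + (3 - 1 - 1))) ∨
          3 * T.w (u (t - 3 + (3 - 1 - 1))) ≤ T.a (u (t - 3 + (3 - 1 - 0))) (u (t - 3 + (3 - 1 - 1)))
        rw [show t - 3 + (3 - 1 - 0) = k + 1 by omega, show t - 3 + (3 - 1 - 1) = k by omega,
          a_comm T (u (k + 1))]
        rcases hpq with ⟨e, -⟩ | ⟨-, e⟩
        · exact .inr e.ge
        · exact .inl e.ge)).1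
      omega

lemma w_const {a b : ℕ} (h : ∀ i, a ≤ i → i < b → Simple T (u i) (u (i + 1))) :
    ∀ i, a ≤ i → i ≤ b → T.w (u i) = T.w (u a) := by
  intro i hai
  induction i, hai using Nat.le_induction with
  | base => exact fun _ => rfl
  | succ i hai ih =>
    intro hib
    obtain ⟨e, e'⟩ := h i hai (by omega)
    rw [← ih (by omega), ← e, e']

/-- All weights equal, all edges simple. -/
def ShapeA (T : NumericalType n) (t : ℕ) (u : ℕ → Fin n) (w : ℤ) : Prop :=
  (∀ i, i < t → T.w (u i) = w) ∧ ∀ i, i + 1 < t → T.a (u i) (u (i + 1)) = w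

/-- The last index is heavier. -/
def ShapeC (T : NumericalType n) (t : ℕ) (u : ℕ → Fin n) (w : ℤ) : Prop :=
  (∀ i, i + 1 < t → T.w (u i) = w) ∧ T.w (u (t - 1)) = 2 * w ∧
    (∀ i, i + 2 < t → T.a (u i) (u (i + 1)) = w) ∧ T.a (u (t - 2)) (u (t - 1)) = 2 * w

/-- The last index is lighter. -/
def ShapeB (T : NumericalType n) (t : ℕ) (u : ℕ → Fin n) (w : ℤ) : Prop :=
  (∀ i, i + 1 < t → T.w (u i) = 2 * w) ∧ T.w (u (t - 1)) = w ∧
    ∀ i, i + 1 < t → T.a (u i) (u (i + 1)) = 2 * w

/-- The exceptional chain of four indices. -/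
def ShapeF (T : NumericalType n) (t : ℕ) (u : ℕ → Fin n) (w : ℤ) : Prop :=
  t = 4 ∧ T.w (u 0) = w ∧ T.w (u 1) = w ∧ T.w (u 2) = 2 * w ∧ T.w (u 3) = 2 * w ∧
    T.a (u 0) (u 1) = w ∧ T.a (u 1) (u 2) = 2 * w ∧ T.a (u 2) (u 3) = 2 * w

/-- Proper chains of at least three indices. -/
theorem chain_shape (hP : Path T t u) (ht : t < n) (h3 : 3 ≤ t) :
    ∃ (u' : ℕ → Fin n) (w : ℤ), ((∀ i, i < t → u' i = u i) ∨ ∀ i, i < t → u' i = u (t - 1 - i)) ∧
      Path T t u' ∧ (ShapeA T t u' w ∨ ShapeC T t u' w ∨ ShapeB T t u' w ∨ ShapeF T t u' w) := by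
  -- the double edge is the last one
  have endCase : ∀ u : ℕ → Fin n, Path T t u → Double T (u (t - 2)) (u (t - 1)) →
      ∃ w, ShapeC T t u w ∨ ShapeB T t u w := by
    intro u hP hD
    have hs : ∀ i, i < t - 2 → Simple T (u i) (u (i + 1)) := fun i hi =>
      (simple_or_double (hP.adj i (by omega))).resolve_right fun h =>
        one_double hP ht hi (by omega) h (by rwa [show t - 2 + 1 = t - 1 by omega])
    have hw : ∀ i, i + 1 < t → T.w (u i) = T.w (u (t - 2)) := fun i hi => by
      rw [w_const (a := 0) (b := t - 2) (fun i _ h => hs i h) i (Nat.zero_le _) (by omega),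
        w_const (a := 0) (b := t - 2) (fun i _ h => hs i h) (t - 2) (Nat.zero_le _) le_rfl]
    have he := edge_in_path hP ht h3 (k := t - 2) (by omega)
    rw [show t - 2 + 1 = t - 1 by omega] at he
    rcases he with h | ⟨h, h'⟩ | ⟨h, h'⟩
    · have := T.w_pos (u (t - 2))
      have := T.w_pos (u (t - 1))
      rcases hD.2 with h2 | h2
      · rw [h.1] at h2; omega
      · rw [h.2] at h2; omega
    · exact ⟨T.w (u (t - 2)), .inl ⟨hw, h', fun i hi => by
        rw [(hs i (by omega)).1, hw i (by omega)], h⟩⟩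
    · refine ⟨T.w (u (t - 1)), .inr ⟨fun i hi => by rw [hw i hi, h'], rfl, fun i hi => ?_⟩⟩
      by_cases hi' : i = t - 2
      · rw [hi', show t - 2 + 1 = t - 1 by omega, h, h']
      · rw [(hs i (by omega)).1, hw i hi, h']
  -- the double edge in the middle of four indices
  have midCase : ∀ u : ℕ → Fin n, Path T t u → t = 4 → T.a (u 1) (u 2) = 2 * T.w (u 1) →
      T.w (u 2) = 2 * T.w (u 1) → ShapeF T t u (T.w (u 1)) := by
    intro u hP h4 e e'
    have hD : Double T (u 1) (u 2) := ⟨hP.adj 1 (by omega), .inl e.ge⟩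
    have hs0 := (simple_or_double (hP.adj 0 (by omega))).resolve_right fun h =>
      one_double hP ht (show 0 < 1 by omega) (by omega) h hD
    have hs2 := (simple_or_double (hP.adj 2 (by omega))).resolve_right fun h =>
      one_double hP ht (show 1 < 2 by omega) (by omega) hD h
    simp only [Nat.zero_add, Nat.reduceAdd] at hs0 hs2
    obtain ⟨f1, f2⟩ := hs0
    obtain ⟨f3, f4⟩ := hs2
    exact ⟨h4, by linarith, rfl, e', by linarith, f2, e, by linarith⟩
  by_cases hex : ∃ k, k + 1 < t ∧ Double T (u k) (u (k + 1))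
  · obtain ⟨k, hk, hD⟩ := hex
    by_cases hlast : k + 2 = t
    · obtain ⟨w, h⟩ := endCase u hP (by rwa [show t - 2 = k by omega, show t - 1 = k + 1 by omega])
      exact ⟨u, w, .inl fun i _ => rfl, hP, .inr (h.imp id .inl)⟩
    by_cases hfirst : k = 0
    · subst hfirst
      obtain ⟨w, h⟩ := endCase _ hP.rev (by
        show Double T (u (t - 1 - (t - 2))) (u (t - 1 - (t - 1)))
        rw [show t - 1 - (t - 2) = 1 by omega, Nat.sub_self]; exact hD.symm)
      exact ⟨fun i => u (t - 1 - i), w, .inr fun i _ => rfl, hP.rev, .inr (h.imp id .inl)⟩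
    have h4 : t = 4 := by
      by_contra hne
      have : 5 ≤ t := by omega
      have := double_at_end hP ht this hk hD
      omega
    obtain rfl : k = 1 := by omega
    rcases edge_in_path hP ht h3 hk with h | ⟨h, h'⟩ | ⟨h, h'⟩
    · have := T.w_pos (u 1)
      have := T.w_pos (u (1 + 1))
      rcases hD.2 with h2 | h2
      · rw [h.1] at h2; omega
      · rw [h.2] at h2; omega
    · exact ⟨u, _, .inl fun i _ => rfl, hP, .inr (.inr (.inr (midCase u hP h4 h h')))⟩
    · refine ⟨fun i => u (t - 1 - i), _, .inr fun i _ => rfl, hP.rev,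
        .inr (.inr (.inr (midCase _ hP.rev h4 ?_ ?_)))⟩
      · show T.a (u (t - 1 - 1)) (u (t - 1 - 2)) = 2 * T.w (u (t - 1 - 1))
        rw [show t - 1 - 1 = 1 + 1 by omega, show t - 1 - 2 = 1 by omega, a_comm, h, h']
      · show T.w (u (t - 1 - 2)) = 2 * T.w (u (t - 1 - 1))
        rw [show t - 1 - 1 = 1 + 1 by omega, show t - 1 - 2 = 1 by omega, h']
  · have hs : ∀ i, i + 1 < t → Simple T (u i) (u (i + 1)) := fun i hi =>
      (simple_or_double (hP.adj i hi)).resolve_right fun h => hex ⟨i, hi, h⟩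
    have hw : ∀ i, i < t → T.w (u i) = T.w (u 0) := fun i hi =>
      w_const (a := 0) (b := t - 1) (fun i _ h => hs i (by omega)) i (Nat.zero_le _) (by omega)
    exact ⟨u, T.w (u 0), .inl fun i _ => rfl, hP,
      .inl ⟨hw, fun i hi => by rw [(hs i hi).1, hw i (by omega)]⟩⟩

/-- Proper trees with one branch. -/
theorem tree_shape (hP : Path T t u) {z : Fin n} (hz : T.IsMinusTwo z)
    (hzu : ∀ i, i < t → u i ≠ z) {k : ℕ} (hk1 : 1 ≤ k) (hk2 : k + 2 ≤ t) (ht : t + 1 < n)
    (hza : T.a (u k) z ≠ 0) :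
    ∃ w, ShapeA T t u w ∧ T.w z = w ∧ T.a (u k) z = w ∧
      (∀ i j, i + 1 < j → j < t → T.a (u i) (u j) = 0) ∧
      ∀ i, i < t → i ≠ k → T.a (u i) z = 0 := by
  have hka : 0 < T.a (u k) z := pos_of_ne_zero T (hzu k (by omega)) hza
  have hno : ∀ {l : ℕ} {w : ℕ → Fin n}, Path T l w → 3 ≤ l → l ≤ t → ∀ {y : Fin n},
      T.IsMinusTwo y → (∀ i, i < l → w i ≠ y) → 0 < T.a (w (l - 2)) y →
      Double T (w 0) (w 1) → False := fun hw h3 hl y hy hyu hya hD => by
    have := (hw.double_fork_type h3 hy hyu hya hD).1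
    omega
  have hs : ∀ e, e + 1 < t → Simple T (u e) (u (e + 1)) := by
    intro e he
    refine (simple_or_double (hP.adj e he)).resolve_right fun hD => ?_
    by_cases hek : e < k
    · refine hno (hP.sub e (k - e + 2) (by omega)) (by omega) (by omega) hz
        (fun i hi => hzu _ (by omega)) ?_ hD
      show 0 < T.a (u (e + (k - e + 2 - 2))) z
      rw [show e + (k - e + 2 - 2) = k by omega]; exact hka
    · refine hno ((hP.sub (k - 1) (e - k + 3) (by omega)).rev) (by omega) (by omega) hz
        (fun i hi => hzu _ (by omega)) ?_ ?_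
      · show 0 < T.a (u (k - 1 + (e - k + 3 - 1 - (e - k + 3 - 2)))) z
        rw [show k - 1 + (e - k + 3 - 1 - (e - k + 3 - 2)) = k by omega]; exact hka
      · show Double T (u (k - 1 + (e - k + 3 - 1 - 0))) (u (k - 1 + (e - k + 3 - 1 - 1)))
        rw [show k - 1 + (e - k + 3 - 1 - 0) = e + 1 by omega,
          show k - 1 + (e - k + 3 - 1 - 1) = e by omega]
        exact hD.symm
  have hzk : Simple T (u k) z := by
    refine (simple_or_double hka).resolve_right fun hD => ?_
    let w : ℕ → Fin n := fun i => if i = 0 then z else if i = 1 then u k else u (k + 1)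
    have w0 : w 0 = z := rfl
    have w1 : w 1 = u k := rfl
    have w2 : w 2 = u (k + 1) := rfl
    have hw : Path T 3 w := by
      refine ⟨?_, ?_, ?_⟩
      · intro i j hi hj e
        obtain rfl | rfl | rfl : i = 0 ∨ i = 1 ∨ i = 2 := by omega
        all_goals obtain rfl | rfl | rfl : j = 0 ∨ j = 1 ∨ j = 2 := by omega
        all_goals simp only [w0, w1, w2] at e
        all_goals first
          | rfl
          | exact absurd e.symm (hzu _ (by omega))
          | exact absurd e (hzu _ (by omega))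
          | exact absurd (hP.inj _ _ (by omega) (by omega) e) (by omega)
      · intro i hi
        obtain rfl | rfl | rfl : i = 0 ∨ i = 1 ∨ i = 2 := by omega
        exacts [w0 ▸ hz, w1 ▸ hP.two _ (by omega), w2 ▸ hP.two _ (by omega)]
      · intro i hi
        obtain rfl | rfl : i = 0 ∨ i = 1 := by omega
        · rw [w0, w1, a_comm]; exact hka
        · rw [w1, w2]; exact hP.adj k (by omega)
    refine hno hw le_rfl (by omega) (hP.two (k - 1) (by omega)) ?_ ?_ ?_
    · intro i hi
      obtain rfl | rfl | rfl : i = 0 ∨ i = 1 ∨ i = 2 := by omega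
      · rw [w0]; exact Ne.symm (hzu _ (by omega))
      · rw [w1]; exact fun e => absurd (hP.inj _ _ (by omega) (by omega) e) (by omega)
      · rw [w2]; exact fun e => absurd (hP.inj _ _ (by omega) (by omega) e) (by omega)
    · show 0 < T.a (w 1) (u (k - 1))
      have := hP.adj (k - 1) (by omega)
      rw [show k - 1 + 1 = k by omega, a_comm] at this
      rw [w1]; exact this
    · rw [w0, w1]; exact hD.symm
  have hw : ∀ i, i < t → T.w (u i) = T.w (u 0) := fun i hi =>
    w_const (a := 0) (b := t - 1) (fun i _ h => hs i (by omega)) i (Nat.zero_le _) (by omega)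
  refine ⟨T.w (u 0), ⟨hw, fun i hi => by rw [(hs i hi).1, hw i (by omega)]⟩,
    by rw [← hzk.2, hzk.1, hw k (by omega)], by rw [hzk.1, hw k (by omega)],
    fun i j hij hj => no_chord hP (by omega) hij hj, fun i hi hik => ?_⟩
  by_contra hne
  have hcyc : ∀ i j, i < j → j < t → 0 < T.a (u i) z → 0 < T.a (u j) z → False := by
    intro i j hij hj hi' hj'
    let w : ℕ → Fin n := fun s => if s = 0 then z else u (i + (s - 1))
    have hwz : w 0 = z := rfl
    have hws : ∀ s, s ≠ 0 → w s = u (i + (s - 1)) := fun s hs => if_neg hs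
    have hW : Path T (j - i + 2) w := by
      refine ⟨?_, ?_, ?_⟩
      · intro r s hr hs' e
        by_cases a : r = 0 <;> by_cases b : s = 0
        · omega
        · rw [a, hwz, hws s b] at e; exact absurd e.symm (hzu _ (by omega))
        · rw [b, hwz, hws r a] at e; exact absurd e (hzu _ (by omega))
        · rw [hws r a, hws s b] at e
          have := hP.inj _ _ (by omega) (by omega) e
          omega
      · intro s hs'
        by_cases a : s = 0
        · rw [a, hwz]; exact hz
        · rw [hws s a]; exact hP.two _ (by omega)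
      · intro s hs'
        by_cases a : s = 0
        · rw [a, hwz, hws _ (by omega), a_comm]
          exact hi'
        · rw [hws s a, hws _ (by omega)]
          have := hP.adj (i + (s - 1)) (by omega)
          rwa [show i + (s - 1) + 1 = i + (s + 1 - 1) by omega] at this
    have := (hW.cycle_type (by omega) (by
      rw [hwz, hws _ (by omega), show i + (j - i + 2 - 1 - 1) = j by omega, a_comm]
      exact hj')).1
    omega
  have hi' : 0 < T.a (u i) z := pos_of_ne_zero T (hzu i hi) hne
  rcases Nat.lt_or_ge i k with h | h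
  · exact hcyc i k h (by omega) hi' hka
  · exact hcyc k i (by omega) hi hka hi'

end Groth.Agent.Lib.NumType.Proper
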